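import Cfsg.Agent.Omega.HOneQ.FrOf
import Cfsg.Agent.Omega.Lie.End.KLTwo
import Cfsg.Agent.Omega.Lie.End.OfLay

/-!
# II.0h1, SPLIT, `q ≥ 4`: `T` does not act on a component `L₂(Q)` by field automorphisms

* `cen_act` : `u ∈ S` commuting with `A` and `T` acts on `M' = W i / Z(W i)` as `x ↦ x + e (κ ω x)`;
* `card_le` : an abelian subgroup `P ≤ S` whose nontrivial elements are conjugate in `H⁰` and which contains such an
  element `u ≠ 1` has at most `q` elements;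
* **`no_exc`** : `KExc` does not occur for a component met by `A`.
-/

set_option autoImplicit false
set_option linter.unusedSectionVars false

namespace Cfsg.Agent.Omega.HOneQ.NoExc

open Subgroup Cfsg Cfsg.Agent.Omega.BTwo Cfsg.Agent.Omega.Lie Cfsg.Agent.Omega.Lie.Quot
open Cfsg.Agent.Omega.HOneQ.ECen Cfsg.Agent.Omega.HOneQ.Fr Cfsg.Agent.Omega.HOne.ModZ
open Cfsg.Agent.Omega.Lie.Layer (OddC InnC InnA Cps)

universe u v w

variable {G : Type u} [Group G] {ι : Type w} {V : Subgroup G} {R : ι → Subgroup G} {i j : ι}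
  {F : Type v} [Field F] {vv : F → F → G} {w1 w2 t : F → G}

section act

variable [Finite G] [Finite F] [CharP F 2] (b : BTS V R) (hF : ∃ a : F, a ≠ 0 ∧ a ≠ 1)
  (c : Coord V R i j vv w1 w2) (τ : TorD V R i j vv t)
  {S : Subgroup (HQ (R i))} (I : SylI τ S)
  {N : Type u} [AddCommGroup N] [Module F N] {P1 P2 : G → N} (y : YPair V R i j w1 w2 N P1 P2)
  {M : Type u} [AddCommGroup M] [Module F M] [DistribMulAction (HQ (R i)) M] {p : G → M}
  {f : M →ₗ[F] M →ₗ[F] F} {e : F →ₗ[F] M} {ω : M →ₗ[F] F} {σ : HQ (R i) →* RingAut F} {κ : HQ (R i) → F}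
  (q : Fq V R i vv M p f e ω σ κ)

include b hF c τ I y q

/-- `u ∈ S` commuting with `A` and `T` is trivial on `M` or a transvection with centre `e` -/
theorem cen_act {u : HQ (R i)} (hu : u ∈ S) (huA : ∀ a ∈ AA V R i j, u * a = a * u)
    (huT : ∀ x ∈ TT τ, u * x = x * u) : ∃ s : F, ∀ x : M, u • x - x = e (s * ω x) := by
  obtain ⟨g, hg, hgV, rfl⟩ := I.rep u hu
  set u := pr (R i) ⟨g, hg⟩ with hu'
  have huH : u ∈ H0 R i := q.cenV_H0 c hg hgV
  have hue : ∀ γ, u • e γ = e γ := q.cenV_e c hg hgV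
  have huω : ∀ x, ω (u • x) = ω x := q.cenV_ω c hg hgV
  obtain ⟨s, hs, hs1⟩ := hF
  set s' : Fˣ := Units.mk0 s hs with hs'
  have hs1' : (s' : F) ≠ 1 := hs1
  set x0 := pr (R i) ⟨t s', τ.normR s'.ne_zero⟩ with hx0
  have hx0T : x0 ∈ TT τ := (mem_TT τ).2 ⟨s, hs, rfl⟩
  have h2F : (2 : F) = 0 := CharP.cast_eq_zero F 2
  have hs0 : (s' : F) ≠ 0 := s'.ne_zero
  have hinv1 : (s' : F)⁻¹ ≠ 1 := fun h => hs1' (by rw [← inv_inv (s' : F), h, inv_one])
  have hinv2 : (s' : F)⁻¹ ≠ s' := by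
    intro h
    have h10 : (s' : F) * s' = 1 := by
      nth_rewrite 2 [← h]
      exact mul_inv_cancel₀ hs0
    apply hs1'
    have h11 : ((s' : F) - 1) * (s' - 1) = 0 := by linear_combination h10 + (1 - s') * h2F
    exact sub_eq_zero.1 (mul_self_eq_zero.1 h11)
  have hTe : ∀ γ, x0 • e γ = e ((s' : F)⁻¹ * γ) := fun γ => by
    rw [q.t_e c τ, ← LinearMap.map_smul e, smul_eq_mul]
  have hein : ∀ γ δ, e γ = e δ → γ = δ := fun γ δ h => q.e_inj c b.toBT h
  have hcomm : ∀ x : M, x0 • u • x = u • x0 • x := fun x => by rw [smul_smul, smul_smul, huT x0 hx0T]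
  have hcommA : ∀ a ∈ AA V R i j, ∀ x : M, a • u • x = u • a • x := fun a ha x => by
    rw [smul_smul, smul_smul, huA a ha]
  obtain ⟨π, hsurj, hπ, -, hπA, hπT⟩ := q.exists_pi b.toBT c τ y ⟨s, hs, hs1⟩
  obtain ⟨Λ, -, -, hΛe, hΛA, -⟩ := q.exists_lam b c τ y ⟨s, hs, hs1⟩
  have hDs : ∀ d, d ∈ q.DS b.toBT c τ y ⟨s, hs, hs1⟩ → u • d ∈ q.DS b.toBT c τ y ⟨s, hs, hs1⟩ := by
    intro d hd
    exact q.toMZ.sb_smul hg (b.NV_le_ND (cen_le_NV V hgV)) hd
  -- (1), (2): `u` is trivial on `D'`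
  have k1 : ∀ d, d ∈ q.DS b.toBT c τ y ⟨s, hs, hs1⟩ → u • d = d := by
    intro d hd
    have hd' := hDs d hd
    have h1 : Λ (⟨u • d, hd'⟩ - ⟨d, hd⟩) = 0 := by
      rw [map_sub, sub_eq_zero]
      ext n
      obtain ⟨z, hzY, hz1, hz2⟩ := y.surj 0 n
      have hzU := (y.mem_U2 z hzY).2 hz1
      have hzN := b.cen_le_N i (UU_le_cen j hzU)
      have h3 := hΛA z hzU ⟨d, hd⟩
      have h4 := hΛA z hzU ⟨u • d, hd'⟩
      rw [hz2] at h3 h4
      apply hein
      rw [← h3, ← h4]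
      have h5 : pr (R i) ⟨z, hzN⟩ ∈ AA V R i j := (Lie.Quot.mem_AA b.toBT).2 ⟨z, hzU, rfl⟩
      change pr (R i) ⟨z, hzN⟩ • u • d - u • d = pr (R i) ⟨z, hzN⟩ • d - d
      rw [hcommA _ h5, ← smul_sub, h3, hue]
    obtain ⟨γ, hγ⟩ := (hΛe _).1 h1
    have hγ' : e γ = u • d - d := hγ
    obtain ⟨δ, hδ⟩ := q.t_D b.toBT c τ y s' hd
    have h6 : x0 • (u • d - d) = u • d - d := by
      have h7 : x0 • d = d + e δ := by rw [hδ]; abel
      rw [smul_sub, hcomm, h7, smul_add, hue]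
      abel
    rw [← hγ', hTe] at h6
    have h8 := hein _ _ h6
    have h9 : γ = 0 := by
      have h10 : ((s' : F)⁻¹ - 1) * γ = 0 := by rw [sub_mul, one_mul, h8, sub_self]
      exact (mul_eq_zero.1 h10).resolve_left (sub_ne_zero.2 hinv1)
    rw [h9, map_zero] at hγ'
    exact (sub_eq_zero.1 hγ'.symm)
  -- an element with `ω = 1`
  obtain ⟨m0, hm0⟩ : ∃ m0 : M, ω m0 = 1 := ⟨p (w1 1), q.ω_w1 c 1⟩
  -- (3), (4): `u` is trivial on `P'`
  have k2 : ∀ x, ω x = 0 → u • x = x := by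
    intro x hx
    have hux : ω (u • x) = 0 := by rw [huω, hx]
    -- `π (u x) = π x`
    have h1 : π ⟨u • x, hux⟩ = π ⟨x, hx⟩ := by
      obtain ⟨n, hn⟩ := (N0 b.toBT c y).mkQ_surjective (π ⟨x, hx⟩)
      obtain ⟨z, hzY, hz1, hz2⟩ := y.surj 0 n
      have hzU := (y.mem_U2 z hzY).2 hz1
      have hzN := b.cen_le_N i (UU_le_cen j hzU)
      have h5 : pr (R i) ⟨z, hzN⟩ ∈ AA V R i j := (Lie.Quot.mem_AA b.toBT).2 ⟨z, hzU, rfl⟩
      set a := pr (R i) ⟨z, hzN⟩ with ha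
      have hz3 : ∀ v : M, ω (a • v - v) = 0 := fun v => by
        rw [map_sub, q.cenV_ω c hzN (UU_le_cen j hzU), sub_self]
      have h6 := hπA z hzU m0 (hz3 m0)
      rw [hm0, one_smul, hz2, hn] at h6
      have h7 := hπA z hzU (u • m0) (hz3 (u • m0))
      rw [huω, hm0, one_smul, hz2, hn] at h7
      -- `x = (a m0 - m0) + d`
      have h8 : x - (a • m0 - m0) ∈ q.DS b.toBT c τ y ⟨s, hs, hs1⟩ := by
        have h9 : ω (x - (a • m0 - m0)) = 0 := by rw [map_sub, hx, hz3, sub_zero]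
        rw [← hπ ⟨_, h9⟩]
        have h10 : (⟨_, h9⟩ : LinearMap.ker ω) = ⟨x, hx⟩ - ⟨_, hz3 m0⟩ := rfl
        rw [h10, map_sub, h6, sub_self]
      have h9 := k1 _ h8
      have h10 : u • x = u • (x - (a • m0 - m0)) + (a • u • m0 - u • m0) := by
        rw [hcommA a h5, ← smul_sub, ← smul_add, sub_add_cancel]
      have h11 : (⟨u • x, hux⟩ : LinearMap.ker ω) = (⟨x, hx⟩ - ⟨_, hz3 m0⟩) + ⟨_, hz3 (u • m0)⟩ := by
        apply Subtype.ext
        change u • x = (x - (a • m0 - m0)) + (a • u • m0 - u • m0)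
        rw [h10, h9]
      rw [h11, map_add, map_sub, h6, h7, sub_add_cancel]
    have h2 : u • x - x ∈ q.DS b.toBT c τ y ⟨s, hs, hs1⟩ := by
      have h9 : ω (u • x - x) = 0 := by rw [map_sub, hux, hx, sub_zero]
      rw [← hπ ⟨_, h9⟩]
      have h10 : (⟨_, h9⟩ : LinearMap.ker ω) = ⟨u • x, hux⟩ - ⟨x, hx⟩ := rfl
      rw [h10, map_sub, h1, sub_self]
    -- `t x = s x + d₁`
    have htx : ω (x0 • x) = 0 := by rw [q.t_ω c τ, hx, mul_zero]
    have h3 := hπT s' ⟨x, hx⟩ htx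
    have h4 : x0 • x - (s' : F) • x ∈ q.DS b.toBT c τ y ⟨s, hs, hs1⟩ := by
      have h9 : ω (x0 • x - (s' : F) • x) = 0 := by rw [map_sub, htx, map_smul, hx, smul_zero, sub_zero]
      rw [← hπ ⟨_, h9⟩]
      have h10 : (⟨_, h9⟩ : LinearMap.ker ω) = ⟨x0 • x, htx⟩ - (s' : F) • ⟨x, hx⟩ := rfl
      rw [h10, map_sub, map_smul, h3, sub_self]
    have h5 : x0 • (u • x - x) = (s' : F) • (u • x - x) := by
      have h6 := k1 _ h4
      rw [smul_sub, q.H0_smul c huH] at h6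
      rw [smul_sub, hcomm, smul_sub, ← sub_eq_zero]
      have h7 := sub_eq_zero.2 h6
      rw [← h7]
      abel
    obtain ⟨γ, hγ⟩ := q.t_D b.toBT c τ y s' h2
    have h6 : e (((s' : F) - 1)⁻¹ * γ) = u • x - x := by
      have h7 : x0 • (u • x - x) - (u • x - x) = ((s' : F) - 1) • (u • x - x) := by rw [h5, sub_smul, one_smul]
      rw [← smul_eq_mul, LinearMap.map_smul, hγ, h7, smul_smul, inv_mul_cancel₀ (sub_ne_zero.2 hs1'), one_smul]
    set γ' := ((s' : F) - 1)⁻¹ * γ with hγ'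
    rw [← h6, hTe, ← LinearMap.map_smul e, smul_eq_mul] at h5
    have h8 := hein _ _ h5
    have h9 : γ' = 0 := by
      have h10 : ((s' : F)⁻¹ - s') * γ' = 0 := by rw [sub_mul, h8, sub_self]
      exact (mul_eq_zero.1 h10).resolve_left (sub_ne_zero.2 hinv2)
    rw [h9, map_zero] at h6
    exact sub_eq_zero.1 h6.symm
  -- duality
  have k3 : ∀ x, ∃ γ, u • x - x = e γ := by
    intro x
    have h1 : ∀ z, ω z = 0 → f (u • x - x) z = 0 := by
      intro z hz
      rw [map_sub, LinearMap.sub_apply, ← q.H0_isom c huH x z, k2 z hz, sub_self]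
    refine ⟨f (u • x - x) m0, ?_⟩
    rw [← sub_eq_zero]
    apply q.nd
    intro z
    have h2 := h1 (z - ω z • m0) (by rw [map_sub, map_smul, hm0, smul_eq_mul, mul_one, sub_self])
    rw [map_sub, map_smul, smul_eq_mul, sub_eq_zero] at h2
    rw [map_sub, LinearMap.sub_apply, q.symm (e _) z, q.fe, h2, sub_self]
  obtain ⟨s₁, h1⟩ := k3 m0
  refine ⟨s₁, fun x => ?_⟩
  have h2 : u • (x - ω x • m0) = x - ω x • m0 := k2 _ (by
    rw [map_sub, map_smul, hm0, smul_eq_mul, mul_one, sub_self])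
  have h3 : u • x - x = ω x • (u • m0 - m0) := by
    have h4 : u • x = u • (x - ω x • m0) + ω x • u • m0 := by
      rw [← q.H0_smul c huH, ← smul_add, sub_add_cancel]
    rw [h4, h2, smul_sub]
    abel
  rw [h3, h1, ← LinearMap.map_smul e, smul_eq_mul, mul_comm]

omit [Finite G] [Finite F] [CharP F 2] hF y in
/-- an element of `S` trivial on `M` lies in `N₀` -/
theorem KN_of_triv {u : HQ (R i)} (hu : u ∈ S) (h : ∀ x : M, u • x = x) : u ∈ KN V R i := by
  obtain ⟨g, hg, hgV, rfl⟩ := I.rep u hu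
  have hgR : g ∈ centralizer (R i : Set G) := by
    rw [mem_centralizer_iff]
    exact fun r hr => mem_centralizer_iff.1 hgV r (b.R_le i hr)
  refine (pr_mem_KN b.toBT hg).2 ⟨hgR, LemNS.N_le_NZ i hg, fun w hw => ?_⟩
  have h1 := h (p w)
  rw [q.p_act g hg w hw, q.toMZ.p_eq_iff (conj_mem_of_normalizer (normalizer_le_WW V (R i) hg) hw) hw] at h1
  exact h1

/-- `|P| ≤ q` -/
theorem card_le {P : Subgroup (HQ (R i))} (hPS : P ≤ S)
    (hconj : ∀ x ∈ P, ∀ z ∈ P, x ≠ 1 → z ≠ 1 → ∃ h ∈ H0 R i, h * x * h⁻¹ = z)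
    (hfaith : ∀ s ∈ S, s ∈ KN V R i → s = 1) {u : HQ (R i)} (hu : u ∈ P) (hu1 : u ≠ 1)
    (huA : ∀ a ∈ AA V R i j, u * a = a * u) (huT : ∀ x ∈ TT τ, u * x = x * u) : Nat.card P ≤ Nat.card F := by
  obtain ⟨s₁, hs₁⟩ := cen_act b hF c τ I y q (hPS hu) huA huT
  have hPe : ∀ x ∈ P, ∀ γ, x • e γ = e γ := by
    intro x hx γ
    obtain ⟨g, hg, hgV, rfl⟩ := I.rep x (hPS hx)
    exact q.cenV_e c hg hgV γ
  have hein : ∀ γ δ, e γ = e δ → γ = δ := fun γ δ h => q.e_inj c b.toBT h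
  have hs0 : s₁ ≠ 0 := by
    rintro rfl
    refine hu1 (hfaith u (hPS hu) (KN_of_triv b c τ I q (hPS hu) fun x => ?_))
    have h1 := hs₁ x
    rw [zero_mul, map_zero] at h1
    exact sub_eq_zero.1 h1
  have hω : ∀ x, ω x = f x (e 1) := fun x => by rw [q.fe, mul_one]
  -- conjugates of `u`
  have k1 : ∀ x ∈ P, x ≠ 1 → ∃ v : M, v ≠ 0 ∧ ∀ m : M, x • m - m = (s₁ * f m v) • v := by
    intro x hx hx1
    obtain ⟨h, hh, rfl⟩ := hconj u hu x hx hu1 hx1
    refine ⟨h • e 1, ?_, fun m => ?_⟩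
    · intro h0
      have h2 : e 1 = 0 := by
        rw [← inv_smul_smul h (e 1), h0, smul_zero]
      rw [← map_zero e] at h2
      exact one_ne_zero (hein _ _ h2)
    · have h2 : (h * u * h⁻¹) • m - m = h • (u • h⁻¹ • m - h⁻¹ • m) := by
        rw [smul_sub, smul_inv_smul, mul_smul, mul_smul]
      rw [h2, hs₁, hω, ← q.H0_isom c hh (h⁻¹ • m) (e 1), smul_inv_smul, ← q.H0_smul c hh]
      congr 1
      rw [← LinearMap.map_smul e, smul_eq_mul, mul_one]
  have he1 : e 1 ≠ 0 := by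
    intro h2
    rw [← map_zero e] at h2
    exact one_ne_zero (hein _ _ h2)
  -- all of them have centre `e`
  have k2 : ∀ x ∈ P, ∃ s : F, ∀ m : M, x • m - m = e (s * ω m) := by
    intro x hx
    by_cases hx1 : x = 1
    · refine ⟨0, fun m => ?_⟩
      rw [hx1, one_smul, sub_self, zero_mul, map_zero]
    by_cases hxu : x * u = 1
    · refine ⟨-s₁, fun m => ?_⟩
      have h1 : x • u • m = m := by rw [smul_smul, hxu, one_smul]
      have h2 : x • m - m = - (x • (u • m - m)) := by rw [smul_sub, h1]; abel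
      rw [h2, hs₁, hPe x hx, neg_mul, map_neg]
    obtain ⟨v, hv, hxv⟩ := k1 x hx hx1
    suffices h : ∃ δ : F, v = δ • e 1 by
      obtain ⟨δ, rfl⟩ := h
      refine ⟨s₁ * δ ^ 2, fun m => ?_⟩
      rw [hxv, map_smul, smul_smul, hω, ← LinearMap.map_smul e]
      congr 1
      simp only [smul_eq_mul]
      ring
    · obtain ⟨v', hv', hxuv⟩ := k1 (x * u) (mul_mem hx hu) hxu
      have key : ∀ m : M, ω m • e 1 + f m v • v = f m v' • v' := by
        intro m
        have h1 : (x * u) • m - m = x • (u • m - m) + (x • m - m) := by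
          rw [mul_smul, smul_sub]; abel
        rw [hxuv, hs₁, hPe x hx, hxv] at h1
        have h2 : e (s₁ * ω m) = (s₁ * ω m) • e 1 := by rw [← LinearMap.map_smul e, smul_eq_mul, mul_one]
        rw [h2, ← smul_smul, ← smul_smul, ← smul_smul, ← smul_add] at h1
        exact (smul_right_injective M hs0 h1).symm
      by_contra hne
      -- an element with `f m v = 0`, `ω m ≠ 0`
      obtain ⟨m1, hm1, hm1'⟩ : ∃ m, f m v = 0 ∧ ω m ≠ 0 := by
        by_contra hcon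
        push Not at hcon
        obtain ⟨z, hz⟩ : ∃ z, f z v ≠ 0 := by
          by_contra h0
          push Not at h0
          exact hv (q.nd v fun z => by rw [q.symm]; exact h0 z)
        set z0 := (f z v)⁻¹ • z with hz0
        have hz0' : f z0 v = 1 := by
          rw [hz0, map_smul, LinearMap.smul_apply, smul_eq_mul, inv_mul_cancel₀ hz]
        have h1 : ∀ m, ω m = f m v * ω z0 := by
          intro m
          have h2 := hcon (m - f m v • z0) (by
            rw [map_sub, LinearMap.sub_apply, map_smul, LinearMap.smul_apply, hz0', smul_eq_mul, mul_one, sub_self])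
          rw [map_sub, map_smul, smul_eq_mul, sub_eq_zero] at h2
          exact h2
        have h2 : e 1 = ω z0 • v := by
          rw [← sub_eq_zero]
          apply q.nd
          intro m
          rw [q.symm, map_sub, map_smul, smul_eq_mul, ← hω, h1 m]
          ring
        have h3 : ω z0 ≠ 0 := by
          intro h0
          rw [h0, zero_smul] at h2
          exact he1 h2
        exact hne ⟨(ω z0)⁻¹, by rw [h2, smul_smul, inv_mul_cancel₀ h3, one_smul]⟩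
      have h1 := key m1
      rw [hm1, zero_smul, add_zero] at h1
      have h2 : f m1 v' ≠ 0 := by
        intro h0
        rw [h0, zero_smul] at h1
        exact he1 ((smul_eq_zero.1 h1).resolve_left hm1')
      -- `v' ∈ F e`
      have h3 : v' = ((f m1 v')⁻¹ * ω m1) • e 1 := by
        rw [← smul_smul, h1, smul_smul, inv_mul_cancel₀ h2, one_smul]
      -- an element with `f z v = 1`
      obtain ⟨z, hz⟩ : ∃ z, f z v ≠ 0 := by
        by_contra h0
        push Not at h0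
        exact hv (q.nd v fun z => by rw [q.symm]; exact h0 z)
      have h4 := key z
      apply hne
      refine ⟨(f z v)⁻¹ * (f z v' * ((f m1 v')⁻¹ * ω m1) - ω z), ?_⟩
      have h5 : f z v • v = (f z v' * ((f m1 v')⁻¹ * ω m1) - ω z) • e 1 := by
        rw [sub_smul, ← smul_smul, ← h3, ← h4, add_sub_cancel_left]
      rw [← smul_smul, ← h5, smul_smul, inv_mul_cancel₀ hz, one_smul]
  -- the injection
  choose! φ hφ using k2
  have hinj : Function.Injective (fun x : P => φ x) := by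
    intro x z hxz
    have hxz' : φ x = φ z := hxz
    have h1 : ((x : HQ (R i))⁻¹ * z) ∈ KN V R i := by
      refine KN_of_triv b c τ I q (mul_mem (inv_mem (hPS x.2)) (hPS z.2)) fun m => ?_
      have h2 := hφ x x.2 m
      have h3 := hφ z z.2 m
      rw [hxz', ← h3] at h2
      have h4 := sub_left_injective h2
      rw [mul_smul, ← h4, inv_smul_smul]
    have h2 := hfaith _ (mul_mem (inv_mem (hPS x.2)) (hPS z.2)) h1
    exact Subtype.ext (inv_mul_eq_one.1 h2)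
  exact Nat.card_le_card_of_injective _ hinj

end act


open scoped MatrixGroups Pointwise in
/-- the Sylow 2-subgroups of `L₂(q)`, `q` even -/
theorem exists_co {K : Type*} [Group K] [Finite K] {F : Type} [Field F] [Finite F] [CharP F 2]
    (e₀ : K ≃* Matrix.ProjectiveSpecialLinearGroup (Fin 2) F) (S : Sylow 2 K) :
    ∃ φ : F → K, Lie.End.LTwoSide.Co (S : Subgroup K) φ := by
  obtain ⟨e₁⟩ := EH3.Rank1.LTwo.psl_equiv (F := F)
  obtain ⟨Q, hQ⟩ := Lie.End.LTwoSide.sylow_eq (e₀.trans e₁)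
  obtain ⟨g, hg⟩ := MulAction.exists_smul_eq K Q S
  have hS : ∀ x, x ∈ (S : Subgroup K) ↔ ((MulAut.conj g⁻¹).trans (e₀.trans e₁)) x ∈ EH3.Rank1.LTwo.U F := by
    intro x
    have h1 : x ∈ (S : Subgroup K) ↔ g⁻¹ * x * g ∈ Q := by
      rw [← hg]
      show x ∈ MulAut.conj g • (Q : Subgroup K) ↔ _
      rw [Subgroup.mem_pointwise_smul_iff_inv_smul_mem]
      show ((MulAut.conj g)⁻¹ x ∈ (Q : Subgroup K)) ↔ _
      rw [MulAut.conj_inv_apply]
      rfl
    rw [h1, hQ]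
    show (e₀.trans e₁) (g⁻¹ * x * g) ∈ EH3.Rank1.LTwo.U F ↔ (e₀.trans e₁) (g⁻¹ * x * g⁻¹⁻¹) ∈ EH3.Rank1.LTwo.U F
    rw [inv_inv]
  exact ⟨_, Lie.End.LTwoSide.co hS⟩

section final

variable [Finite G] [Finite F] [CharP F 2] (b : BTS V R) (hF : ∃ a : F, a ≠ 0 ∧ a ≠ 1)
  (c : Coord V R i j vv w1 w2) (τ : TorD V R i j vv t)
  (hodd : Odd ((normalizer (V : Set G)).relIndex (normalizer (R i : Set G)))) (hUD : ¬ UU V R j ≤ DD V R)
  {S : Subgroup (HQ (R i))} (I : SylI τ S) (hinn : InnC V R i j) (hoddC : OddC V R i j)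

include b hF c τ hodd hUD I hinn hoddC

/-- **`T` does not act on a component `L₂(Q)` by field automorphisms** -/
theorem no_exc {K : Subgroup (HQ (R i))} (hK : Met V R i j K) (hTK : TT τ ≤ normalizer (K : Set (HQ (R i)))) :
    ¬ Lie.End.KExc K (S.subgroupOf K) (Lie.End.OfLay.Tact (TT τ) K) := by
  rintro ⟨-, ⟨u₀, hu₀, hu1, hfix⟩, F', _, _, hchar, ⟨e₀⟩⟩
  have : CharP F' 2 := ringChar.eq_iff.1 hchar
  have hp2 : Fact (Nat.Prime 2) := ⟨Nat.prime_two⟩
  -- `S ∩ K` is a Sylow 2-subgroup of `K`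
  obtain ⟨P, hP⟩ : ∃ P : Sylow 2 K, (P : Subgroup K) = S.subgroupOf K := by
    have h2 : IsPGroup 2 (S.subgroupOf K) := I.S2.comap_of_injective K.subtype K.subtype_injective
    obtain ⟨P, hP⟩ := h2.exists_le_sylow
    refine ⟨P, le_antisymm ?_ hP⟩
    intro x hx
    have h3 := I.syl K hK.1.1.1 hK.1.2 ((P : Subgroup K).map K.subtype) (map_subtype_le _)
      (P.isPGroup'.map K.subtype) (by
        rintro y ⟨hyS, hyK⟩
        exact ⟨⟨y, hyK⟩, hP (mem_subgroupOf.2 hyS), rfl⟩)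
    exact mem_subgroupOf.2 (h3 ⟨x, hx, rfl⟩)
  obtain ⟨φ, C⟩ := exists_co e₀ P
  rw [hP] at C
  have hcomm : ∀ x ∈ S ⊓ K, ∀ z ∈ S ⊓ K, x * z = z * x := by
    intro x hx z hz
    obtain ⟨a, ha⟩ := (C.mem ⟨x, hx.2⟩).1 (mem_subgroupOf.2 hx.1)
    obtain ⟨a', ha'⟩ := (C.mem ⟨z, hz.2⟩).1 (mem_subgroupOf.2 hz.1)
    have h1 : (⟨x, hx.2⟩ : K) * ⟨z, hz.2⟩ = ⟨z, hz.2⟩ * ⟨x, hx.2⟩ := by
      rw [← ha, ← ha', ← C.add, ← C.add, add_comm]
    exact congrArg Subtype.val h1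
  have hφ0 : ∀ x : K, x ≠ 1 → ∀ a, φ a = x → a ≠ 0 := by
    rintro x hx a rfl rfl
    exact hx C.zero
  have hconj : ∀ x ∈ S ⊓ K, ∀ z ∈ S ⊓ K, x ≠ 1 → z ≠ 1 → ∃ h ∈ H0 R i, h * x * h⁻¹ = z := by
    intro x hx z hz hx1 hz1
    obtain ⟨a, ha⟩ := (C.mem ⟨x, hx.2⟩).1 (mem_subgroupOf.2 hx.1)
    obtain ⟨a', ha'⟩ := (C.mem ⟨z, hz.2⟩).1 (mem_subgroupOf.2 hz.1)
    have ha0 := hφ0 _ (fun h => hx1 (congrArg Subtype.val h)) a ha
    have ha0' := hφ0 _ (fun h => hz1 (congrArg Subtype.val h)) a' ha'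
    obtain ⟨d, -, hd⟩ := C.dia (a' * a⁻¹) (mul_ne_zero ha0' (inv_ne_zero ha0))
    refine ⟨d, hK.1.2 d.2, ?_⟩
    have h1 := hd a
    rw [inv_mul_cancel_right₀ ha0, ha, ha'] at h1
    exact congrArg Subtype.val h1
  set u : HQ (R i) := (u₀ : HQ (R i)) with hu
  have huS : u ∈ S ⊓ K := ⟨mem_subgroupOf.1 hu₀, u₀.2⟩
  have hu1' : u ≠ 1 := fun h => hu1 (Subtype.ext h)
  have huT : ∀ x ∈ TT τ, u * x = x * u := by
    intro x hx
    have h1 := hfix (K.normalizerMonoidHom ⟨x, hTK hx⟩) (Lie.End.OfLay.mem_Tact.2 ⟨x, hx, hTK hx, fun _ => rfl⟩)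
    have h2 : x * u * x⁻¹ = u := congrArg Subtype.val h1
    rw [mul_inv_eq_iff_eq_mul] at h2
    exact h2.symm
  have huA : ∀ a ∈ AA V R i j, u * a = a * u := by
    intro a ha
    obtain ⟨d, hd, hact⟩ := hinn K hK.1.1 hK.1.2 a ha
    have h1 := hact u huS.2
    have h2 := hcomm d ⟨I.AS hd.1, hd.2⟩ u huS
    rw [h2, mul_inv_cancel_right, mul_inv_eq_iff_eq_mul] at h1
    exact h1.symm
  obtain ⟨M, _, _, p, _, f, e, ω, σ, κ, q⟩ := exists_frame hF b.toBT c τ
  obtain ⟨N, _, _, P1, P2, y⟩ := c.exists_yPair b.toBT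
  have h1 := card_le b hF c τ I y q (inf_le_left : S ⊓ K ≤ S) hconj
    (fun s hs hs0 => S_inf_KN' b hF c τ hodd hUD I hinn hoddC hs hs0) huS hu1' huA huT
  -- `|A ∩ K| ≥ q`
  obtain ⟨a₀, ha₀A, ha₀K, ha₀⟩ := hK.exists
  have h2 : Nat.card F ≤ Nat.card (AA V R i j ⊓ K : Subgroup (HQ (R i))) := by
    have key : ∀ x ∈ TT τ, x * a₀ * x⁻¹ ∈ AA V R i j ⊓ K := fun x hx =>
      ⟨TA_mem b.toBT τ hx ha₀A, conj_mem_of_normalizer (hTK hx) ha₀K⟩
    let ψ : Option (TT τ) → (AA V R i j ⊓ K : Subgroup (HQ (R i))) := fun o =>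
      o.elim 1 fun x => ⟨_, key x x.2⟩
    have hinj : Function.Injective ψ := by
      have h3 : ∀ x : TT τ, ψ (some x) ≠ 1 := by
        intro x h
        have h4 : (x : HQ (R i)) * a₀ * (x : HQ (R i))⁻¹ = 1 := congrArg Subtype.val h
        apply ha₀
        rwa [mul_inv_eq_one, mul_eq_left] at h4
      rintro (_ | x) (_ | z) h
      · rfl
      · exact absurd h.symm (h3 z)
      · exact absurd h (h3 x)
      · have h4 : (x : HQ (R i)) * a₀ * (x : HQ (R i))⁻¹ = z * a₀ * (z : HQ (R i))⁻¹ := congrArg Subtype.val h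
        have h5 : (z : HQ (R i))⁻¹ * x = 1 := by
          refine T_reg b.toBT τ c.ne ha₀A ha₀ (mul_mem (inv_mem z.2) x.2) ?_
          calc (z : HQ (R i))⁻¹ * x * a₀ * ((z : HQ (R i))⁻¹ * x)⁻¹
              = (z : HQ (R i))⁻¹ * (x * a₀ * (x : HQ (R i))⁻¹) * z := by group
            _ = a₀ := by rw [h4]; group
        rw [inv_mul_eq_one] at h5
        rw [Subtype.ext h5]
    have h3 := Nat.card_le_card_of_injective ψ hinj
    rwa [Finite.card_option, card_T b.toBT τ] at h3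
  have h3 : Nat.card (AA V R i j ⊓ K : Subgroup (HQ (R i))) < Nat.card (S ⊓ K : Subgroup (HQ (R i))) := by
    by_contra hge
    have h4 : AA V R i j ⊓ K = S ⊓ K := eq_of_le_of_card_ge (inf_le_inf_right K I.AS) (not_lt.1 hge)
    have huA' : u ∈ AA V R i j := by
      have : u ∈ AA V R i j ⊓ K := by rw [h4]; exact huS
      exact this.1
    obtain ⟨s, hs, hs1⟩ := hF
    have hx : pr (R i) ⟨t s, τ.normR hs⟩ ∈ TT τ := (mem_TT τ).2 ⟨s, hs, rfl⟩
    have h5 := T_reg b.toBT τ c.ne huA' hu1' hx (by rw [← huT _ hx, mul_inv_cancel_right])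
    rw [pr_eq_one] at h5
    exact hs1 (t_notin b.toBT τ hs h5)
  omega

end final

end Cfsg.Agent.Omega.HOneQ.NoExc
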