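import Cfsg.Agent.Omega.HOneQ.CRad
import Cfsg.Agent.Omega.Hex.SZ

/-!
# II.0h1, SPLIT, `q ≥ 4` (bb #15121 (d)-(f)): what is used of the group `E = ⟨A^H⟩`

`KD E S HE A T w` : `S` a Sylow 2-subgroup of `E`, `HE` a complement of `S` in `N_E(S)`, `w` the longest element, `T` the
torus, with the theorem of Curtis and Richen for `E T` (sections of modules over the field of two elements).
-/

set_option autoImplicit false

namespace Cfsg.Agent.Omega.HOneQ.Fr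

open Subgroup Cfsg.Agent.Omega.Hex

universe u

/-- **The K-side data.** -/
structure KD {H : Type u} [Group H] (E S HE A T : Subgroup H) (w : H) : Prop where
  /-- `HE` is a complement of `S` in `N_E(S)` -/
  cpl : Cpl S (E ⊓ normalizer (S : Set H)) HE
  /-- `[HE, T] ≤ A` -/
  com : ∀ n ∈ HE, ∀ t ∈ T, n * t * n⁻¹ * t⁻¹ ∈ A
  w_mem : w ∈ E
  wt : ∀ t ∈ T, t⁻¹ * w⁻¹ * t * w ∈ HE
  /-- `⟨A, w S w⁻¹⟩ = E` -/
  gen : ∀ K : Subgroup H, A ≤ K → (∀ s ∈ S, w * s * w⁻¹ ∈ K) → E ≤ K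
  /-- Curtis–Richen -/
  CR : ∀ (M : Type u) [AddCommGroup M] [DistribMulAction H M] [Finite M], (∀ m : M, m + m = 0) →
    CRad.SecCR E T S (T ⊔ HE) M
  span : ∀ (M : Type u) [AddCommGroup M] [DistribMulAction H M] [Finite M], (∀ m : M, m + m = 0) →
    (∀ L : AddSubgroup M, CRad.Inv E L → CRad.Inv T L → L = ⊥ ∨ L = ⊤) →
    ∀ L : AddSubgroup M, (∀ s ∈ S, ∀ x : M, (∀ s' ∈ S, s' • x = x) → (w * s * w⁻¹) • x ∈ L) → L = ⊤

end Cfsg.Agent.Omega.HOneQ.Fr
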