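import Mathlib

/-!
# II.0h1, SPLIT, `q ≥ 4` (bb #15121 (d), (e)): `C_rad(A) = C_rad(T)`, and who fixes `e`

Abstract form.  `H` acts on the 2-group `M` (`= rad`), `A ≤ S ≤ E`, `S` a Sylow 2-subgroup of `E`, `T` of odd order,
`[S,T] ≤ A`, `[M,A] ≤ C_M(T)`, `C_M(E) = 0`.  `Dat.CR`: the (sectional) Curtis–Richen property of `E T`: in a section
`X/Y` of `M` simple for `E T`, the fixed points of `S` are simple for `N` (`N` normalises `S` and `A`, e.g. `N = T H_E`).

* `Dat.fix_T`: `C_M(A) ≤ C_M(T)`;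
* `mem_of_fix`: an element normalising `A`, commuting with `T` modulo `A` and fixing `e + rad` fixes `e`.
-/

set_option autoImplicit false

namespace Cfsg.Agent.Omega.HOneQ.CRad

open Subgroup

variable {H : Type*} [Group H] {M : Type*} [AddCommGroup M] [DistribMulAction H M]

/-- invariance of a subgroup of `M` -/
def Inv (K : Subgroup H) (L : AddSubgroup M) : Prop := ∀ g ∈ K, ∀ x ∈ L, g • x ∈ L

/-- `[L, K]` -/
def com (K : Subgroup H) (L : AddSubgroup M) : AddSubgroup M :=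
  AddSubgroup.closure {y | ∃ g ∈ K, ∃ x ∈ L, y = g • x - x}

/-- the sectional Curtis–Richen property: `S`-fixed points of a simple `E T`-section are `N`-simple -/
def SecCR (E T S N : Subgroup H) (M : Type*) [AddCommGroup M] [DistribMulAction H M] : Prop :=
  ∀ X Y : AddSubgroup M, Inv E X → Inv T X → Inv E Y → Inv T Y → Y < X →
    (∀ Z : AddSubgroup M, Inv E Z → Inv T Z → Y ≤ Z → Z ≤ X → Z = Y ∨ Z = X) →
    ∀ D : AddSubgroup M, Y < D → D ≤ X → Inv N D → (∀ s ∈ S, ∀ x ∈ D, s • x - x ∈ Y) →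
      ∀ x ∈ X, (∀ s ∈ S, s • x - x ∈ Y) → x ∈ D

/-- the data of (d) -/
structure Dat (A S E T N : Subgroup H) (M : Type*) [AddCommGroup M] [DistribMulAction H M] : Prop where
  SE : S ≤ E
  /-- `E = ⟨A^E⟩` -/
  gen : ∀ K : Subgroup H, A ≤ K → (∀ g ∈ E, ∀ k ∈ K, g * k * g⁻¹ ∈ K) → E ≤ K
  AE : A ≤ E
  two : IsPGroup 2 S
  odd : Odd (S.relIndex E)
  TE : ∀ t ∈ T, ∀ g ∈ E, t * g * t⁻¹ ∈ E
  TA : ∀ t ∈ T, ∀ a ∈ A, t * a * t⁻¹ ∈ A
  SA : ∀ s ∈ S, ∀ a ∈ A, s * a * s⁻¹ ∈ A
  NA : ∀ n ∈ N, ∀ a ∈ A, n * a * n⁻¹ ∈ A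
  NS : ∀ n ∈ N, ∀ s ∈ S, n * s * n⁻¹ ∈ S
  NE : N ≤ E ⊔ T
  ST : ∀ s ∈ S, ∀ t ∈ T, s * t * s⁻¹ * t⁻¹ ∈ A
  Todd : Odd (Nat.card T)
  exp : ∀ m : M, m + m = 0
  AT : ∀ a ∈ A, ∀ m : M, ∀ t ∈ T, t • (a • m - m) = a • m - m
  CE : ∀ m : M, (∀ g ∈ E, g • m = m) → m = 0
  CR : SecCR E T S N M

theorem inv_sup {K L : Subgroup H} {X : AddSubgroup M} (hK : Inv K X) (hL : Inv L X) : Inv (K ⊔ L) X := by
  let P : Subgroup H :=
    { carrier := {g | (∀ x ∈ X, g • x ∈ X) ∧ ∀ x ∈ X, g⁻¹ • x ∈ X}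
      one_mem' := ⟨fun x hx => by rwa [one_smul], fun x hx => by rwa [inv_one, one_smul]⟩
      mul_mem' := by
        rintro a b ⟨ha, ha'⟩ ⟨hb, hb'⟩
        refine ⟨fun x hx => ?_, fun x hx => ?_⟩
        · rw [mul_smul]; exact ha _ (hb _ hx)
        · rw [mul_inv_rev, mul_smul]; exact hb' _ (ha' _ hx)
      inv_mem' := by
        rintro a ⟨ha, ha'⟩
        exact ⟨ha', fun x hx => by rw [inv_inv]; exact ha _ hx⟩ }
  have h1 : K ≤ P := fun g hg => ⟨hK g hg, hK _ (inv_mem hg)⟩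
  have h2 : L ≤ P := fun g hg => ⟨hL g hg, hL _ (inv_mem hg)⟩
  intro g hg
  exact ((sup_le h1 h2) hg).1

section exp

variable (exp : ∀ m : M, m + m = 0)
include exp

theorem neg_self (m : M) : -m = m := neg_eq_of_add_eq_zero_left (exp m)

theorem nsmul_odd {n : ℕ} (hn : Odd n) (m : M) : n • m = m := by
  obtain ⟨k, rfl⟩ := hn
  rw [add_smul, one_smul, mul_smul, two_smul, ← smul_add, exp, smul_zero, zero_add]

theorem isPGroup_two : IsPGroup 2 (Multiplicative M) := by
  intro x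
  refine ⟨1, ?_⟩
  rw [pow_one, pow_two]
  exact congrArg Multiplicative.ofAdd (exp x.toAdd)

/-- a 2-group acting on a section `Y < X` of `M` has fixed points -/
theorem exists_fixed [Finite M] {S : Subgroup H} (hS : IsPGroup 2 S) {X Y : AddSubgroup M} (hX : Inv S X)
    (hY : Inv S Y) (h : Y < X) : ∃ x ∈ X, x ∉ Y ∧ ∀ s ∈ S, s • x - x ∈ Y := by
  -- induction on `X`: choose `X` minimal with `Y < X`, `S`-invariant; or use the action on the quotient
  have hfin : Finite (↥X ⧸ Y.addSubgroupOf X) := inferInstance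
  let act : MulAction S (↥X ⧸ Y.addSubgroupOf X) :=
    { smul := fun s => Quotient.map' (fun x : ↥X => (⟨(s : H) • (x : M), hX _ s.2 _ x.2⟩ : ↥X)) (by
        intro a b hab
        rw [QuotientAddGroup.leftRel_apply, AddSubgroup.mem_addSubgroupOf] at hab ⊢
        have h1 := hY _ s.2 _ hab
        rw [AddSubgroup.coe_add, AddSubgroup.coe_neg, smul_add, smul_neg] at h1
        exact h1)
      one_smul := by
        intro x
        induction x using Quotient.inductionOn' with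
        | h x =>
          show Quotient.mk'' _ = Quotient.mk'' _
          congr 1
          exact Subtype.ext (one_smul H (x : M))
      mul_smul := by
        intro a b x
        induction x using Quotient.inductionOn' with
        | h x =>
          show Quotient.mk'' _ = Quotient.mk'' _
          congr 1
          exact Subtype.ext (mul_smul (a : H) (b : H) (x : M)) }
  have hcard : 2 ∣ Nat.card (↥X ⧸ Y.addSubgroupOf X) := by
    obtain ⟨x, hx, hxY⟩ := SetLike.exists_of_lt h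
    have h1 : addOrderOf ((⟨x, hx⟩ : ↥X) : ↥X ⧸ Y.addSubgroupOf X) = 2 := by
      have : Fact (Nat.Prime 2) := ⟨Nat.prime_two⟩
      apply addOrderOf_eq_prime
      · rw [two_nsmul, ← QuotientAddGroup.mk_add]
        have : (⟨x, hx⟩ : ↥X) + ⟨x, hx⟩ = 0 := Subtype.ext (exp x)
        rw [this, QuotientAddGroup.mk_zero]
      · rw [Ne, QuotientAddGroup.eq_zero_iff, AddSubgroup.mem_addSubgroupOf]
        exact hxY
    rw [← h1]
    exact addOrderOf_dvd_natCard _
  have : Fact (Nat.Prime 2) := ⟨Nat.prime_two⟩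
  have h0 : ((0 : ↥X ⧸ Y.addSubgroupOf X)) ∈ MulAction.fixedPoints S (↥X ⧸ Y.addSubgroupOf X) := by
    intro s
    show Quotient.mk'' _ = Quotient.mk'' _
    congr 1
    exact Subtype.ext (smul_zero (s : H))
  obtain ⟨y, hy, hne⟩ := hS.exists_fixed_point_of_prime_dvd_card_of_fixed_point (↥X ⧸ Y.addSubgroupOf X) hcard h0
  induction y using Quotient.inductionOn' with
  | h x =>
    refine ⟨x, x.2, ?_, ?_⟩
    · intro hxY
      apply hne
      symm
      exact (QuotientAddGroup.eq_zero_iff (N := Y.addSubgroupOf X) x).2 hxY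
    · intro s hs
      have h2 := hy ⟨s, hs⟩
      have h3 : ((⟨s • (x : M), hX _ hs _ x.2⟩ : ↥X) : ↥X ⧸ Y.addSubgroupOf X) = (x : ↥X ⧸ Y.addSubgroupOf X) := h2
      rw [eq_comm, QuotientAddGroup.eq, AddSubgroup.mem_addSubgroupOf] at h3
      rw [sub_eq_neg_add]
      exact h3

end exp

namespace Dat

variable {A S E T N : Subgroup H} (d : Dat A S E T N M)
include d

/-- if `A` centralises the section `X / Y`, so does `E` -/
theorem cen_E {X Y : AddSubgroup M} (hX : Inv E X) (hY : Inv E Y) (h : ∀ a ∈ A, ∀ x ∈ X, a • x - x ∈ Y) :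
    ∀ g ∈ E, ∀ x ∈ X, g • x - x ∈ Y := by
  let K : Subgroup H :=
    { carrier := {k | (k ∈ E) ∧ ∀ x ∈ X, k • x - x ∈ Y}
      one_mem' := ⟨one_mem _, fun x _ => by rw [one_smul, sub_self]; exact zero_mem _⟩
      mul_mem' := by
        rintro a b ⟨haE, ha⟩ ⟨hbE, hb⟩
        refine ⟨mul_mem haE hbE, fun x hx => ?_⟩
        rw [mul_smul]
        have h1 := ha _ (hX b hbE x hx)
        have h2 := hb _ hx
        have h3 := add_mem h1 h2
        rwa [sub_add_sub_cancel] at h3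
      inv_mem' := by
        rintro a ⟨haE, ha⟩
        refine ⟨inv_mem haE, fun x hx => ?_⟩
        have h1 := ha _ (hX _ (inv_mem haE) x hx)
        rw [smul_inv_smul] at h1
        have h2 := neg_mem h1
        rwa [neg_sub] at h2 }
  have hAK : A ≤ K := fun a ha => ⟨d.AE ha, h a ha⟩
  have h1 := d.gen K hAK (by
    rintro g hg k ⟨hkE, hk⟩
    refine ⟨mul_mem (mul_mem hg hkE) (inv_mem hg), fun x hx => ?_⟩
    have h2 := hk _ (hX _ (inv_mem hg) x hx)
    have h3 := hY _ hg _ h2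
    rwa [smul_sub, smul_inv_smul, ← mul_smul, ← mul_smul] at h3)
  exact fun g hg x hx => (h1 hg).2 x hx

theorem cA_T {m : M} (hm : ∀ a ∈ A, a • m = m) {t : H} (ht : t ∈ T) : ∀ a ∈ A, a • t • m = t • m := by
  intro a ha
  have h1 : t⁻¹ * a * t ∈ A := by
    have := d.TA _ (inv_mem ht) a ha
    rwa [inv_inv] at this
  have h2 := hm _ h1
  rw [mul_smul, mul_smul, inv_smul_eq_iff] at h2
  exact h2

theorem cA_S {m : M} (hm : ∀ a ∈ A, a • m = m) {s : H} (hs : s ∈ S) : ∀ a ∈ A, a • s • m = s • m := by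
  intro a ha
  have h1 : s⁻¹ * a * s ∈ A := by
    have := d.SA _ (inv_mem hs) a ha
    rwa [inv_inv] at this
  have h2 := hm _ h1
  rw [mul_smul, mul_smul, inv_smul_eq_iff] at h2
  exact h2

/-- `S` and `T` commute on `C_M(A)` -/
theorem smul_comm_cA {m : M} (hm : ∀ a ∈ A, a • m = m) {s t : H} (hs : s ∈ S) (ht : t ∈ T) :
    t • s • m = s • t • m := by
  have h1 := d.cA_T (d.cA_S hm hs) ht _ (d.ST s hs t ht)
  rw [← h1, ← mul_smul, ← mul_smul, ← mul_smul]
  congr 1
  group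

theorem inv_com {K : Subgroup H} (hK : ∀ g ∈ K, ∀ a ∈ A, g * a * g⁻¹ ∈ A) {X : AddSubgroup M} (hX : Inv K X) :
    Inv K (com A X) := by
  have _ := d
  intro g hg x hx
  induction hx using AddSubgroup.closure_induction with
  | mem x hx =>
    obtain ⟨a, ha, y, hy, rfl⟩ := hx
    refine AddSubgroup.subset_closure ⟨g * a * g⁻¹, hK g hg a ha, g • y, hX g hg y hy, ?_⟩
    rw [smul_sub, mul_smul, mul_smul, inv_smul_smul]
  | zero => rw [smul_zero]; exact zero_mem _
  | add x y _ _ hx hy => rw [smul_add]; exact add_mem hx hy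
  | neg x _ hx => rw [smul_neg]; exact neg_mem hx

theorem com_T {X : AddSubgroup M} {y : M} (hy : y ∈ com A X) : ∀ t ∈ T, t • y = y := by
  induction hy using AddSubgroup.closure_induction with
  | mem x hx =>
    obtain ⟨a, ha, y, hy, rfl⟩ := hx
    exact d.AT a ha y
  | zero => exact fun t _ => smul_zero t
  | add x y _ _ hx hy => exact fun t ht => by rw [smul_add, hx t ht, hy t ht]
  | neg x _ hx => exact fun t ht => by rw [smul_neg, hx t ht]

theorem com_le {K : Subgroup H} {X : AddSubgroup M} (hX : Inv K X) : com K X ≤ X := by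
  have _ := d
  rw [com, AddSubgroup.closure_le]
  rintro y ⟨g, hg, x, hx, rfl⟩
  exact sub_mem (hX g hg x hx) hx

/-- **(d)**: `C_M(A) ≤ C_M(T)` -/
theorem fix_T [Finite M] [Finite H] {m : M} (hm : ∀ a ∈ A, a • m = m) : ∀ t ∈ T, t • m = m := by
  classical
  have : Fintype T := Fintype.ofFinite T
  have hexp := d.exp
  have hTc : Odd (Fintype.card T) := by
    have := d.Todd
    rwa [Nat.card_eq_fintype_card] at this
  -- the average
  have eps_T : ∀ (t : T) (x : M), ∑ t' : T, (t' : H) • (t : H) • x = ∑ t' : T, (t' : H) • x := by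
    intro t x
    rw [← Equiv.sum_comp (Equiv.mulRight t) (fun t' : T => (t' : H) • x)]
    refine Finset.sum_congr rfl fun t' _ => ?_
    rw [Equiv.coe_mulRight, Subgroup.coe_mul, mul_smul]
  have T_eps : ∀ (t : T) (x : M), (t : H) • ∑ t' : T, (t' : H) • x = ∑ t' : T, (t' : H) • x := by
    intro t x
    conv_rhs => rw [← Equiv.sum_comp (Equiv.mulLeft t) (fun t' : T => (t' : H) • x)]
    rw [Finset.smul_sum]
    refine Finset.sum_congr rfl fun t' _ => ?_
    rw [Equiv.coe_mulLeft, Subgroup.coe_mul, mul_smul]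
  let r1 : AddSubgroup M :=
    { carrier := {x | (∀ a ∈ A, a • x = x) ∧ ∑ t' : T, (t' : H) • x = 0}
      zero_mem' := ⟨fun a _ => smul_zero a, by simp⟩
      add_mem' := by
        rintro x y ⟨h1, h2⟩ ⟨h3, h4⟩
        refine ⟨fun a ha => by rw [smul_add, h1 a ha, h3 a ha], ?_⟩
        simp only [smul_add, Finset.sum_add_distrib, h2, h4, add_zero]
      neg_mem' := by
        rintro x ⟨h1, h2⟩
        refine ⟨fun a ha => by rw [smul_neg, h1 a ha], ?_⟩
        simp only [smul_neg, Finset.sum_neg_distrib, h2, neg_zero] }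
  have hr1T : Inv T r1 := by
    rintro t ht x ⟨h1, h2⟩
    exact ⟨d.cA_T h1 ht, by rw [eps_T ⟨t, ht⟩ x, h2]⟩
  have hr1S : Inv S r1 := by
    rintro s hs x ⟨h1, h2⟩
    refine ⟨d.cA_S h1 hs, ?_⟩
    have h3 : ∀ t' : T, (t' : H) • s • x = s • (t' : H) • x := fun t' => d.smul_comm_cA h1 hs t'.2
    simp only [h3]
    rw [← Finset.smul_sum, h2, smul_zero]
  -- it is enough to show `r1 = 0`
  by_cases hr1 : r1 = ⊥
  · intro t ht
    have h1 : m - ∑ t' : T, (t' : H) • m ∈ r1 := by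
      refine ⟨fun a ha => ?_, ?_⟩
      · rw [smul_sub, hm a ha, Finset.smul_sum]
        congr 1
        exact Finset.sum_congr rfl fun t' _ => d.cA_T hm t'.2 a ha
      · simp only [smul_sub, Finset.sum_sub_distrib]
        rw [Finset.sum_congr rfl (fun t' _ => T_eps t' m), Finset.sum_const, Finset.card_univ,
          nsmul_odd hexp hTc, sub_self]
    rw [hr1, AddSubgroup.mem_bot, sub_eq_zero] at h1
    rw [h1]
    exact T_eps ⟨t, ht⟩ m
  exfalso
  -- `r2`
  let r2 : AddSubgroup M :=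
    { carrier := {x | x ∈ r1 ∧ ∀ s ∈ S, s • x = x}
      zero_mem' := ⟨zero_mem _, fun s _ => smul_zero s⟩
      add_mem' := by
        rintro x y ⟨h1, h2⟩ ⟨h3, h4⟩
        exact ⟨add_mem h1 h3, fun a ha => by rw [smul_add, h2 a ha, h4 a ha]⟩
      neg_mem' := by
        rintro x ⟨h1, h2⟩
        exact ⟨neg_mem h1, fun a ha => by rw [smul_neg, h2 a ha]⟩ }
  have hr2T : Inv T r2 := by
    rintro t ht x ⟨h1, h2⟩
    exact ⟨hr1T t ht x h1, fun s hs => by rw [← d.smul_comm_cA h1.1 hs ht, h2 s hs]⟩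
  obtain ⟨x0, hx0, hx0'⟩ : ∃ x ∈ r2, x ≠ 0 := by
    obtain ⟨x, hx, hx0, hxS⟩ := exists_fixed hexp d.two hr1S (Y := ⊥)
      (fun g _ x hx => by rw [AddSubgroup.mem_bot] at hx ⊢; rw [hx, smul_zero]) (bot_lt_iff_ne_bot.2 hr1)
    exact ⟨x, ⟨hx, fun s hs => sub_eq_zero.1 (AddSubgroup.mem_bot.1 (hxS s hs))⟩, hx0⟩
  -- `X2`
  set X2 : AddSubgroup M := AddSubgroup.closure {y | ∃ g ∈ E, ∃ x ∈ r2, y = g • x} with hX2
  have hr2X : r2 ≤ X2 := fun x hx => AddSubgroup.subset_closure ⟨1, one_mem _, x, hx, (one_smul _ _).symm⟩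
  have hX2E : Inv E X2 := by
    intro g hg x hx
    induction hx using AddSubgroup.closure_induction with
    | mem x hx =>
      obtain ⟨g', hg', y, hy, rfl⟩ := hx
      exact AddSubgroup.subset_closure ⟨g * g', mul_mem hg hg', y, hy, (mul_smul _ _ _).symm⟩
    | zero => rw [smul_zero]; exact zero_mem _
    | add x y _ _ hx hy => rw [smul_add]; exact add_mem hx hy
    | neg x _ hx => rw [smul_neg]; exact neg_mem hx
  have hX2T : Inv T X2 := by
    intro t ht x hx
    induction hx using AddSubgroup.closure_induction with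
    | mem x hx =>
      obtain ⟨g', hg', y, hy, rfl⟩ := hx
      refine AddSubgroup.subset_closure ⟨t * g' * t⁻¹, d.TE t ht g' hg', t • y, hr2T t ht y hy, ?_⟩
      rw [mul_smul, mul_smul, inv_smul_smul]
    | zero => rw [smul_zero]; exact zero_mem _
    | add x y _ _ hx hy => rw [smul_add]; exact add_mem hx hy
    | neg x _ hx => rw [smul_neg]; exact neg_mem hx
  have hX2A : Inv A X2 := fun a ha => hX2E a (d.AE ha)
  -- `r2 ≤ [X2, E]` (transfer)
  have htr : r2 ≤ com E X2 := by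
    intro x hx
    have hfin : Finite (↥E ⧸ S.subgroupOf E) := inferInstance
    have hft : Fintype (↥E ⧸ S.subgroupOf E) := Fintype.ofFinite _
    let φ : ↥E ⧸ S.subgroupOf E → M := Quotient.lift (fun g : ↥E => (g : H) • x) (by
      intro a b hab
      have h1 : a⁻¹ * b ∈ S.subgroupOf E := QuotientGroup.leftRel_apply.1 hab
      rw [mem_subgroupOf] at h1
      have h2 := hx.2 _ h1
      rw [coe_mul, coe_inv, mul_smul, inv_smul_eq_iff] at h2
      exact h2.symm)
    have hφ : ∀ g : ↥E, φ (g : ↥E ⧸ S.subgroupOf E) = (g : H) • x := fun g => rfl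
    have hφE : ∀ (g : ↥E) (q : ↥E ⧸ S.subgroupOf E), (g : H) • φ q = φ (g • q) := by
      intro g q
      induction q using Quotient.inductionOn' with
      | h q => exact (mul_smul (g : H) (q : H) x).symm
    have h1 : ∑ q, φ q = 0 := by
      apply d.CE
      intro g hg
      rw [Finset.smul_sum, ← Equiv.sum_comp (MulAction.toPerm (⟨g, hg⟩ : ↥E)) φ]
      exact Finset.sum_congr rfl fun q _ => hφE ⟨g, hg⟩ q
    have h2 : ∑ q, (φ q - x) ∈ com E X2 := by
      refine sum_mem fun q _ => ?_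
      induction q using Quotient.inductionOn' with
      | h q => exact AddSubgroup.subset_closure ⟨q, q.2, x, hr2X hx, rfl⟩
    rw [Finset.sum_sub_distrib, h1, Finset.sum_const, Finset.card_univ, zero_sub] at h2
    have h3 : Odd (Fintype.card (↥E ⧸ S.subgroupOf E)) := by
      have := d.odd
      rwa [relIndex, index, Nat.card_eq_fintype_card] at this
    rw [nsmul_odd hexp h3] at h2
    exact (neg_mem_iff).1 h2
  -- a maximal invariant subgroup
  have hX2ne : X2 ≠ ⊥ := fun h => hx0' (by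
    have := hr2X hx0
    rw [h] at this
    exact this)
  obtain ⟨Y, hYmax⟩ := Set.Finite.exists_maximal (s := {Y : AddSubgroup M | Inv E Y ∧ Inv T Y ∧ Y < X2})
    (Set.toFinite _) ⟨⊥, fun g _ x hx => by rw [AddSubgroup.mem_bot] at hx ⊢; rw [hx, smul_zero],
      fun g _ x hx => by rw [AddSubgroup.mem_bot] at hx ⊢; rw [hx, smul_zero], bot_lt_iff_ne_bot.2 hX2ne⟩
  obtain ⟨⟨hYE, hYT, hYX⟩, hYm⟩ := hYmax
  have hYS : Inv S Y := fun s hs => hYE s (d.SE hs)
  have hYA : Inv A Y := fun a ha => hYE a (d.AE ha)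
  -- if `r2 ≤ Y` then `X2 ≤ Y`
  have hr2Y : ¬ r2 ≤ Y := by
    intro h
    apply hYX.not_ge
    rw [hX2, AddSubgroup.closure_le]
    rintro y ⟨g, hg, x, hx, rfl⟩
    exact hYE g hg x (h hx)
  -- `[X2, A]` is not in `Y`
  have hcom : ¬ com A X2 ≤ Y := by
    intro h
    apply hr2Y
    refine htr.trans ?_
    rw [com, AddSubgroup.closure_le]
    rintro y ⟨g, hg, x, hx, rfl⟩
    exact d.cen_E hX2E hYE (fun a ha x hx => h (AddSubgroup.subset_closure ⟨a, ha, x, hx, rfl⟩)) g hg x hx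
  have hXN : Inv N X2 := fun n hn => inv_sup hX2E hX2T n (d.NE hn)
  have hYN : Inv N Y := fun n hn => inv_sup hYE hYT n (d.NE hn)
  have hcomX : com A X2 ≤ X2 := d.com_le hX2A
  have hcomN : Inv N (com A X2) := d.inv_com d.NA hXN
  have hcomS : Inv S (com A X2) := d.inv_com d.SA (fun s hs => hX2E s (d.SE hs))
  let D : AddSubgroup M :=
    { carrier := {x | x ∈ X2 ∧ (∃ y ∈ com A X2, x - y ∈ Y) ∧ ∀ s ∈ S, s • x - x ∈ Y}
      zero_mem' := ⟨zero_mem _, ⟨0, zero_mem _, by rw [sub_zero]; exact zero_mem _⟩, fun s _ => by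
        rw [smul_zero, sub_zero]; exact zero_mem _⟩
      add_mem' := by
        rintro x y ⟨h1, ⟨u, hu, h2⟩, h3⟩ ⟨h4, ⟨v, hv, h5⟩, h6⟩
        refine ⟨add_mem h1 h4, ⟨u + v, add_mem hu hv, ?_⟩, fun s hs => ?_⟩
        · rw [add_sub_add_comm]; exact add_mem h2 h5
        · rw [smul_add, add_sub_add_comm]; exact add_mem (h3 s hs) (h6 s hs)
      neg_mem' := by
        rintro x ⟨h1, ⟨u, hu, h2⟩, h3⟩
        refine ⟨neg_mem h1, ⟨-u, neg_mem hu, ?_⟩, fun s hs => ?_⟩
        · have := neg_mem h2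
          rwa [neg_sub, ← neg_sub_neg] at this
        · have := neg_mem (h3 s hs)
          rwa [neg_sub, ← neg_sub_neg, ← smul_neg] at this }
  have hYD : Y ≤ D := fun x hx => ⟨hYX.le hx, ⟨0, zero_mem _, by rwa [sub_zero]⟩, fun s hs =>
    sub_mem (hYS s hs x hx) hx⟩
  have hDlt : Y < D := by
    refine lt_of_le_of_ne hYD fun h => ?_
    obtain ⟨x, hx, hxY, hxS⟩ := exists_fixed hexp d.two (X := com A X2 ⊔ Y) (Y := Y) (by
      intro s hs x hx
      obtain ⟨u, hu, v, hv, rfl⟩ := AddSubgroup.mem_sup.1 hx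
      rw [smul_add]
      exact AddSubgroup.add_mem_sup (hcomS s hs u hu) (hYS s hs v hv)) hYS
      (lt_of_le_of_ne le_sup_right fun h1 => hcom (by rw [h1]; exact le_sup_left))
    apply hxY
    rw [h]
    obtain ⟨u, hu, v, hv, rfl⟩ := AddSubgroup.mem_sup.1 hx
    refine ⟨add_mem (hcomX hu) (hYX.le hv), ⟨u, hu, by rwa [add_sub_cancel_left]⟩, hxS⟩
  have hDN : Inv N D := by
    rintro n hn x ⟨h1, ⟨u, hu, h2⟩, h3⟩
    refine ⟨hXN n hn x h1, ⟨n • u, hcomN n hn u hu, ?_⟩, fun s hs => ?_⟩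
    · rw [← smul_sub]; exact hYN n hn _ h2
    · have h4 : n⁻¹ * s * n ∈ S := by
        have := d.NS _ (inv_mem hn) s hs
        rwa [inv_inv] at this
      have h5 := hYN n hn _ (h3 _ h4)
      rwa [smul_sub, ← mul_smul, show n * (n⁻¹ * s * n) = s * n by group, mul_smul] at h5
  -- Curtis–Richen
  apply hr2Y
  intro x hx
  have hxD : x ∈ D := d.CR X2 Y hX2E hX2T hYE hYT hYX (by
    intro Z hZE hZT hYZ hZX
    by_cases h : Z = X2
    · exact Or.inr h
    · exact Or.inl (le_antisymm (hYm ⟨hZE, hZT, lt_of_le_of_ne hZX h⟩ hYZ) hYZ)) D hDlt (fun x hx => hx.1) hDN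
    (fun s hs x hx => hx.2.2 s hs) x (hr2X hx) (fun s hs => by rw [hx.2 s hs, sub_self]; exact zero_mem _)
  obtain ⟨-, ⟨y, hy, hxy⟩, -⟩ := hxD
  have h1 : ∀ t' : T, (t' : H) • x - x ∈ Y := by
    intro t'
    have h2 := sub_mem (hYT _ t'.2 _ hxy) hxy
    rw [smul_sub, d.com_T hy _ t'.2] at h2
    rwa [show (t' : H) • x - y - (x - y) = (t' : H) • x - x by abel] at h2
  have h2 : ∑ t' : T, ((t' : H) • x - x) ∈ Y := sum_mem fun t' _ => h1 t'
  rw [Finset.sum_sub_distrib, hx.1.2, Finset.sum_const, Finset.card_univ, nsmul_odd hexp hTc, zero_sub] at h2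
  exact neg_mem_iff.1 h2

end Dat

/-! ### (e) -/

/-- **(e)**: an element normalising `A`, commuting with `T` modulo `A`, fixing `e + rad`, fixes `e`. -/
theorem mem_of_fix {A T : Subgroup H} {e rad : AddSubgroup M} {g : H} (hgA : ∀ a ∈ A, g⁻¹ * a * g ∈ A)
    (hgT : ∀ t ∈ T, g * t * g⁻¹ * t⁻¹ ∈ A) (hTA : ∀ t ∈ T, ∀ a ∈ A, t * a * t⁻¹ ∈ A)
    (hTe : Inv T e) (hAe : ∀ a ∈ A, ∀ x ∈ e, a • x = x)
    (heT : e ≤ com T e) (hrad : ∀ m ∈ rad, (∀ a ∈ A, a • m = m) → ∀ t ∈ T, t • m = m)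
    (hg : ∀ x ∈ e, g • x ∈ e ⊔ rad) : ∀ x ∈ e, g • x ∈ e := by
  intro x hx
  have h1 := heT hx
  clear hx
  induction h1 using AddSubgroup.closure_induction with
  | mem x hx =>
    obtain ⟨t, ht, y, hy, rfl⟩ := hx
    -- `g • y` and `t • g • y` are fixed by `A`
    have k1 : ∀ a ∈ A, ∀ y ∈ e, a • g • y = g • y := by
      intro a ha y hy
      have := hAe _ (hgA a ha) y hy
      rw [mul_smul, mul_smul, inv_smul_eq_iff] at this
      exact this
    have k2 : ∀ a ∈ A, a • t • g • y = t • g • y := by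
      intro a ha
      have h2 : t⁻¹ * a * t ∈ A := by
        have := hTA _ (inv_mem ht) a ha
        rwa [inv_inv] at this
      have h3 := k1 _ h2 y hy
      rw [mul_smul, mul_smul, inv_smul_eq_iff] at h3
      exact h3
    have k3 : g • t • y = t • g • y := by
      have h2 := k2 _ (hgT t ht)
      rw [← h2, ← mul_smul, ← mul_smul, ← mul_smul]
      congr 1
      group
    obtain ⟨u, hu, r, hr, hur⟩ := AddSubgroup.mem_sup.1 (hg y hy)
    have k4 : ∀ a ∈ A, a • r = r := by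
      intro a ha
      have h2 := k1 a ha y hy
      rw [← hur, smul_add, hAe a ha u hu] at h2
      exact add_left_cancel h2
    have k5 := hrad r hr k4 t ht
    rw [smul_sub, k3, ← hur, smul_add, k5, add_sub_add_right_eq_sub]
    exact sub_mem (hTe t ht u hu) hu
  | zero => rw [smul_zero]; exact zero_mem _
  | add x y _ _ hx hy => rw [smul_add]; exact add_mem hx hy
  | neg x _ hx => rw [smul_neg]; exact neg_mem hx

end Cfsg.Agent.Omega.HOneQ.CRad
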