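import Cfsg.Agent.Omega.CR.Act
import Cfsg.Agent.Nodes.RGDLib
import Cfsg.Agent.Omega.HOneQ.CRad

/-!
# The sectional Curtis–Richen property `CRad.SecCR` from the theorem of Curtis and Richen (`Omega/CR`)

* `restrict` : a family of root group data restricted to a subgroup;
* `secAct` : the action of `K` on the section `X / Y`;
* `secCR_of_fam` : `SecCR E T S N M` from `Fam` with `GGt = E ⊔ T`, `S = Ut`, `T' ≤ N`.
-/

set_option autoImplicit false
set_option linter.unusedSectionVars false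

namespace Cfsg.Agent.Omega.HOneQ.SecCR

open CoxeterSystem Cfsg.Agent.ChevalleyStructure.CoxeterGeom Cfsg.Agent.Tits.Roots Cfsg.Agent.Tits.Core
  Cfsg.Agent.Tits.Exchange Cfsg.Agent.Nodes.Reps Cfsg.Agent.Nodes.BNOf Cfsg.Agent.Nodes.StabComb
  Cfsg.Agent.Nodes.Bruhat Cfsg.Agent.Nodes.OppDec Cfsg.Agent.Nodes.LeviDec Cfsg.Agent.KFacts.RgdOpp
open Cfsg.Agent.Omega.CR Cfsg.Agent.Omega.HOneQ.CRad

variable {κ : Type*} [Fintype κ] {I W : κ → Type*} {Y : Type*} [∀ l, Fintype (I l)] [∀ l, DecidableEq (I l)]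
  [∀ l, Group (W l)] [Group Y] {M : ∀ l, CoxeterMatrix (I l)}
  {cs : ∀ l, CoxeterSystem (M l) (W l)} {A : ∀ l, I l → I l → ℤ} {h : ∀ l, IsCartan (M l) (A l)} {p : ℕ}
  {T : Subgroup Y} {n : ∀ l, I l → Y} {X : ∀ l, (I l → ℤ) → Subgroup Y} {C : κ → Subgroup Y}

/-- restriction of a family to a subgroup -/
theorem restrict (F : Fam cs h p T n X C) (K : Subgroup Y) (hX : ∀ l x, IsRoot (cs l) (h l) x → X l x ≤ K)
    (hn : ∀ l i, n l i ∈ K) :
    Fam cs h p (T.subgroupOf K) (fun l i => ⟨n l i, hn l i⟩) (fun l x => (X l x).subgroupOf K)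
      (fun l => (C l).subgroupOf K) where
  rgd l := Cfsg.Agent.Nodes.RGDLib.rgd_restrict (F.rgd l) K (hX l) (hn l)
  X_le l x hx := fun _ hg => F.X_le l x hx hg
  n_mem l i := F.n_mem l i
  comm l m hlm a ha b hb := Subtype.ext (F.comm l m hlm _ ha _ hb)

theorem n_mem_GGt (F : Fam cs h p T n X C) (l : κ) (i : I l) : n l i ∈ GGt cs h T X := by
  apply GG_le_GGt l
  have h1 : n l i ∈ LJ (cs l) (h l) T (X l) Set.univ := n_mem_LJ (F.rgd l) (Set.mem_univ i)
  have h2 : LJ (cs l) (h l) T (X l) Set.univ ≤ GG (cs l) (h l) T (X l) :=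
    sup_le le_sup_left ((RGD.Sup_le fun z hz => (RGD.le_Sup (X := X l) (S := {x | IsRoot (cs l) (h l) x}) hz.1)).trans
      le_sup_right)
  exact h2 h1

theorem X_le_GGt (l : κ) (x : I l → ℤ) (hx : IsRoot (cs l) (h l) x) : X l x ≤ GGt cs h T X :=
  ((RGD.le_Sup (X := X l) (S := {x | IsRoot (cs l) (h l) x}) hx).trans le_sup_right).trans (GG_le_GGt l)

theorem Ut_restrict_le (K : Subgroup Y) :
    Ut cs h (fun l x => (X l x).subgroupOf K) ≤ (Ut cs h X).subgroupOf K := by
  refine iSup_le fun l => RGD.Sup_le fun z hz => ?_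
  intro g hg
  rw [Subgroup.mem_subgroupOf] at hg ⊢
  exact U_le_Ut l (RGD.le_Sup (X := X l) hz hg)

theorem GGt_restrict_eq : GGt cs h (T.subgroupOf (GGt cs h T X)) (fun l x => (X l x).subgroupOf (GGt cs h T X)) = ⊤ := by
  have h1 : (GGt cs h (T.subgroupOf (GGt cs h T X)) (fun l x => (X l x).subgroupOf (GGt cs h T X))).map
      (GGt cs h T X).subtype = GGt cs h T X := by
    apply le_antisymm
    · rintro _ ⟨g, -, rfl⟩
      exact g.2
    · have hT : T ≤ GGt cs h T X := le_sup_left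
      refine sup_le ?_ (iSup_le fun l => sup_le ?_ (RGD.Sup_le fun z hz => ?_))
      · intro t ht
        exact ⟨⟨t, hT ht⟩, Subgroup.mem_sup_left ht, rfl⟩
      · intro t ht
        exact ⟨⟨t, hT ht⟩, Subgroup.mem_sup_left ht, rfl⟩
      · intro g hg
        refine ⟨⟨g, X_le_GGt l z hz hg⟩, ?_, rfl⟩
        exact GG_le_GGt l (Subgroup.mem_sup_right (RGD.le_Sup
          (X := fun x => (X l x).subgroupOf (GGt cs h T X)) (S := {x | IsRoot (cs l) (h l) x}) hz hg))
  rw [eq_top_iff]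
  rintro ⟨g, hg⟩ -
  rw [← h1] at hg
  obtain ⟨g', hg', e⟩ := hg
  have : g' = ⟨g, h1 ▸ ⟨g', hg', e⟩⟩ := Subtype.ext e
  rw [← this]
  exact hg'

section act

variable {V : Type*} [AddCommGroup V] [DistribMulAction Y V]

/-- the action on a section -/
@[reducible] def secAct (K : Subgroup Y) {P Q : AddSubgroup V} (hP : Inv K P) (hQ : Inv K Q) :
    DistribMulAction K (↥P ⧸ Q.addSubgroupOf P) where
  smul s := Quotient.map' (fun x : ↥P => (⟨(s : Y) • (x : V), hP _ s.2 _ x.2⟩ : ↥P)) (by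
    intro a b hab
    rw [QuotientAddGroup.leftRel_apply, AddSubgroup.mem_addSubgroupOf] at hab ⊢
    have h1 := hQ _ s.2 _ hab
    rw [AddSubgroup.coe_add, AddSubgroup.coe_neg, smul_add, smul_neg] at h1
    exact h1)
  one_smul x := by
    induction x using Quotient.inductionOn' with
    | h x =>
      show Quotient.mk'' _ = Quotient.mk'' _
      congr 1
      exact Subtype.ext (one_smul Y (x : V))
  mul_smul a b x := by
    induction x using Quotient.inductionOn' with
    | h x =>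
      show Quotient.mk'' _ = Quotient.mk'' _
      congr 1
      exact Subtype.ext (mul_smul (a : Y) (b : Y) (x : V))
  smul_zero s := by
    show Quotient.mk'' _ = Quotient.mk'' _
    congr 1
    exact Subtype.ext (smul_zero (s : Y))
  smul_add s x y := by
    induction x using Quotient.inductionOn' with
    | h x =>
      induction y using Quotient.inductionOn' with
      | h y =>
        show Quotient.mk'' _ = Quotient.mk'' _
        congr 1
        exact Subtype.ext (smul_add (s : Y) (x : V) (y : V))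

/-- **the sectional Curtis–Richen property** -/
theorem secCR_of_fam [Finite Y] [∀ l, Finite (W l)] [Finite V] (F : Fam cs h 2 T n X C) {E T₀ N : Subgroup Y}
    (hG : GGt cs h T X = E ⊔ T₀) (hN : T ≤ N) (hexp : ∀ v : V, v + v = 0) : SecCR E T₀ (Ut cs h X) N V := by
  intro P Q hPE hPT hQE hQT hlt hsim D hQD hDP hDN hDS x hx hxS
  have : Fact (Nat.Prime 2) := ⟨Nat.prime_two⟩
  have hP : Inv (GGt cs h T X) P := by rw [hG]; exact inv_sup hPE hPT
  have hQ : Inv (GGt cs h T X) Q := by rw [hG]; exact inv_sup hQE hQT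
  let inst : DistribMulAction (GGt cs h T X) (↥P ⧸ Q.addSubgroupOf P) := secAct (GGt cs h T X) hP hQ
  have F' := restrict F (GGt cs h T X) (fun l x hx => X_le_GGt l x hx) (n_mem_GGt F)
  have hsm : ∀ (g : GGt cs h T X) (v : ↥P), g • (v : ↥P ⧸ Q.addSubgroupOf P) =
      ((⟨(g : Y) • (v : V), hP _ g.2 _ v.2⟩ : ↥P) : ↥P ⧸ Q.addSubgroupOf P) := fun _ _ => rfl
  have hmk : ∀ v w : ↥P, ((v : ↥P ⧸ Q.addSubgroupOf P) = (w : ↥P ⧸ Q.addSubgroupOf P)) ↔ (v : V) - w ∈ Q := by
    intro v w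
    rw [eq_comm, QuotientAddGroup.eq, AddSubgroup.mem_addSubgroupOf, AddSubgroup.coe_add, AddSubgroup.coe_neg,
      neg_add_eq_sub]
  have hexp' : ∀ v : ↥P ⧸ Q.addSubgroupOf P, 2 • v = 0 := by
    intro v
    induction v using Quotient.inductionOn' with
    | h v =>
      rw [two_nsmul]
      show ((v + v : ↥P) : ↥P ⧸ Q.addSubgroupOf P) = 0
      have : v + v = 0 := Subtype.ext (hexp v)
      rw [this]
      rfl
  have hirr : ∀ L : AddSubgroup (↥P ⧸ Q.addSubgroupOf P),
      (∀ g ∈ GGt cs h (T.subgroupOf (GGt cs h T X)) (fun l x => (X l x).subgroupOf (GGt cs h T X)), ∀ v ∈ L, g • v ∈ L) →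
        L = ⊥ ∨ L = ⊤ := by
    intro L hL
    let Z : AddSubgroup V := (L.comap (QuotientAddGroup.mk' (Q.addSubgroupOf P))).map P.subtype
    have hZ : ∀ v : ↥P, (v : V) ∈ Z ↔ (v : ↥P ⧸ Q.addSubgroupOf P) ∈ L := by
      intro v
      constructor
      · rintro ⟨w, hw, e⟩
        have : w = v := Subtype.ext e
        subst this
        exact hw
      · intro hv
        exact ⟨v, hv, rfl⟩
    have hZP : Z ≤ P := by
      rintro _ ⟨v, -, rfl⟩
      exact v.2
    have hZG : Inv (GGt cs h T X) Z := by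
      intro g hg v hv
      have h1 := (hZ ⟨v, hZP hv⟩).1 hv
      have h2 := hL ⟨g, hg⟩ (by rw [GGt_restrict_eq]; trivial) _ h1
      rw [hsm] at h2
      exact (hZ _).2 h2
    have hQZ : Q ≤ Z := by
      intro v hv
      refine (hZ ⟨v, hlt.le hv⟩).2 ?_
      have h1 : ((⟨v, hlt.le hv⟩ : ↥P) : ↥P ⧸ Q.addSubgroupOf P) = 0 := by
        rw [QuotientAddGroup.eq_zero_iff, AddSubgroup.mem_addSubgroupOf]
        exact hv
      rw [h1]
      exact zero_mem _
    have hEG : E ≤ GGt cs h T X := by rw [hG]; exact le_sup_left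
    have hTG : T₀ ≤ GGt cs h T X := by rw [hG]; exact le_sup_right
    rcases hsim Z (fun g hg => hZG g (hEG hg)) (fun g hg => hZG g (hTG hg)) hQZ hZP with h1 | h1
    · left
      rw [eq_bot_iff]
      intro v hv
      induction v using Quotient.inductionOn' with
      | h v =>
        have h2 : (v : V) ∈ Z := (hZ v).2 hv
        rw [h1] at h2
        rw [AddSubgroup.mem_bot]
        exact (QuotientAddGroup.eq_zero_iff v).2 (AddSubgroup.mem_addSubgroupOf.2 h2)
    · right
      rw [eq_top_iff]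
      intro v _
      induction v using Quotient.inductionOn' with
      | h v =>
        have h2 : (v : V) ∈ Z := by rw [h1]; exact v.2
        exact (hZ v).1 h2
  let e : AddSubgroup (↥P ⧸ Q.addSubgroupOf P) := (D.addSubgroupOf P).map (QuotientAddGroup.mk' (Q.addSubgroupOf P))
  have he : ∀ v : ↥P, (v : ↥P ⧸ Q.addSubgroupOf P) ∈ e ↔ (v : V) ∈ D := by
    intro v
    constructor
    · rintro ⟨w, hw, e⟩
      have h1 : (w : V) - v ∈ Q := (hmk w v).1 e
      have h2 : (w : V) ∈ D := AddSubgroup.mem_addSubgroupOf.1 hw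
      have h3 := sub_mem h2 (hQD.le h1)
      rwa [sub_sub_cancel] at h3
    · intro hv
      exact ⟨v, AddSubgroup.mem_addSubgroupOf.2 hv, rfl⟩
  have hUt := Ut_restrict_le (cs := cs) (h := h) (X := X) (GGt cs h T X)
  have key := F'.act_le hexp' hirr (e := e) ?_ ?_ ?_ (x := ((⟨x, hx⟩ : ↥P) : ↥P ⧸ Q.addSubgroupOf P)) ?_
  · exact (he ⟨x, hx⟩).1 key
  · intro h0
    obtain ⟨v, hv, hvQ⟩ := SetLike.exists_of_lt hQD
    apply hvQ
    have h1 := (he ⟨v, hDP hv⟩).2 hv
    rw [h0, AddSubgroup.mem_bot, QuotientAddGroup.eq_zero_iff, AddSubgroup.mem_addSubgroupOf] at h1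
    exact h1
  · intro u hu v hv
    induction v using Quotient.inductionOn' with
    | h v =>
      have h1 : (v : V) ∈ D := (he v).1 hv
      have h2 := hDS u (hUt hu) v h1
      exact (hmk ⟨(u : Y) • (v : V), hP _ u.2 _ v.2⟩ v).2 h2
  · intro t ht v hv
    induction v using Quotient.inductionOn' with
    | h v =>
      have h1 : (v : V) ∈ D := (he v).1 hv
      exact (he ⟨(t : Y) • (v : V), hP _ t.2 _ v.2⟩).2 (hDN t (hN ht) v h1)
  · intro u hu
    exact (hmk ⟨(u : Y) • (x : V), hP _ u.2 _ hx⟩ ⟨x, hx⟩).2 (hxS u (hUt hu))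

end act

end Cfsg.Agent.Omega.HOneQ.SecCR
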