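import Cfsg.Agent.Omega.HOneQ.Core
import Cfsg.Agent.Omega.BTwo.EntryC

/-!
# II.0h1, split case: the entry (#12896 (1), (2), (8))

`G` of characteristic 2 type, `V` natural (`NatMod F V`), `S ∈ Syl₂(G)`, `S ≤ N(V)`, `(V, V^g)` a mutual pair; nothing is
assumed on `Ω₁(Z(S))`, so `C(X) ≠ 1` is allowed.

* `nonLoc_P` **(2)**: `P ≥ S` transitive on `V^#`: no 2-subgroup `≠ 1` is normalised by `P` and `N(V ∩ V^g)`;
* `bts`: `V ≤ O₂(N(V ∩ V^g))` ⇒ `BTS V (pt M)`;
* `exists_pt`: `S` normalises a point; `exists_sylow_pt`: every point is normalised by a Sylow 2-subgroup of `G` in `N(V)`;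
* `X_le_P` **(1)**: `S ≤ P`, `P` induces `SL₂(F)` on `V` ⇒ `X ≤ P`, so `C(P) ≤ C(X)`;
* `core_le_of_mutual`, `not_le_Q_of_mutual`, `exists_ZZ_of_mutual` **(8)**, `|F| ≥ 4`, for all points.
-/

set_option autoImplicit false
set_option linter.unusedSectionVars false

namespace Cfsg.Agent.Omega.HOneQ

open Subgroup Cfsg Cfsg.Agent.Lib.SL2Mat Cfsg.Agent.Omega.MinPar Cfsg.Agent.ZN
open Cfsg.Agent.Omega.NatPair (NatMod Mutual exists_conj dt exists_ap)
open Cfsg.Agent.Omega.BTwo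

universe u v

variable {G : Type u} [Group G] {F : Type v} [Field F] {V : Subgroup G}

section main

variable [Finite G] [Finite F] [CharP F 2] (M : NatMod F V) (S : Sylow 2 G)
  (hS : (S : Subgroup G) ≤ normalizer (V : Set G))

include M in
theorem V_isPGroup : IsPGroup 2 V := fun x => ⟨1, Subtype.ext (by
  show (x : G) ^ 2 ^ 1 = 1
  rw [pow_one, pow_two]; exact M.sq x.2)⟩

include M in
theorem V_ne_bot : V ≠ ⊥ := by
  intro h
  have h1 : M.e ![1, 0] = 1 := mem_bot.1 (h.le (M.e_mem ![1, 0]))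
  rw [M.e_eq_one] at h1
  exact one_ne_zero (congrFun h1 0)

include M hS in
theorem V_le_S : V ≤ (S : Subgroup G) := le_of_le_normalizer S (V_isPGroup M) hS

include M hS in
/-- **(2)**: no 2-subgroup `≠ 1` is normalised by `P` and `N(V ∩ V^g)` -/
theorem nonLoc_P (hG : IsCharacteristicTwoType G) {P : Subgroup G} (hSP : (S : Subgroup G) ≤ P)
    (hP : ∀ v ∈ V, v ≠ 1 → ∀ v' ∈ V, v' ≠ 1 → ∃ l ∈ P, l * v * l⁻¹ = v') {g : G}
    (h : Mutual V (NatPair.cj g V)) : NonLoc P (normalizer ((V ⊓ NatPair.cj g V : Subgroup G) : Set G)) := by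
  have hfact : Fact (Nat.Prime 2) := ⟨Nat.prime_two⟩
  intro T hT h1 h2
  by_contra hT1
  have hL := isLoc_normalizer S hT hT1 (hSP.trans h1)
  have hc := hL.char2 S hG
  have hQS := hL.o2_le S
  set Q := o2 (normalizer (T : Set G)) with hQ
  have hQn : normalizer (T : Set G) ≤ normalizer (Q : Set G) := le_normalizer_O2 _
  obtain ⟨y, hyV, hy1, hyZ⟩ := exists_mem_zc S.isPGroup' (V_ne_bot M) (V_le_S M S hS) hS
  rw [MinSimple.VModule.mem_zc] at hyZ
  have hcomm : ∀ v ∈ V, ∀ q ∈ Q, q * v = v * q := by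
    intro v hv q hq
    by_cases hv1 : v = 1
    · rw [hv1, mul_one, one_mul]
    obtain ⟨l, hl, rfl⟩ := hP y hyV hy1 v hv hv1
    have h3 : l⁻¹ * q * l ∈ Q := conj_inv_mem_of_normalizer (hQn (h1 hl)) hq
    have h4 := hyZ.2.1 _ (hQS h3)
    calc q * (l * y * l⁻¹) = l * (l⁻¹ * q * l * y) * l⁻¹ := by group
      _ = l * (y * (l⁻¹ * q * l)) * l⁻¹ := by rw [h4]
      _ = l * y * l⁻¹ * q := by group
  have hVQ : V ≤ Q := by
    intro v hv
    refine hc (mem_inf.2 ⟨h1 (hSP (V_le_S M S hS hv)), ?_⟩)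
    rw [mem_centralizer_iff]
    exact fun q hq => hcomm v hv q hq
  obtain ⟨x, hx, hxV⟩ := exists_conj M h
  obtain ⟨v, hv, w, hw, hvw⟩ := h.ne
  apply hvw
  refine (hcomm v hv w ?_).symm
  rw [← hxV, NatPair.mem_cj] at hw
  have h3 := conj_mem_of_normalizer (hQn (h2 hx)) (hVQ hw)
  have h4 : x * (x⁻¹ * w * x) * x⁻¹ = w := by group
  rwa [h4] at h3

include hS in
/-- **the entry to `BTS`** -/
theorem bts (hG : IsCharacteristicTwoType G) {g : G} (h : Mutual V (NatPair.cj g V))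
    (hQ : V ≤ QQ (V ⊓ NatPair.cj g V)) : BTS V (pt M) := by
  have hfact : Fact (Nat.Prime 2) := ⟨Nat.prime_two⟩
  obtain ⟨-, w, w', hw, hw', hl, -⟩ := NatPair.pair M (M.conj g) h
  refine { bt M S hS h hQ with nonloc := ?_, cenQ := ?_ }
  · rintro ⟨_, u, hu, rfl⟩ T hT - - hVT hRT
    change normalizer ((M.line u : Subgroup G) : Set G) ≤ _ at hRT
    apply nonLoc_P M S hS hG hS (fun v hv hv1 v' hv' hv1' => M.trans hv hv1 hv' hv1') h T hT hVT
    obtain ⟨A, hA⟩ := exists_ap hw.ne hu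
    obtain ⟨l, hlA⟩ := M.lift A
    have h1 : BTwo.cj l (M.line w) = M.line u := by
      have := M.cj_line_of_ind hlA w
      rw [hA] at this
      exact this
    intro x hx
    have hl' : l ∈ normalizer (T : Set G) := hVT (M.mem_normalizer hlA)
    rw [hl] at hx
    have h2 : l * x * l⁻¹ ∈ normalizer ((M.line u : Subgroup G) : Set G) := by
      rw [← h1, normalizer_cj]
      exact conj_mem_cj hx
    have h3 : l⁻¹ * (l * x * l⁻¹) * l ∈ normalizer (T : Set G) := mul_mem (mul_mem (inv_mem hl') (hRT h2)) hl'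
    have h4 : l⁻¹ * (l * x * l⁻¹) * l = x := by group
    rwa [h4] at h3
  · rintro ⟨_, u, hu, rfl⟩
    obtain ⟨S₁, -, h2⟩ := M.exists_sylow S hS hu
    have hU : IsPGroup 2 (M.line u) := (V_isPGroup M).to_le (M.line_le u)
    have hne : M.line u ≠ ⊥ := by
      intro h1
      have h2 : M.e u ∈ M.line u := ⟨1, by rw [one_smul]⟩
      rw [h1, mem_bot, M.e_eq_one] at h2
      exact hu h2
    exact (isLoc_normalizer S₁ hU hne h2).char2 S₁ hG

/-- a Sylow 2-subgroup of `G` in a subgroup has odd relative index -/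
theorem odd_relIndex (S : Sylow 2 G) {H : Subgroup G} (h : (S : Subgroup G) ≤ H) :
    Odd ((S : Subgroup G).relIndex H) := by
  have hfact : Fact (Nat.Prime 2) := ⟨Nat.prime_two⟩
  rw [← Nat.not_even_iff_odd, even_iff_two_dvd]
  intro hd
  exact S.not_dvd_index (hd.trans (relIndex_dvd_index_of_le h))

include hS in
/-- every point is normalised by a Sylow 2-subgroup of `G` contained in `N(V)` -/
theorem exists_sylow_pt (i : Pt M) : ∃ S₁ : Sylow 2 G, (S₁ : Subgroup G) ≤ normalizer (V : Set G) ∧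
    (S₁ : Subgroup G) ≤ normalizer (pt M i : Set G) ∧ Odd ((S₁ : Subgroup G).relIndex (normalizer (pt M i : Set G))) := by
  obtain ⟨_, u, hu, rfl⟩ := i
  obtain ⟨S₁, h1, h2⟩ := M.exists_sylow S hS hu
  exact ⟨S₁, h1, h2, odd_relIndex S₁ h2⟩

include hS in
/-- `S` normalises a point -/
theorem exists_pt : ∃ i : Pt M, (S : Subgroup G) ≤ normalizer (pt M i : Set G) := by
  have hfact : Fact (Nat.Prime 2) := ⟨Nat.prime_two⟩
  obtain ⟨y, hyV, hy1, hyZ⟩ := exists_mem_zc S.isPGroup' (V_ne_bot M) (V_le_S M S hS) hS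
  rw [MinSimple.VModule.mem_zc] at hyZ
  obtain ⟨x, rfl⟩ := (M.mem_iff y).1 hyV
  have hx : x ≠ 0 := fun h => hy1 (by rw [h, M.e_zero])
  refine ⟨⟨M.line x, x, hx, rfl⟩, fun s hs => ?_⟩
  change s ∈ normalizer ((M.line x : Subgroup G) : Set G)
  rw [← NatPair.cj_eq_iff, M.cj_line (hS hs)]
  have h1 : M.act s x = x := by
    apply M.e_inj
    rw [M.e_act (hS hs), mul_inv_eq_iff_eq_mul]
    exact hyZ.2.1 s hs
  rw [h1]

include hS in
/-- **(1)** `X ≤ P` if `S ≤ P` and `P` induces `SL₂(F)` on `V` -/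
theorem X_le_P (b : BT V (pt M)) {P : Subgroup G} (hSP : (S : Subgroup G) ≤ P)
    (hP : ∀ A : Matrix.SpecialLinearGroup (Fin 2) F, ∃ l ∈ P, M.Ind l A) : XX V (pt M) ≤ P := by
  obtain ⟨i₀, hi₀⟩ := exists_pt M S hS
  have hW : WW V (pt M i₀) ≤ P := by
    refine (b.W_le_Q i₀).trans (le_trans ?_ hSP)
    exact le_of_le_normalizer S (O2_isPGroup _) (hi₀.trans (le_normalizer_O2 _))
  refine iSup_le fun i => ?_
  obtain ⟨Ri, u, hu, hRi⟩ := i
  obtain ⟨R0, w, hw, hR0⟩ := i₀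
  obtain ⟨A, hA⟩ := exists_ap hw hu
  obtain ⟨l, hl, hlA⟩ := hP A
  have h1 : BTwo.cj l (pt M ⟨R0, w, hw, hR0⟩) = pt M ⟨Ri, u, hu, hRi⟩ := by
    have := M.cj_line_of_ind hlA w
    rw [hA, ← hRi, ← hR0] at this
    exact this
  rw [← b.cj_WW h1, cj_le_iff]
  exact fun x hx => mul_mem (mul_mem hl (hW hx)) (inv_mem hl)

include hS in
/-- **(1)** `C(P) ≤ C(X)` -/
theorem cen_P_le (b : BT V (pt M)) {P : Subgroup G} (hSP : (S : Subgroup G) ≤ P)
    (hP : ∀ A : Matrix.SpecialLinearGroup (Fin 2) F, ∃ l ∈ P, M.Ind l A) :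
    centralizer (P : Set G) ≤ CenX V (pt M) := centralizer_le (X_le_P M S hS b hSP hP)

theorem exists_ne_one (h : 4 ≤ Nat.card F) : ∃ a : F, a ≠ 0 ∧ a ≠ 1 := by
  classical
  have : Fintype F := Fintype.ofFinite F
  rw [Nat.card_eq_fintype_card] at h
  by_contra hcon
  push Not at hcon
  have h1 : (Finset.univ : Finset F) ⊆ {0, 1} := by
    intro a _
    rw [Finset.mem_insert, Finset.mem_singleton]
    by_cases h0 : a = 0
    · exact Or.inl h0
    · exact Or.inr (hcon a h0)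
  have h2 := Finset.card_le_card h1
  rw [Finset.card_univ] at h2
  have h3 := Finset.card_le_two (a := (0 : F)) (b := 1)
  omega

theorem exists_other (b : BT V (pt M)) (i : Pt M) : ∃ j, i ≠ j := by
  obtain ⟨j, hj, -⟩ := b.third i i
  exact ⟨j, hj.symm⟩

section four

variable (hG : IsCharacteristicTwoType G) (hF : 4 ≤ Nat.card F) {g : G} (h : Mutual V (NatPair.cj g V))
  (hQ : V ≤ QQ (V ⊓ NatPair.cj g V))

include hS hG hF h hQ

/-- `C(W i) = Z(W i) C(X)` for all points -/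
theorem splits_of_mutual (i : Pt M) : Splits V (pt M) i := by
  have b := bts M S hS hG h hQ
  obtain ⟨j, hij⟩ := exists_other M b.toBT i
  obtain ⟨w, u, -, -, -, w1, w2, c⟩ := exists_coord M S hS h hQ hij
  exact b.splits_of_coord c (exists_ne_one hF) i

/-- `C(X)` is abelian -/
theorem CenX_comm_of_mutual : ∀ x ∈ CenX V (pt M), ∀ y ∈ CenX V (pt M), x * y = y * x := by
  have b := bts M S hS hG h hQ
  obtain ⟨i⟩ := b.nonempty
  exact b.CenX_comm (splits_of_mutual M S hS hG hF h hQ i)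

/-- **LEMMA E, `q ≥ 4`** -/
theorem core_le_of_mutual {i : Pt M} {B : Subgroup G} (hBN : normalizer (pt M i : Set G) ≤ normalizer (B : Set G))
    (hB : ∀ x ∈ B, ∃ a ∈ pt M i, a * x ∈ CenX V (pt M)) : B ≤ pt M i := by
  have b := bts M S hS hG h hQ
  obtain ⟨j, hij⟩ := exists_other M b.toBT i
  obtain ⟨w, u, -, -, -, w1, w2, c⟩ := exists_coord M S hS h hQ hij
  obtain ⟨S₁, h1, h2, h3⟩ := exists_sylow_pt M S hS i
  exact core_le_of_coord b c (exists_ne_one hF) h2 h1 h3 hBN hB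

/-- **(8), `q ≥ 4`** -/
theorem not_le_Q_of_mutual {i k : Pt M} (hik : i ≠ k) {B : Subgroup G}
    (hBN : normalizer (pt M i : Set G) ≤ normalizer (B : Set G))
    (hBW : B ≤ centralizer (WW V (pt M i) : Set G)) (hBX : B ⊓ CenX V (pt M) ≠ ⊥) : ¬ B ≤ QQ (pt M k) := by
  have b := bts M S hS hG h hQ
  obtain ⟨j, hij⟩ := exists_other M b.toBT i
  obtain ⟨w, u, -, -, -, w1, w2, c⟩ := exists_coord M S hS h hQ hij
  obtain ⟨S₁, h1, h2, h3⟩ := exists_sylow_pt M S hS i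
  exact not_le_Q_of_coord b c (exists_ne_one hF) h2 h1 h3 hik hBN hBW hBX

/-- **`F_0 ≠ 0`**: `C(X) ≠ 1` implies that `Z(W i)` is not contained in `Q k` -/
theorem exists_ZZ_of_mutual {i k : Pt M} (hik : i ≠ k) (hC : CenX V (pt M) ≠ ⊥) :
    ∃ z ∈ ZZ V (pt M) i, z ∉ QQ (pt M k) := by
  have b := bts M S hS hG h hQ
  obtain ⟨j, hij⟩ := exists_other M b.toBT i
  obtain ⟨w, u, -, -, -, w1, w2, c⟩ := exists_coord M S hS h hQ hij
  obtain ⟨S₁, h1, h2, h3⟩ := exists_sylow_pt M S hS i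
  exact exists_ZZ_of_coord b c (exists_ne_one hF) h2 h1 h3 hik hC

end four

end main

end Cfsg.Agent.Omega.HOneQ
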