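import Cfsg.Agent.Omega.HOneQ.NormV
import Cfsg.Agent.Omega.HOne.SameCut

/-!
# The socket `NVH K` (II.0h1 split, same type, `q ≥ 4`; OMEGA #17641 (2)); helper866

`KDS K` : the K-side data `KD` for `E = ⟨A^H⟩` (helper951, helper466);
`nvH : KDS K → NVH K`.
-/

set_option autoImplicit false
set_option linter.unusedSectionVars false

namespace Cfsg.Agent.Omega.HOneQ.NVH

open Subgroup Cfsg Cfsg.Agent.ZN Cfsg.Agent.Omega.MinPar Cfsg.Agent.Omega.Frame
open Cfsg.Agent.Omega.NatPair (NatMod)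
open Cfsg.Agent.Omega.BTwo Cfsg.Agent.Omega.Lie Cfsg.Agent.Omega.Lie.Quot
open Cfsg.Agent.Omega.IIa4 (LayAll)
open Cfsg.Agent.Omega.HOne.SameOf (Sit4)
open Cfsg.Agent.Omega.HOneQ.Fr (KD)

universe u

section sit

variable {G : Type u} [Group G] [Finite G] {S : Sylow 2 G} {P : Subgroup G} {g : G} {F : Type} [Field F]
  [Finite F] [CharP F 2] {N : Subgroup G} {M : NatMod F N} (h : Sit4 S P g M)
include h

/-- `pr x ∈ N(A)` implies `x ∈ N(V)` -/
theorem normV_sit (hl : LayAll N (pt M) F) {i j : Pt M} {v : F → F → G} {w1 w2 t : F → G}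
    (c : Coord N (pt M) i j v w1 w2) (τ : TorD N (pt M) i j v t) (S₁ : Sylow 2 G)
    (hV : (S₁ : Subgroup G) ≤ normalizer (N : Set G)) (hR : (S₁ : Subgroup G) ≤ normalizer (pt M i : Set G))
    {HE : Subgroup (HQ (pt M i))} {w : HQ (pt M i)}
    (k : KD (ECen.EE N (pt M) i j) (SS (pt M) i S₁ ⊓ ECen.EE N (pt M) i j) HE (AA N (pt M) i j) (TT τ) w)
    {x : G} (hx : x ∈ normalizer (pt M i : Set G))
    (hA : pr (pt M i) ⟨x, hx⟩ ∈ normalizer (AA N (pt M) i j : Set (HQ (pt M i)))) :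
    x ∈ normalizer (N : Set G) := by
  have l := hl i j c.ne v w1 w2 t c τ S₁ hV hR
  exact NormV.normV h.bts h.exists_ne c τ (h.odd i)
    (ECen.sylI_of_sylow h.bt τ (Crd.of_coord c) c.ne S₁ hV hR) l.innC l.odd k (h.exists_ZZ' c.ne) hx
    fun a ha => BTwo.conj_mem_of_normalizer hA ha

end sit

/-- the K-side data -/
def KDS (K : Cls.{u}) : Prop :=
  ∀ (G : Type u) [Group G] [Finite G], K G → ∀ (S : Sylow 2 G) (P : Subgroup G) (g : G) (F : Type) [Field F]
    [Finite F] [CharP F 2] (N : Subgroup G) (M : NatMod F N), Sit4 S P g M → LayAll N (pt M) F →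
      ∀ (i j : Pt M) (v : F → F → G) (w1 w2 t : F → G), Coord N (pt M) i j v w1 w2 →
        ∀ (τ : TorD N (pt M) i j v t) (S₁ : Sylow 2 G), (S₁ : Subgroup G) ≤ normalizer (N : Set G) →
          (S₁ : Subgroup G) ≤ normalizer (pt M i : Set G) →
            ∃ (HE : Subgroup (HQ (pt M i))) (w : HQ (pt M i)),
              KD (ECen.EE N (pt M) i j) (SS (pt M) i S₁ ⊓ ECen.EE N (pt M) i j) HE (AA N (pt M) i j) (TT τ) w

/-- **The socket `NVH K`.** -/
theorem nvH {K : Cls.{u}} (hk : KDS K) : HOne.SameCut.NVH K := by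
  intro G _ _ hK S P g F _ _ _ N M h hl _ i j hij x hx hA
  obtain ⟨v, w1, w2, c⟩ := h.exists_coord hij
  obtain ⟨t, τ⟩ := h.exists_torD c
  obtain ⟨S₁, hV, hR⟩ := h.exists_sylow i
  obtain ⟨HE, w, k⟩ := hk G hK S P g F N M h hl i j v w1 w2 t c τ S₁ hV hR
  exact normV_sit h hl c τ S₁ hV hR k hx hA

end Cfsg.Agent.Omega.HOneQ.NVH
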