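import Cfsg.Agent.Omega.HOneQ.ResN
import Cfsg.Agent.Omega.Lie.TorD

/-!
# II.0h1, split, `q ≥ 4`: `W_N = ⟨V^P⟩` (#15939)

* `WN`: the group generated by the lines;
* `Nd.alpha_*` : a line `≠ V` in `D`: `W_N` is normalised by `X` and `P`, elementary abelian;
* `Sc` : the torus acts on a line `V' ≤ U_i` by scalars; `Sc.WN_comm`, `Sc.WN_sq`, `Sc.cap`, `Sc.WN_fact`, `Sc.WN_Z`.
-/

set_option autoImplicit false
set_option linter.unusedSectionVars false

namespace Cfsg.Agent.Omega.HOneQ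

open Subgroup Cfsg.Agent.Omega.BTwo
open Cfsg.Agent.Omega.Lie (TorD)
open scoped Pointwise

universe u v w

variable {G : Type u} [Group G] {ι : Type w}

/-- `W_N = ⟨V^P⟩` -/
def WN (V P : Subgroup G) : Subgroup G := ⨆ p : P, cj (p : G) V

variable {V : Subgroup G} {R : ι → Subgroup G} {i j : ι} {P : Subgroup G}

theorem line_le_WN {p : G} (hp : p ∈ P) : cj p V ≤ WN V P := le_iSup (fun p : P => cj (p : G) V) ⟨p, hp⟩

theorem V_le_WN (V P : Subgroup G) : V ≤ WN V P := by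
  have := line_le_WN (V := V) (one_mem P)
  rwa [cj_one] at this

theorem WN_le {K : Subgroup G} (h : ∀ p ∈ P, cj p V ≤ K) : WN V P ≤ K := iSup_le fun p => h p p.2

theorem P_norm_WN : P ≤ normalizer (WN V P : Set G) := by
  intro g hg
  rw [← cj_eq_self_iff]
  apply le_antisymm
  · rw [WN, cj_iSup]
    refine iSup_le fun p => ?_
    rw [← cj_mul]
    exact line_le_WN (mul_mem hg p.2)
  · rw [WN]
    refine iSup_le fun p => ?_
    have := cj_mono (g := g) (line_le_WN (V := V) (mul_mem (inv_mem hg) p.2))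
    rwa [cj_mul, cj_cj_inv] at this

/-- an element normalising `V` and `P` normalises `W_N` -/
theorem norm_WN {g : G} (hg : g ∈ normalizer (P : Set G)) (hV : g ∈ normalizer (V : Set G)) :
    g ∈ normalizer (WN V P : Set G) := by
  have key : ∀ g : G, g ∈ normalizer (P : Set G) → g ∈ normalizer (V : Set G) → cj g (WN V P) ≤ WN V P := by
    intro g hg hV
    rw [WN, cj_iSup]
    refine iSup_le fun p => ?_
    have e : cj g (cj (p : G) V) = cj (g * p * g⁻¹) V := by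
      have e1 : g * (p : G) = g * p * g⁻¹ * g := by group
      calc cj g (cj (p : G) V) = cj (g * p) V := (cj_mul _ _ _).symm
        _ = cj (g * p * g⁻¹) (cj g V) := by rw [← cj_mul, ← e1]
        _ = cj (g * p * g⁻¹) V := by rw [cj_eq_self_iff.2 hV]
    rw [e]
    exact line_le_WN (conj_mem_of_normalizer hg p.2)
  rw [← cj_eq_self_iff]
  apply le_antisymm (key g hg hV)
  have := cj_mono (g := g) (key g⁻¹ (inv_mem hg) (inv_mem hV))
  rwa [cj_cj_inv] at this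

theorem cj_le_of_comm {g : G} {K L : Subgroup G} (hK : K ≤ L) (h : ∀ x ∈ K, g * x * g⁻¹ * x⁻¹ ∈ L) : cj g K ≤ L := by
  rw [cj_le_iff]
  intro x hx
  have e : g * x * g⁻¹ = g * x * g⁻¹ * x⁻¹ * x := by group
  rw [e]
  exact mul_mem (h x hx) (hK hx)

namespace Nd

variable (n : Nd V R i j P)
include n

theorem WN_le_W : WN V P ≤ WW V (R i) := WN_le fun _ hp => n.line_le hp

/-- every line is contained in `V' [V', U_j] V` -/
theorem WN_le_of {p' : G} (hp' : p' ∈ P) (hne : cj p' V ≠ V) {K : Subgroup G} (hV : V ≤ K) (hV' : cj p' V ≤ K)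
    (h : ∀ u ∈ UU V R j, ∀ x ∈ cj p' V, u * x * u⁻¹ * x⁻¹ ∈ K) : WN V P ≤ K := by
  refine WN_le fun p hp => ?_
  by_cases hpV : cj p V = V
  · rw [hpV]; exact hV
  obtain ⟨u, hu, e⟩ := n.trans p' hp' hne p hp hpV
  rw [← e]
  exact cj_le_of_comm hV' (h u hu)

/-! ### type `α`: a line in `D` -/

/-- **(α)** `W_N = V V'` -/
theorem alpha_eq (b : BTS V R) {p' : G} (hp' : p' ∈ P) (hne : cj p' V ≠ V) (hD : cj p' V ≤ DD V R) :
    WN V P = V ⊔ cj p' V := by
  apply le_antisymm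
  · refine n.WN_le_of hp' hne le_sup_left le_sup_right fun u hu x hx => (le_sup_left : V ≤ _) ?_
    exact b.XD (YY_le_XX (UU_le_YY j hu)) (hD hx)
  · exact sup_le (V_le_WN V P) (line_le_WN hp')

theorem alpha_le (b : BTS V R) {p' : G} (hp' : p' ∈ P) (hne : cj p' V ≠ V) (hD : cj p' V ≤ DD V R) :
    WN V P ≤ DD V R := by
  rw [n.alpha_eq b hp' hne hD]
  exact sup_le (V_le_D V R) hD

/-- **(α)** `X` normalises `W_N` -/
theorem alpha_X (b : BTS V R) {p' : G} (hp' : p' ∈ P) (hne : cj p' V ≠ V) (hD : cj p' V ≤ DD V R) :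
    XX V R ≤ normalizer (WN V P : Set G) := by
  refine le_normalizer_of fun x hx y hy => ?_
  have h := V_le_WN V P (b.XD hx (n.alpha_le b hp' hne hD hy))
  have e : x * y * x⁻¹ = x * y * x⁻¹ * y⁻¹ * y := by group
  rw [e]
  exact mul_mem h hy

/-- **(α)** `W_N` is elementary abelian -/
theorem alpha_comm (b : BTS V R) {p' : G} (hp' : p' ∈ P) (hne : cj p' V ≠ V) (hD : cj p' V ≤ DD V R) {x y : G}
    (hx : x ∈ WN V P) (hy : y ∈ WN V P) : x * y = y * x :=
  b.D_comm (n.alpha_le b hp' hne hD hx) (n.alpha_le b hp' hne hD hy)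

theorem alpha_sq (b : BTS V R) {p' : G} (hp' : p' ∈ P) (hne : cj p' V ≠ V) (hD : cj p' V ≤ DD V R) {x : G}
    (hx : x ∈ WN V P) : x * x = 1 := b.D_sq (n.alpha_le b hp' hne hD hx)

/-- **(α)** `V ∩ V' = R i` -/
theorem alpha_inf (b : BTS V R) {p' : G} (hp' : p' ∈ P) (hne : cj p' V ≠ V) : V ⊓ cj p' V = R i := by
  apply le_antisymm
  · rintro x ⟨h1, h2⟩
    refine n.inf_eq b hp' (one_mem P) (by rwa [cj_one]) h2 ?_
    rw [cj_one]
    exact (le_sup_left : V ≤ _) h1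
  · exact le_inf (b.R_le i) (n.R_le_line b.toBT hp')

/-- **(α)** `W_N ∩ Z_i = R i` -/
theorem alpha_Z (b : BTS V R) {p' : G} (hp' : p' ∈ P) (hne : cj p' V ≠ V) (hD : cj p' V ≤ DD V R) :
    WN V P ⊓ ZZ V R i = R i := by
  apply le_antisymm
  · rintro x ⟨h1, h2⟩
    rw [n.alpha_eq b hp' hne hD] at h1
    have hn : ((V ⊔ cj p' V : Subgroup G) : Set G) = (V : Set G) * (cj p' V : Set G) := by
      refine coe_mul_of_left_le_normalizer_right _ _ (le_normalizer_of fun x hx y hy => ?_)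
      rw [b.D_comm (V_le_D V R hx) (hD hy), mul_inv_cancel_right]
      exact hy
    have h3 : x ∈ ((V ⊔ cj p' V : Subgroup G) : Set G) := h1
    rw [hn] at h3
    obtain ⟨y, hy, l, hl, rfl⟩ := h3
    have hl' : l ∈ R i := by
      refine n.inf_eq b hp' (one_mem P) (by rwa [cj_one]) hl ?_
      rw [cj_one]
      have e : l = y⁻¹ * (y * l) := by group
      rw [e]
      exact mul_mem ((le_sup_left : V ≤ _) (inv_mem hy)) ((le_sup_right : ZZ V R i ≤ _) h2)
    refine mul_mem ?_ hl'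
    have e : y = (y * l) * l⁻¹ := by group
    have h4 : y ∈ ZZ V R i := by
      rw [e]
      exact mul_mem h2 (inv_mem (BT.R_le_Z b.toBT i hl'))
    exact BT.cen_VW b.toBT hy h4.2
  · exact le_inf ((b.R_le i).trans (V_le_WN V P)) (BT.R_le_Z b.toBT i)

end Nd

/-! ### type `σ`, `β`: the torus is a scalar on a line `V' ≤ U_i` -/

variable {F : Type v} [Field F] {vv : F → F → G} {t : F → G}

/-- the torus normalises `P` and acts on the line `V^{p'} ≤ U_i` by scalars -/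
structure Sc (V : Subgroup G) (R : ι → Subgroup G) (i j : ι) (vv : F → F → G) (t : F → G) (P : Subgroup G)
    (p' : G) : Prop extends Nd V R i j P where
  tP : ∀ a, a ≠ 0 → t a ∈ normalizer (P : Set G)
  mem : p' ∈ P
  ne : cj p' V ≠ V
  leU : cj p' V ≤ UU V R i
  sc : ∀ a b c, a ≠ 0 → t a * (p' * vv b c * p'⁻¹) * (t a)⁻¹ = p' * vv (a * b) (a * c) * p'⁻¹

/-- `Ψ = W_N ∩ D ∩ C(X)` -/
def Psi (V : Subgroup G) (R : ι → Subgroup G) (P : Subgroup G) : Subgroup G := WN V P ⊓ (DD V R ⊓ CenX V R)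

namespace Sc

variable {p' : G} (s : Sc V R i j vv t P p') (b : BTS V R) (τ : TorD V R i j vv t)
include s

theorem line_le_U {p : G} (hp : p ∈ P) (b : BTS V R) : cj p V ≤ UU V R i := by
  by_cases hpV : cj p V = V
  · rw [hpV]
    exact (V_le_D V R).trans (b.D_le_U i)
  obtain ⟨u, hu, e⟩ := s.trans p' s.mem s.ne p hp hpV
  rw [← e]
  refine cj_le_of_comm s.leU fun x hx => ?_
  exact b.D_le_U i (by
    have h1 := b.UU_comm (Ne.symm s.hij) hu (s.leU hx)
    exact h1)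

include b in
theorem WN_le_U : WN V P ≤ UU V R i := WN_le fun _ hp => s.line_le_U hp b

include b in
/-- `W_N` is abelian -/
theorem WN_comm {x y : G} (hx : x ∈ WN V P) (hy : y ∈ WN V P) : x * y = y * x := by
  have key : WN V P ≤ centralizer (WN V P : Set G) := by
    refine WN_le fun p hp => ?_
    rw [le_centralizer_iff]
    refine WN_le fun q hq => ?_
    intro y hy
    rw [mem_centralizer_iff]
    intro x hx
    -- conjugate by `p⁻¹`
    have h1 : p⁻¹ * y * p ∈ cj (p⁻¹ * q) V := by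
      rw [mem_cj] at hy ⊢
      have e : (p⁻¹ * q)⁻¹ * (p⁻¹ * y * p) * (p⁻¹ * q) = q⁻¹ * y * q := by group
      rwa [e]
    have h2 := UU_le_cen i (s.line_le_U (mul_mem (inv_mem hp) hq) b h1)
    have h3 := mem_centralizer_iff.1 h2 _ (mem_cj.1 hx)
    calc x * y = p * (p⁻¹ * x * p * (p⁻¹ * y * p)) * p⁻¹ := by group
      _ = p * (p⁻¹ * y * p * (p⁻¹ * x * p)) * p⁻¹ := by rw [h3]
      _ = y * x := by group
  exact (mem_centralizer_iff.1 (key hx) y hy).symm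

include b in
theorem WN_sq {x : G} (hx : x ∈ WN V P) : x * x = 1 := by
  let T : Subgroup G :=
    { carrier := {x | x ∈ WN V P ∧ x * x = 1}
      one_mem' := ⟨one_mem _, by rw [one_mul]⟩
      mul_mem' := by
        rintro x y ⟨hx, hx'⟩ ⟨hy, hy'⟩
        refine ⟨mul_mem hx hy, ?_⟩
        have h1 := s.WN_comm b hy hx
        calc x * y * (x * y) = x * (y * x) * y := by group
          _ = (x * x) * (y * y) := by rw [h1]; group
          _ = 1 := by rw [hx', hy', one_mul]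
      inv_mem' := by
        rintro x ⟨hx, hx'⟩
        exact ⟨inv_mem hx, by rw [← mul_inv_rev, hx', inv_one]⟩ }
  have hT : WN V P ≤ T := WN_le fun p hp x hx => by
    refine ⟨line_le_WN hp hx, ?_⟩
    have h1 := b.V_sq _ (mem_cj.1 hx)
    calc x * x = p * (p⁻¹ * x * p * (p⁻¹ * x * p)) * p⁻¹ := by group
      _ = 1 := by rw [h1]; group
  exact (hT hx).2

include b τ in
theorem t_norm_V {a : F} (ha : a ≠ 0) : t a ∈ normalizer (V : Set G) := b.X_le_NV (τ.memX a ha)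

include b τ in
theorem t_norm_WN {a : F} (ha : a ≠ 0) : t a ∈ normalizer (WN V P : Set G) :=
  norm_WN (s.tP a ha) (s.t_norm_V b τ ha)

include τ in
omit s in
theorem v_zero : vv 0 0 = 1 := by
  have := τ.v_add 0 0 0 0
  rw [add_zero] at this
  exact left_eq_mul.1 this

include τ in
theorem line_R (x : F) : p' * vv x 0 * p'⁻¹ = vv x 0 := s.conj_R s.mem ((τ.Ri _).2 ⟨x, rfl⟩)

include τ in
theorem mem_line {x : G} : x ∈ cj p' V ↔ ∃ y z, p' * vv y z * p'⁻¹ = x := by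
  rw [mem_cj, τ.v_mem]
  constructor
  · rintro ⟨y, z, e⟩
    exact ⟨y, z, by rw [e]; group⟩
  · rintro ⟨y, z, e⟩
    exact ⟨y, z, by rw [← e]; group⟩

include τ in
theorem line_add (y z y' z' : F) : p' * vv (y + y') (z + z') * p'⁻¹ =
    (p' * vv y z * p'⁻¹) * (p' * vv y' z' * p'⁻¹) := by
  have _ := s
  rw [τ.v_add]; group

include τ in
/-- an element of the line is in `R i` iff its second coordinate is `0` -/
theorem line_mem_R {y z : F} : p' * vv y z * p'⁻¹ ∈ R i ↔ z = 0 := by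
  constructor
  · intro h
    have h1 := s.conj_R (inv_mem s.mem) h
    have e : p'⁻¹ * (p' * vv y z * p'⁻¹) * p'⁻¹⁻¹ = vv y z := by group
    rw [e] at h1
    rw [← h1] at h
    obtain ⟨x, hx⟩ := (τ.Ri _).1 h
    have h2 : vv (x - y) (0 - z) = 1 := by
      have h3 := τ.v_add (x - y) (0 - z) y z
      rw [sub_add_cancel, sub_add_cancel, hx] at h3
      exact right_eq_mul.1 h3
    have h3 := (τ.v_inj _ _ h2).2
    rwa [zero_sub, neg_eq_zero] at h3
  · rintro rfl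
    rw [s.line_R τ]
    exact (τ.Ri _).2 ⟨y, rfl⟩

/-- the subgroup `D Z_i` -/
def DZ (V : Subgroup G) (R : ι → Subgroup G) (i : ι) : Subgroup G where
  carrier := {x | ∃ d ∈ DD V R, ∃ z ∈ ZZ V R i, x = d * z}
  one_mem' := ⟨1, one_mem _, 1, one_mem _, by rw [one_mul]⟩
  mul_mem' := by
    rintro _ _ ⟨d, hd, z, hz, rfl⟩ ⟨d', hd', z', hz', rfl⟩
    refine ⟨d * d', mul_mem hd hd', z * z', mul_mem hz hz', ?_⟩
    have h1 := z_comm hz (D_le_W V R i hd')
    calc d * z * (d' * z') = d * (z * d') * z' := by group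
      _ = d * d' * (z * z') := by rw [h1]; group
  inv_mem' := by
    rintro _ ⟨d, hd, z, hz, rfl⟩
    refine ⟨d⁻¹, inv_mem hd, z⁻¹, inv_mem hz, ?_⟩
    rw [mul_inv_rev, z_comm (inv_mem hz) (D_le_W V R i (inv_mem hd))]

omit s in
theorem R_le_DZ (b : BTS V R) : R i ≤ DZ V R i := fun x hx =>
  ⟨1, one_mem _, x, BT.R_le_Z b.toBT i hx, by rw [one_mul]⟩

include b τ in
omit s in
theorem t_DZ {a : F} (ha : a ≠ 0) {x : G} (hx : x ∈ DZ V R i) : t a * x * (t a)⁻¹ ∈ DZ V R i := by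
  obtain ⟨d, hd, z, hz, rfl⟩ := hx
  refine ⟨_, conj_mem_of_normalizer (b.NV_le_ND (b.X_le_NV (τ.memX a ha))) hd, _,
    conj_mem_of_normalizer (N_le_NZ i (τ.normR ha)) hz, ?_⟩
  group

include b τ in
/-- `V' ∩ D Z_i = R i` -/
theorem cap (hF : ∃ a : F, a ≠ 0 ∧ a ≠ 1) {x : G} (hx : x ∈ cj p' V) (hDZ : x ∈ DZ V R i) : x ∈ R i := by
  obtain ⟨y, z, rfl⟩ := (s.mem_line τ).1 hx
  rw [s.line_mem_R τ]
  by_contra hz
  -- the whole line is in `D Z`
  have h1 : ∀ y' z', p' * vv y' z' * p'⁻¹ ∈ DZ V R i := by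
    intro y' z'
    by_cases hz' : z' = 0
    · subst hz'
      rw [s.line_R τ]
      exact R_le_DZ b ((τ.Ri _).2 ⟨_, rfl⟩)
    · have ha : z' * z⁻¹ ≠ 0 := mul_ne_zero hz' (inv_ne_zero hz)
      have h2 := t_DZ b τ ha hDZ
      rw [s.sc _ _ _ ha, inv_mul_cancel_right₀ hz] at h2
      have h3 := s.line_add τ (y' - z' * z⁻¹ * y) 0 (z' * z⁻¹ * y) z'
      rw [sub_add_cancel, zero_add] at h3
      rw [h3]
      refine mul_mem ?_ h2
      rw [s.line_R τ]
      exact R_le_DZ b ((τ.Ri _).2 ⟨_, rfl⟩)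
  obtain ⟨a, ha, ha1⟩ := hF
  have ha1' : a - 1 ≠ 0 := sub_ne_zero.2 ha1
  -- the line is in `V Z`
  apply s.ne
  have h4 : cj p' V ≤ cj 1 V ⊔ ZZ V R i := by
    intro x hx
    obtain ⟨y', z', rfl⟩ := (s.mem_line τ).1 hx
    obtain ⟨d, hd, z0, hz0, e⟩ := h1 ((a - 1)⁻¹ * y') ((a - 1)⁻¹ * z')
    have h5 := s.sc a ((a - 1)⁻¹ * y') ((a - 1)⁻¹ * z') ha
    have h6 := s.line_add τ y' z' ((a - 1)⁻¹ * y') ((a - 1)⁻¹ * z')
    have e1 : ∀ y' : F, y' + (a - 1)⁻¹ * y' = a * ((a - 1)⁻¹ * y') := by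
      intro y'
      have e2 : y' = (a - 1) * ((a - 1)⁻¹ * y') := by rw [mul_inv_cancel_left₀ ha1']
      nth_rw 1 [e2]
      ring
    rw [e1, e1, ← h5, e] at h6
    -- `h6 : t (d z0) t⁻¹ = x (d z0)`
    have h7 : p' * vv y' z' * p'⁻¹ = (t a * (d * z0) * (t a)⁻¹) * (d * z0)⁻¹ := by rw [h6]; group
    have h8 := b.XD (τ.memX a ha) hd
    have h9 : t a * z0 * (t a)⁻¹ * z0⁻¹ ∈ ZZ V R i :=
      mul_mem (conj_mem_of_normalizer (N_le_NZ i (τ.normR ha)) hz0) (inv_mem hz0)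
    have h10 := z_comm h9 (D_le_W V R i (inv_mem hd))
    have e3 : (t a * (d * z0) * (t a)⁻¹) * (d * z0)⁻¹ =
        (t a * d * (t a)⁻¹ * d⁻¹) * (t a * z0 * (t a)⁻¹ * z0⁻¹) := by
      calc (t a * (d * z0) * (t a)⁻¹) * (d * z0)⁻¹
          = t a * d * (t a)⁻¹ * ((t a * z0 * (t a)⁻¹ * z0⁻¹) * d⁻¹) := by group
        _ = _ := by rw [h10]; group
    rw [h7, e3, cj_one]
    exact mul_mem ((le_sup_left : V ≤ _) h8) ((le_sup_right : ZZ V R i ≤ _) h9)
  have h5 := s.inj b s.mem (one_mem P) h4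
  rwa [cj_one] at h5

include b in
/-- `W_N = V' (W_N ∩ D)` -/
theorem WN_fact {x : G} (hx : x ∈ WN V P) : ∃ l ∈ cj p' V, ∃ d ∈ DD V R, d ∈ WN V P ∧ x = l * d := by
  let T : Subgroup G :=
    { carrier := {x | ∃ l ∈ cj p' V, ∃ d ∈ DD V R, d ∈ WN V P ∧ x = l * d}
      one_mem' := ⟨1, one_mem _, 1, one_mem _, one_mem _, by rw [one_mul]⟩
      mul_mem' := by
        rintro _ _ ⟨l, hl, d, hd, hd', rfl⟩ ⟨l', hl', e, he, he', rfl⟩
        refine ⟨l * l', mul_mem hl hl', d * e, mul_mem hd he, mul_mem hd' he', ?_⟩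
        have h1 := s.WN_comm b hd' (line_le_WN s.mem hl')
        calc l * d * (l' * e) = l * (d * l') * e := by group
          _ = l * l' * (d * e) := by rw [h1]; group
      inv_mem' := by
        rintro _ ⟨l, hl, d, hd, hd', rfl⟩
        refine ⟨l⁻¹, inv_mem hl, d⁻¹, inv_mem hd, inv_mem hd', ?_⟩
        rw [mul_inv_rev, s.WN_comm b (inv_mem hd') (line_le_WN s.mem (inv_mem hl))] }
  have hT : WN V P ≤ T := by
    refine s.toNd.WN_le_of s.mem s.ne ?_ ?_ ?_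
    · exact fun x hx => ⟨1, one_mem _, x, V_le_D V R hx, V_le_WN V P hx, by rw [one_mul]⟩
    · exact fun x hx => ⟨x, hx, 1, one_mem _, one_mem _, by rw [mul_one]⟩
    · intro u hu x hx
      refine ⟨1, one_mem _, _, b.UU_comm (Ne.symm s.hij) hu (s.leU hx), ?_, (one_mul _).symm⟩
      exact mul_mem (conj_mem_of_normalizer (P_norm_WN (s.UP hu)) (line_le_WN s.mem hx))
        (inv_mem (line_le_WN s.mem hx))
  exact hT hx

include b τ in
/-- `W_N ∩ D Z_i ≤ D` -/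
theorem WN_DZ (hF : ∃ a : F, a ≠ 0 ∧ a ≠ 1) {x : G} (hx : x ∈ WN V P) (hz : x ∈ DZ V R i) : x ∈ DD V R := by
  obtain ⟨l, hl, d, hd, hd', rfl⟩ := s.WN_fact b hx
  have h1 : l ∈ R i := by
    refine s.cap b τ hF hl ?_
    have e : l = (l * d) * d⁻¹ := by group
    rw [e]
    exact mul_mem hz ⟨d⁻¹, inv_mem hd, 1, one_mem _, by rw [mul_one]⟩
  exact mul_mem (V_le_D V R (b.R_le i h1)) hd

include b τ in
/-- `W_N ∩ Z_i = R i × Ψ` -/
theorem WN_Z (hF : ∃ a : F, a ≠ 0 ∧ a ≠ 1) {x : G} (hx : x ∈ WN V P) (hz : x ∈ ZZ V R i) :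
    ∃ a ∈ R i, a * x ∈ Psi V R P := by
  have h1 := s.WN_DZ b τ hF hx ⟨1, one_mem _, x, hz, by rw [one_mul]⟩
  obtain ⟨a, ha, h2⟩ := b.Z_inf_D hz h1
  exact ⟨a, ha, mem_inf.2 ⟨mul_mem (V_le_WN V P (b.R_le i ha)) hx, h2⟩⟩

end Sc

end Cfsg.Agent.Omega.HOneQ
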