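import Cfsg.Agent.Omega.HOneQ.ECenC
import Cfsg.Agent.Omega.HOne.SameOf

/-!
# II.0h1, SPLIT, all `q ≥ 4`: `D ∩ C(X) ≠ 1` (OMEGA #17641 (1)); helper499

`comm_R` : `D ∩ C(X) = 1` implies `[Z(W i), U j] ≤ R i`; `comm_EE` : then `⟨A^H⟩` centralises `Z(W i) / R i`;
`dcx_ne` : with `C_{Z(W i)/R i}(E) = 1` this contradicts `Z(W i) ≠ R i`; `dH : DH K`.
-/

set_option autoImplicit false
set_option linter.unusedSectionVars false

namespace Cfsg.Agent.Omega.HOneQ.DHof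

open Subgroup Cfsg Cfsg.Agent.Omega.BTwo Cfsg.Agent.Omega.Lie Cfsg.Agent.Omega.Lie.Quot
open Cfsg.Agent.Omega.Lie.Layer (OddC InnC InnA Cps)
open Cfsg.Agent.Omega.HOneQ.ECen

universe u v w

section bt

variable {G : Type u} [Group G] {ι : Type w} {V : Subgroup G} {R : ι → Subgroup G} {i j : ι}

/-- `D ∩ C(X) = 1` implies `[Z(W i), U j] ≤ R i` -/
theorem comm_R (b : BTS V R) (hij : i ≠ j) (hD : DD V R ⊓ CenX V R = ⊥) {z u : G} (hz : z ∈ BTwo.ZZ V R i)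
    (hu : u ∈ UU V R j) : u * z * u⁻¹ * z⁻¹ ∈ R i := by
  obtain ⟨h1, h2⟩ := b.cen_W_U hij (mem_inf.1 hz).2 hu
  obtain ⟨a, ha, h3⟩ := b.cen_DW h1 h2
  rw [hD, mem_bot] at h3
  have h4 : z * u * z⁻¹ * u⁻¹ = a⁻¹ := eq_inv_of_mul_eq_one_right h3
  have e : u * z * u⁻¹ * z⁻¹ = (z * u * z⁻¹ * u⁻¹)⁻¹ := by group
  rw [e, h4, inv_inv]
  exact ha

/-- the elements of `N(R i)` which centralise `Z(W i) / R i` -/
def CZ (V : Subgroup G) (R : ι → Subgroup G) (i : ι) : Subgroup G where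
  carrier := {x | x ∈ normalizer (R i : Set G) ∧ ∀ z ∈ BTwo.ZZ V R i, x * z * x⁻¹ * z⁻¹ ∈ R i}
  one_mem' := ⟨one_mem _, fun z _ => by
    rw [show (1 : G) * z * 1⁻¹ * z⁻¹ = 1 by group]; exact one_mem _⟩
  mul_mem' := by
    rintro x y ⟨hx, hx'⟩ ⟨hy, hy'⟩
    refine ⟨mul_mem hx hy, fun z hz => ?_⟩
    have e : x * y * z * (x * y)⁻¹ * z⁻¹ = (x * (y * z * y⁻¹ * z⁻¹) * x⁻¹) * (x * z * x⁻¹ * z⁻¹) := by group
    rw [e]
    exact mul_mem (conj_mem_of_normalizer hx (hy' z hz)) (hx' z hz)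
  inv_mem' := by
    rintro x ⟨hx, hx'⟩
    refine ⟨inv_mem hx, fun z hz => ?_⟩
    have h1 := conj_mem_of_normalizer (inv_mem hx) (inv_mem (hx' z hz))
    have e : x⁻¹ * (x * z * x⁻¹ * z⁻¹)⁻¹ * x⁻¹⁻¹ = x⁻¹ * z * x⁻¹⁻¹ * z⁻¹ := by group
    rwa [e] at h1

theorem mem_CZ {x : G} : x ∈ CZ V R i ↔ x ∈ normalizer (R i : Set G) ∧
    ∀ z ∈ BTwo.ZZ V R i, x * z * x⁻¹ * z⁻¹ ∈ R i := Iff.rfl

theorem Q_le_CZ (b : BT V R) : QQ (R i) ≤ CZ V R i := by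
  intro g hg
  exact ⟨b.Q_le i hg, fun z hz => b.WQ i hg (mem_inf.1 hz).1⟩

theorem im_CZ_normal : (im (R i) (CZ V R i)).Normal := by
  refine Layer.im_normal fun g hg x hx => ?_
  obtain ⟨hx, hx'⟩ := hx
  refine ⟨mul_mem (mul_mem hg hx) (inv_mem hg), fun z hz => ?_⟩
  have hz' := conj_mem_of_normalizer (LemNS.N_le_NZ i (inv_mem hg)) hz
  rw [inv_inv] at hz'
  have h1 := conj_mem_of_normalizer hg (hx' _ hz')
  have e : g * (x * (g⁻¹ * z * g) * x⁻¹ * (g⁻¹ * z * g)⁻¹) * g⁻¹ = g * x * g⁻¹ * z * (g * x * g⁻¹)⁻¹ * z⁻¹ := by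
    group
  rwa [e] at h1

/-- `⟨A^H⟩` centralises `Z(W i) / R i` -/
theorem comm_EE (b : BTS V R) (hij : i ≠ j) (hD : DD V R ⊓ CenX V R = ⊥) {g : G}
    (hg : g ∈ lift (R i) (EE V R i j)) {z : G} (hz : z ∈ BTwo.ZZ V R i) : g * z * g⁻¹ * z⁻¹ ∈ R i := by
  have hn : (im (R i) (CZ V R i)).Normal := im_CZ_normal
  have h1 : EE V R i j ≤ im (R i) (CZ V R i) := by
    refine normalClosure_le_normal fun a ha => ?_
    obtain ⟨u, hu, rfl⟩ := (mem_AA b.toBT).1 ha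
    exact (pr_mem_im_iff (Q_le_CZ b.toBT) _).2 ⟨U_le_N b.toBT i j hu, fun z hz => comm_R b hij hD hz hu⟩
  obtain ⟨hgN, hgE⟩ := mem_lift.1 hg
  exact ((pr_mem_im_iff (Q_le_CZ b.toBT) hgN).1 (h1 hgE)).2 z hz

end bt

section all

variable {G : Type u} [Group G] {ι : Type w} {V : Subgroup G} {R : ι → Subgroup G} {i j : ι}
  {F : Type v} [Field F] {vv : F → F → G} {w1 w2 t : F → G}
  [Finite G] [Finite F] [CharP F 2] (b : BTS V R) (hF : ∃ a : F, a ≠ 0 ∧ a ≠ 1)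
  (c : Coord V R i j vv w1 w2) (τ : TorD V R i j vv t)
  (hodd : Odd ((normalizer (V : Set G)).relIndex (normalizer (R i : Set G))))
  {S : Subgroup (HQ (R i))} (I : SylI τ S) (hinn : InnC V R i j) (hoddC : OddC V R i j)

include b hF c τ hodd I hinn hoddC

/-- **`D ∩ C(X) ≠ 1`** -/
theorem dcx_ne (hC : CenX V R ≠ ⊥) : DD V R ⊓ CenX V R ≠ ⊥ := by
  intro hD
  have hUD := not_UD b hF c hodd hC
  obtain ⟨z, hz, hzQ⟩ := exists_ZZ_of_coord b c hF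
    (S := normalizer (V : Set G) ⊓ normalizer (R i : Set G)) inf_le_right inf_le_left
    (by rw [inf_relIndex_right]; exact hodd) c.ne hC
  have h1 := cen_EE b hF c τ hodd hUD I hinn hoddC hz fun g hg => comm_EE b c.ne hD hg hz
  exact hzQ (b.W_le_Q j (V_le_WW V (R j) (b.R_le i h1)))

end all

section sockets

open Cfsg.Agent.ZN Cfsg.Agent.Omega.MinPar Cfsg.Agent.Omega.Frame
open Cfsg.Agent.Omega.NatPair (NatMod)
open Cfsg.Agent.Omega.IIa4 (LayAll)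
open Cfsg.Agent.Omega.HOne.SameOf (Sit4 DH)

/-- `D ∩ C(X) ≠ 1` in the situation of `Same4` -/
theorem dcx_sit {G : Type u} [Group G] [Finite G] {S : Sylow 2 G} {P : Subgroup G} {g : G} {F : Type} [Field F]
    [Finite F] [CharP F 2] {N : Subgroup G} {M : NatMod F N} (h : Sit4 S P g M) (hl : LayAll N (pt M) F) :
    DD N (pt M) ⊓ CenX N (pt M) ≠ ⊥ := by
  obtain ⟨i, j, hij⟩ := h.exists_pair
  obtain ⟨v, w1, w2, c⟩ := h.exists_coord hij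
  obtain ⟨t, τ⟩ := h.exists_torD c
  obtain ⟨S₁, hV, hR⟩ := h.exists_sylow i
  have l := hl i j c.ne v w1 w2 t c τ S₁ hV hR
  exact dcx_ne h.bts h.exists_ne c τ (h.odd i)
    (ECen.sylI_of_sylow h.bt τ (Crd.of_coord c) c.ne S₁ hV hR) l.innC l.odd h.CenX_ne

/-- **The socket `DH K`.** -/
theorem dH {K : Cls.{u}} : DH K := by
  intro G _ _ _ S P g F _ _ _ N M h hl
  exact dcx_sit h hl

end sockets

end Cfsg.Agent.Omega.HOneQ.DHof
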