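import Cfsg.Agent.Omega.HOneQ.GamH
import Cfsg.Agent.Omega.HOne.CutT

/-!
# `GaT` (helper493's `not_gamT` at the `SitT` socket)
-/

namespace Cfsg.Agent.Omega.HOneQ.GaT

open Cfsg.Agent.Omega.HOne

universe u

theorem gaT : TLift.GaT.{u} := by
  intro G _ _ T F _ _ _ N M h _ _ hNV i j v w1 w2 t c τ _ n C J Q m _ _ D hone x
  exact HOneQ.GamH.not_gamT h.bts c τ h.four h.exists_ne (h.odd i) (h.exists_ZZ' c.ne) D hone
    (hNV i j c.ne) x

end Cfsg.Agent.Omega.HOneQ.GaT
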