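import Cfsg.Agent.Omega.Lie.End.Zero
import Cfsg.Agent.ParSys.QuadSig

/-!
# The count of a quadrangle, from transitivity

* `Quad.cnt_of_trans`: if `O` is transitive on the points opposite to `R`, then it has enough conjugates of each;
* `cnt_of_D`: the group `W i` is transitive on the points opposite to `R i`, if `U j` is transitive on the lines `≠ V`
  on `R i` and `D` is transitive on the points `≠ R i` of the line `V ^ m`.
-/

set_option autoImplicit false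

namespace Cfsg.Agent.Omega.HOneQ

open Subgroup Cfsg.Agent.Omega.BTwo Cfsg.Agent.Omega.Lie Cfsg.Agent.ParSys
open scoped Pointwise

universe u w

section abs

variable {G : Type u} [Group G] {B Pa Pb R V W O : Subgroup G} {g : G}

theorem Quad.cnt_of_trans [Finite G] (h : Quad B Pa Pb R V W)
    (tr : ∀ x1 ∈ Pa, x1 ∉ B → ∀ x2 ∈ Pb, x2 ∉ B → ∀ x3 ∈ Pa, x3 ∉ B →
      ∃ o ∈ O, (o * g)⁻¹ * (x1 * x2 * x3) ∈ Pb) :
    (PanS B Pa).ncard * ((PanS B Pb).ncard * (PanS B Pa).ncard) ≤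
      (MulAut.conj g • Pb : Subgroup G).relIndex O := by
  classical
  let P : Bool → Subgroup G := fun i => if i then Pa else Pb
  have e1 : (PanS B Pa).ncard ≤ (Ends B P [true]).ncard := by
    have := ncard_Ends_cons_ge (B := B) (P := P) true [] (fun x _ _ x' _ _ l l' hl hl' h0 => by
      cases l with
      | nil =>
        cases l' with
        | nil => simpa using h0
        | cons y l' => exact hl'.elim
      | cons y l => exact hl.elim)
    rwa [ncard_Ends_nil, mul_one] at this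
  have e2 : (PanS B Pb).ncard * (Ends B P [true]).ncard ≤ (Ends B P [false, true]).ncard := by
    refine ncard_Ends_cons_ge (B := B) (P := P) false [true] fun x hx _ x' hx' _ l l' hl hl' h0 => ?_
    match l, hl, l', hl' with
    | [y], hl, [y'], hl' =>
      have hy : y ∈ Pa := hl.1.1
      have hy' : y' ∈ Pa := hl'.1.1
      refine h.inf (mem_inf.2 ⟨?_, mul_mem (inv_mem hx) hx'⟩)
      have := mul_mem (mul_mem hy (h.leA h0)) (inv_mem hy')
      have e : y * ((x * [y].prod)⁻¹ * (x' * [y'].prod)) * y'⁻¹ = x⁻¹ * x' := by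
        simp only [List.prod_cons, List.prod_nil]; group
      rwa [e] at this
    | [], hl, _, _ => exact hl.elim
    | _ :: _ :: _, hl, _, _ => exact hl.2.elim
    | [_], _, [], hl' => exact hl'.elim
    | [_], _, _ :: _ :: _, hl' => exact hl'.2.elim
  have e3 : (PanS B Pa).ncard * (Ends B P [false, true]).ncard ≤ (Ends B P [true, false, true]).ncard := by
    refine ncard_Ends_cons_ge (B := B) (P := P) true [false, true] fun x hx _ x' hx' _ l l' hl hl' h0 => ?_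
    match l, hl, l', hl' with
    | [y, z], hl, [y', z'], hl' =>
      have h0' : (x * y * z)⁻¹ * (x' * y' * z') ∈ B := by simpa [mul_assoc] using h0
      exact (h.three hx hl.1.1 hl.1.2 hl.2.1.1 hl.2.1.2 hx' hl'.1.1 hl'.2.1.1 (h.leB h0')).1
    | [], hl, _, _ => exact hl.elim
    | [_], hl, _, _ => exact hl.2.elim
    | _ :: _ :: _ :: _, hl, _, _ => exact hl.2.2.elim
    | [_, _], _, [], hl' => exact hl'.elim
    | [_, _], _, [_], hl' => exact hl'.2.elim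
    | [_, _], _, _ :: _ :: _ :: _, hl' => exact hl'.2.2.elim
  have e4 : (PanS B Pa).ncard * ((PanS B Pb).ncard * (PanS B Pa).ncard) ≤ (Ends B P [true, false, true]).ncard :=
    (Nat.mul_le_mul_left _ ((Nat.mul_le_mul_left _ e1).trans e2)).trans e3
  refine e4.trans ?_
  have key : ∀ q : Ends B P [true, false, true], ∃ x1 x2 x3, (x1 ∈ Pa ∧ x1 ∉ B) ∧ (x2 ∈ Pb ∧ x2 ∉ B) ∧
      (x3 ∈ Pa ∧ x3 ∉ B) ∧ ((x1 * x2 * x3 : G) : G ⧸ B) = q ∧
      ∃ o ∈ O, (o * g)⁻¹ * (x1 * x2 * x3) ∈ Pb := by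
    rintro ⟨q, l, hl, rfl⟩
    match l, hl with
    | [x1, x2, x3], hl =>
      obtain ⟨k1, k2, k3, -⟩ := hl
      obtain ⟨o, ho, h5⟩ := tr x1 k1.1 k1.2 x2 k2.1 k2.2 x3 k3.1 k3.2
      exact ⟨x1, x2, x3, k1, k2, k3, by simp [mul_assoc], o, ho, h5⟩
    | [], hl => exact hl.elim
    | [_], hl => exact hl.2.elim
    | [_, _], hl => exact hl.2.2.elim
    | _ :: _ :: _ :: _ :: _, hl => exact hl.2.2.2.elim
  choose x1 x2 x3 k1 k2 k3 hq o ho h5 using key
  rw [← Nat.card_coe_set_eq, relIndex, index_eq_card]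
  refine Nat.card_le_card_of_injective
    (fun s => (QuotientGroup.mk ⟨o s, ho s⟩ : O ⧸ (MulAut.conj g • Pb : Subgroup G).subgroupOf O)) ?_
  intro s s' e
  have h1 := mem_subgroupOf.1 (QuotientGroup.eq.1 e)
  have h2 : g⁻¹ * ((o s)⁻¹ * o s') * g ∈ Pb := by
    rw [mem_pointwise_smul_iff_inv_smul_mem, MulAut.smul_def, MulAut.conj_inv_apply] at h1
    exact h1
  have h3 := mul_mem (mul_mem (inv_mem (h5 s)) h2) (h5 s')
  have e5 : ((o s * g)⁻¹ * (x1 s * x2 s * x3 s))⁻¹ * (g⁻¹ * ((o s)⁻¹ * o s') * g) *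
      ((o s' * g)⁻¹ * (x1 s' * x2 s' * x3 s')) = (x1 s * x2 s * x3 s)⁻¹ * (x1 s' * x2 s' * x3 s') := by group
  rw [e5] at h3
  have h4 := (h.three (k1 s).1 (k2 s).1 (k2 s).2 (k3 s).1 (k3 s).2 (k1 s').1 (k2 s').1 (k3 s').1 h3).2.2
  apply Subtype.ext
  rw [← hq s, ← hq s']
  exact QuotientGroup.eq.2 h4

end abs

variable {G : Type u} [Group G] {ι : Type w} {V : Subgroup G} {R : ι → Subgroup G} {i j : ι} {B U Px W : Subgroup G}

/-- **the count** -/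
theorem cnt_of_D [Finite G] (b : BT V R) (hij : i ≠ j) (D : Zero.Dat V R i B U) (hB : B ≤ Px)
    (hR : Px ≤ normalizer (R i : Set G)) (q : Quad B (Zero.P0 V R B) Px (R i) V W) {n0 m : G} (hn : n0 ∈ XX V R)
    (hn0 : cj n0 (R i) = R j) (hm : m ∈ Px)
    (tb : ∀ x ∈ Px, x ∉ B → ∃ u ∈ UU V R j, (u * m)⁻¹ * x ∈ B)
    (trD : ∀ l, l ≠ i → ∃ d ∈ DD V R, cj d (cj m (R j)) = cj m (R l)) :
    (PanS B (Zero.P0 V R B)).ncard * ((PanS B Px).ncard * (PanS B (Zero.P0 V R B)).ncard) ≤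
      (MulAut.conj (n0 * m * n0) • Px : Subgroup G).relIndex (WW V (R i)) := by
  refine Quad.cnt_of_trans q fun x1 h1 h1B x2 h2 h2B x3 h3 h3B => ?_
  have hn0N := b.X_le_NV hn
  have hn0P : n0 ∈ Zero.P0 V R B := (le_sup_left : XX V R ≤ _) hn
  have hWP : WW V (R i) ≤ Zero.P0 V R B := (W_le_X V R i).trans le_sup_left
  have hWB : WW V (R i) ≤ B := D.WU.trans D.UB
  have hBP : B ≤ Zero.P0 V R B := le_sup_right
  have hnb : ∀ {y b}, b ∈ B → y ∉ B → b * y ∉ B := fun hb hy h0 => hy ((mul_mem_cancel_left hb).1 h0)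
  -- `x1 = w n0 b1`
  obtain ⟨l, hl, el⟩ := (Zero.not_mem_B_iff b D h1).1 h1B
  obtain ⟨w, hw, ew⟩ := b.trans i hij.symm hl
  have hb1 : (w * n0)⁻¹ * x1 ∈ B := by
    refine Zero.mem_B b D (mul_mem (inv_mem (mul_mem (hWP hw) hn0P)) h1) ?_
    rw [← cj_eq_self_iff, cj_mul, el, ← ew, ← hn0, ← cj_mul w n0, cj_inv_cj]
  set b1 := (w * n0)⁻¹ * x1 with hb1e
  -- `b1 x2 = u m b2`
  obtain ⟨u, hu, hb2⟩ := tb (b1 * x2) (mul_mem (hB hb1) h2) (hnb hb1 h2B)
  set b2 := (u * m)⁻¹ * (b1 * x2) with hb2e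
  -- `u = u' u''`
  obtain ⟨k, hk⟩ := b.perm_inv hn0N i
  have hki : k ≠ i := by
    rintro rfl
    rw [hn0] at hk
    exact hij (b.R_index hk).symm
  obtain ⟨u', hu', u'', hu'', e1⟩ : ∃ u' ∈ UU V R k, ∃ u'' ∈ UU V R i, u = u' * u'' := by
    have h4 : u ∈ UU V R k ⊔ UU V R i := by
      rw [← b.Y_eq hki]
      exact UU_le_YY j hu
    have h5 : u ∈ ((UU V R k ⊔ UU V R i : Subgroup G) : Set G) := h4
    rw [coe_mul_of_left_le_normalizer_right _ _ ((UU_le_cen k).trans (b.cen_le_NU i))] at h5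
    obtain ⟨u', hu', u'', hu'', e⟩ := h5
    exact ⟨u', hu', u'', hu'', e.symm⟩
  have hu3 : m⁻¹ * u'' * m ∈ B :=
    hWB (BTwo.conj_inv_mem_of_normalizer (normalizer_le_WW V (R i) (hR hm)) (UU_le_WW i hu''))
  have hu4 : n0 * u' * n0⁻¹ ∈ WW V (R i) := by
    have h4 := conj_mem_cj (g := n0) hu'
    rw [b.cj_UU hn0N hk] at h4
    exact UU_le_WW i h4
  set b3 := m⁻¹ * u'' * m * b2 with hb3e
  have hb3 : b3 ∈ B := mul_mem hu3 hb2
  -- `b3 x3 = (m⁻¹ d m) n0 b4`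
  have h3' : b3 * x3 ∈ Zero.P0 V R B := mul_mem (hBP hb3) h3
  obtain ⟨l3, hl3, el3⟩ := (Zero.not_mem_B_iff b D h3').1 (hnb hb3 h3B)
  obtain ⟨d, hd, ed⟩ := trD l3 hl3
  have hdW : m⁻¹ * d * m ∈ WW V (R i) :=
    BTwo.conj_inv_mem_of_normalizer (normalizer_le_WW V (R i) (hR hm)) (D_le_W V R i hd)
  have hb4 : (m⁻¹ * d * m * n0)⁻¹ * (b3 * x3) ∈ B := by
    refine Zero.mem_B b D (mul_mem (inv_mem (mul_mem (hWP hdW) hn0P)) h3') ?_
    have h5 : cj (m⁻¹ * d * m * n0) (R i) = R l3 := by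
      rw [cj_mul, hn0, cj_mul, cj_mul, ed, cj_inv_cj]
    rw [← cj_eq_self_iff, cj_mul, el3, ← h5, cj_inv_cj]
  refine ⟨w * (n0 * u' * n0⁻¹) * (n0 * d * n0⁻¹), mul_mem (mul_mem hw hu4)
    (D_le_W V R i (BTwo.conj_mem_of_normalizer (b.NV_le_ND hn0N) hd)), ?_⟩
  have e2 : (w * (n0 * u' * n0⁻¹) * (n0 * d * n0⁻¹) * (n0 * m * n0))⁻¹ * (x1 * x2 * x3) =
      (m⁻¹ * d * m * n0)⁻¹ * (b3 * x3) := by
    have e3 : x1 = w * n0 * b1 := by rw [hb1e]; group
    have e4 : b1 * x2 = u' * u'' * m * b2 := by rw [hb2e, ← e1]; group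
    calc (w * (n0 * u' * n0⁻¹) * (n0 * d * n0⁻¹) * (n0 * m * n0))⁻¹ * (x1 * x2 * x3)
        = (n0⁻¹ * m⁻¹ * d⁻¹ * u'⁻¹ * n0⁻¹ * w⁻¹) * (w * n0 * (b1 * x2) * x3) := by rw [e3]; group
      _ = _ := by rw [e4, hb3e]; group
  rw [e2]
  exact hB hb4

end Cfsg.Agent.Omega.HOneQ
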