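import Cfsg.Agent.Omega.HOneQ.AptSc
import Cfsg.Agent.Omega.HOneQ.AptCntB

/-!
# Residues `(0, x)`, types `(sigma)` and `(beta)`, over a bare `BT V R`: `Res0`

`QuadH.res0` : `QuadH` and `AptH` give the polygon of the residue; `frat` and `sep` are given.
-/

set_option autoImplicit false
set_option linter.unusedSectionVars false

namespace Cfsg.Agent.Omega.HOneQ

open Subgroup Cfsg.Agent.Omega.BTwo Cfsg.Agent.ParSys

universe u w

variable {G : Type u} [Group G] {ι : Type w} {V : Subgroup G} {R : ι → Subgroup G} {i j : ι}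
  {B U Px V' Q O S T : Subgroup G} {z ρ m0 : G}

namespace QuadH

/-- **The polygon of the residue** -/
theorem poly [Finite G] (b : BT V R) (h : QuadH V R i j B U Px V') (A : AptH V R i j Q O S T V' z ρ m0)
    (hQ : Q ≤ Px) {J : Type} {P : J → Subgroup G} {x : J} (hx : P x = Px) :
    Polygon B (Lie.End.PPo V R B P) none (some x) 4 := by
  obtain ⟨n0, m, hn, hn0, hm, hmV, -, heq, trD⟩ := A.exists_swap b
  have hmP := hQ hm
  refine h.polygon b hn hn0 hmP hmV heq ?_ hx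
  exact cnt_of_D b h.ne h.dat h.X.le h.X.PR (h.quad b) hn hn0 hmP (fun _ hy hyB => h.tb b hmP hmV hy hyB) trD

/-- **The residue `(0, x)`, types `(sigma)` and `(beta)`** -/
theorem res0 [Finite G] (b : BT V R) (h : QuadH V R i j B U Px V') (A : AptH V R i j Q O S T V' z ρ m0)
    (hQ : Q ≤ Px) {J : Type} {P : J → Subgroup G} {x : J} (hx : P x = Px)
    (frat : ∀ X ≤ U, (∀ u ∈ U, ∃ y ∈ X, y⁻¹ * u ∈ Qk B (P x) ∧ y⁻¹ * u ∈ Qk B (Lie.Zero.P0 V R B)) →
      ∀ u ∈ U, ∃ y ∈ X, y⁻¹ * u ∈ Qk B (P x ⊔ Lie.Zero.P0 V R B))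
    (sep : SepG 2 B U (P x) (Lie.Zero.P0 V R B) ∨ SepG 2 B U (Lie.Zero.P0 V R B) (P x)) :
    Lie.End.Res0 V R B U P x 4 := ⟨h.poly b A hQ hx, frat, sep⟩

end QuadH

end Cfsg.Agent.Omega.HOneQ
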