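import Cfsg.Agent.Omega.HOneQ.ResFratA
import Cfsg.Agent.Omega.HOneQ.AptRes
import Cfsg.Agent.Omega.Lie.Nodes.FratRes

/-!
# II.0h1, split, `q ≥ 4`, residues `(0, x)`, types `(sigma)` and `(beta)`: the field `frat`

* `QuadH.frat` : the field from `U_i ≤ [U, U] (U ∩ K)`, `K` the kernel of the residue (bare `BT V R`);
* `Sc.U_le_frat` : `U_i ≤ [U, U] (U ∩ K)` (node data `Sc`, `SigL`, `Lin`, `linJ`);
* `Sc.frat` : **the field `frat`** of `Res0`;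

-/

set_option autoImplicit false
set_option linter.unusedSectionVars false

namespace Cfsg.Agent.Omega.HOneQ

open Subgroup Cfsg.Agent.Omega.BTwo Cfsg.Agent.ParSys
open Cfsg.Agent.Omega.Lie (TorD)
open Cfsg.Agent.Omega.Lie.Nodes (NodeX QPx)
open scoped commutatorElement

universe u v w

variable {G : Type u} [Group G] {ι : Type w} {V : Subgroup G} {R : ι → Subgroup G} {i j : ι}
  {B U Px V' Q O S T : Subgroup G} {z ρ m0 : G}

/-- **The field `frat`** from `U_i ≤ [U, U] (U ∩ K)` -/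
theorem QuadH.frat [Finite G] (b : BT V R) (h : QuadH V R i j B U Px V') (A : AptH V R i j Q O S T V' z ρ m0)
    (hQ : Q ≤ Px) (hO : UU V R i ≤ ⁅U, U⁆ ⊔ (U ⊓ Qk B (Px ⊔ Lie.Zero.P0 V R B))) :
    ∀ X ≤ U, (∀ u ∈ U, ∃ y ∈ X, y⁻¹ * u ∈ Qk B Px ∧ y⁻¹ * u ∈ Qk B (Lie.Zero.P0 V R B)) →
      ∀ u ∈ U, ∃ y ∈ X, y⁻¹ * u ∈ Qk B (Px ⊔ Lie.Zero.P0 V R B) := by
  let P : Unit → Subgroup G := fun _ => Px
  have poly : Polygon B (Lie.End.PPo V R B P) none (some ()) 4 := h.poly b A hQ rfl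
  obtain ⟨n0, m, hn, hn0, hm, hmV, -, -, trD⟩ := A.exists_swap b
  have hmP : m ∈ Px := hQ hm
  have hn0P : n0 ∈ Lie.Zero.P0 V R B := (le_sup_left : XX V R ≤ _) hn
  have hn0B : n0 ∉ B := (Lie.Zero.not_mem_B_iff b h.dat hn0P).2 ⟨j, h.ne.symm, hn0⟩
  have hmB : m ∉ B := fun hB => h.V'_ne b (by rw [← hmV, cj_eq_self_iff.2 (h.dat.BV hB)])
  have hn0B' : n0⁻¹ ∉ B := fun h1 => hn0B (inv_mem_iff.1 h1)
  have hji : cj n0⁻¹ (R j) = R i := by rw [← hn0, cj_inv_cj]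
  have hUiU : UU V R i ≤ U := (UU_le_YY i).trans h.X.YU
  have hfr := frat_of_cover (p := 2) (P := Lie.End.PPo V R B P) (a := none) (b := some ()) (U := U)
    (O := UU V R i) (B := B) (le_sup_right : B ≤ Lie.Zero.P0 V R B) h.dat.UB h.X.isP hUiU ?_
    (by
      change UU V R i ≤ ⁅U, U⁆ ⊔ (U ⊓ Qk B (Lie.Zero.P0 V R B ⊔ Px))
      rw [sup_comm (Lie.Zero.P0 V R B)]
      exact hO)
  · intro X hX h1 u hu
    obtain ⟨y, hy, h2⟩ := hfr X hX (fun u hu => by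
      obtain ⟨y, hy, h2, h3⟩ := h1 u hu
      exact ⟨y, hy, h3, h2⟩) u hu
    refine ⟨y, hy, ?_⟩
    have h3 : y⁻¹ * u ∈ Qk B (Lie.Zero.P0 V R B ⊔ Px) := h2
    rwa [sup_comm] at h3
  · refine poly.cover_four (U2 := UU V R j) (n := n0⁻¹) (y := m) (z := n0) (le_sup_right : B ≤ Lie.Zero.P0 V R B)
      h.X.le h.dat.UB (mem_U_of_conj (p := 2) h.X.norm h.X.isP h.X.index) (Lie.Zero.reg b h.dat) h.X.reg
      (inv_mem hn0P) hn0B' hmP hmB hn0P hn0B hUiU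
      ((UU_le_WW i).trans (Lie.Nodes.W_le_Qx (P := P) (x := ()) h.dat h.X)) ?_
      (fun y hy hyB => h.tb b hmP hmV hy hyB) ?_
    · intro u hu
      rw [← b.cj_UU (b.X_le_NV (inv_mem hn)) hji]
      exact conj_mem_cj hu
    · intro z' hz' hz'B
      have hz'' : z' ∈ Lie.Zero.P0 V R B := hz'
      obtain ⟨k', hk', ek'⟩ := (Lie.Zero.not_mem_B_iff b h.dat hz'').1 hz'B
      obtain ⟨d, hd, ed⟩ := trD k' hk'
      refine ⟨d, b.D_le_U j hd, ?_⟩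
      have e1 : (d * m * n0)⁻¹ * (m * z') = n0⁻¹ * (m⁻¹ * d * m)⁻¹ * z' := by group
      rw [e1]
      have hw : m⁻¹ * d * m ∈ WW V (R i) :=
        BTwo.conj_inv_mem_of_normalizer (normalizer_le_WW V (R i) (h.X.PR hmP)) (D_le_W V R i hd)
      refine Lie.Zero.mem_B b h.dat (mul_mem (mul_mem (inv_mem hn0P)
        (inv_mem ((le_sup_left : XX V R ≤ _) (W_le_X V R i hw)))) hz'') ?_
      have h5 : cj (m⁻¹ * d * m) (R j) = R k' := by
        rw [cj_mul, cj_mul, ed, cj_inv_cj]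
      rw [← cj_eq_self_iff, cj_mul, cj_mul, ek', ← h5, cj_inv_cj, hji]

variable {P : Subgroup G} {F : Type v} [Field F] {vv : F → F → G} {t : F → G} {w1 w2 : F → G}

namespace Sc

variable {p' : G} (s : Sc V R i j vv t P p') (b : BTS V R) (τ : TorD V R i j vv t) {m : G} (sw : Sw V R i j t m)
  (c : Coord V R i j vv w1 w2)
include s b τ sw c

/-- `P_x` normalises `Sh` -/
theorem Px_norm_Sh [Finite G] (K : QPx V R i B U Px P) : Px ≤ normalizer (Sh V R P : Set G) := by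
  intro x hx
  obtain ⟨z, hz, hzx⟩ := K.exists_mul hx
  have e : x = z * (z⁻¹ * x) := by group
  rw [e]
  exact mul_mem (P_norm_Sh hz) (norm_Sh b.toBT (K.BQ hzx) (K.dat.BV hzx))

/-- **`U_i ≤ [U, U] (U ∩ K)`** -/
theorem U_le_frat [Finite G] [Finite F] (hXV : XX V R ⊓ centralizer (V : Set G) ≤ YY V R) (L : SigL V R i j P)
    (lin : Lin V R i P vv m p')
    (linJ : ∀ w ∈ W0 V R i P, ∃ ρ : F, ∀ y z r s', KX V R P vv m w (p' * vv y z * p'⁻¹) r s' → s' = z * ρ)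
    {a : F} (ha : a ≠ 0) (ha1 : a ≠ 1) (K : QPx V R i B U Px P) :
    UU V R i ≤ ⁅U, U⁆ ⊔ (U ⊓ Qk B (Px ⊔ Lie.Zero.P0 V R B)) := by
  have hF : ∃ a : F, a ≠ 0 ∧ a ≠ 1 := ⟨a, ha, ha1⟩
  have hWU : WW V (R i) ≤ U := K.dat.WU
  have hUjU : UU V R j ≤ U := (UU_le_YY j).trans K.X.YU
  have hUiU : UU V R i ≤ U := (UU_le_YY i).trans K.X.YU
  have hVT : V ≤ Sh V R P := (V_le_WN V P).trans (WN_le_S0.trans S0_le_Sh)
  have hPx := s.Px_norm_Sh b τ sw c K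
  set Φ : Subgroup G := ⁅U, U⁆ ⊔ (U ⊓ Qk B (Px ⊔ Lie.Zero.P0 V R B)) with hΦ
  have hcΦ : ∀ u ∈ U, ∀ w ∈ U, u * w * u⁻¹ * w⁻¹ ∈ Φ := fun u hu w hw =>
    Subgroup.mem_sup_left (commutator_mem_commutator hu hw)
  have hKΦ : ∀ z ∈ U, z ∈ centralizer (Sh V R P : Set G) → z ∈ Φ := by
    intro z hz hzS
    refine Subgroup.mem_sup_right (mem_inf.2 ⟨hz, ?_⟩)
    let P' : Bool → Subgroup G := fun q => if q then Lie.Zero.P0 V R B else Px
    have h1 := Lie.Nodes.cen_le_Qk_res (P := P') (o := true) (x := false) b.toBT K.dat rfl K.X hVT L.X_norm hPx hz hzS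
    have h2 : z ∈ Qk B (Lie.Zero.P0 V R B ⊔ Px) := h1
    rwa [sup_comm] at h2
  have hVΦ : V ≤ Φ := by
    intro z hz
    refine hKΦ z (hWU (V_le_WW V (R i) hz)) ?_
    rw [mem_centralizer_iff]
    exact fun g hg => L.Sh_comm hg (hVT hz)
  have htX : t a ∈ XX V R := τ.memX a ha
  have htB : t a ∈ B := K.dat.XB (mem_inf.2 ⟨htX, τ.normR ha⟩)
  have htU := K.X.norm htB
  have htΦ : ∀ z ∈ Φ, t a * z * (t a)⁻¹ ∈ Φ := by
    have h1 : Φ ≤ Φ.comap (MulAut.conj (t a)).toMonoidHom := by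
      refine sup_le ?_ fun z hz => ?_
      · rw [commutator_le]
        intro u hu w hw
        show t a * ⁅u, w⁆ * (t a)⁻¹ ∈ Φ
        have e1 : t a * ⁅u, w⁆ * (t a)⁻¹ = ⁅t a * u * (t a)⁻¹, t a * w * (t a)⁻¹⁆ := by
          rw [commutatorElement_def, commutatorElement_def]; group
        rw [e1]
        exact Subgroup.mem_sup_left (commutator_mem_commutator (BTwo.conj_mem_of_normalizer htU hu)
          (BTwo.conj_mem_of_normalizer htU hw))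
      · show t a * z * (t a)⁻¹ ∈ Φ
        obtain ⟨hz1, hz2⟩ := mem_inf.1 hz
        exact Subgroup.mem_sup_right (mem_inf.2 ⟨BTwo.conj_mem_of_normalizer htU hz1,
          Qk_conj' hz2 ((le_sup_left : Px ≤ _) (K.X.le htB))⟩)
    exact fun z hz => h1 hz
  have hΦU : Φ ≤ U := sup_le (commutator_le.2 fun p hp r hr =>
    mul_mem (mul_mem (mul_mem hp hr) (inv_mem hp)) (inv_mem hr)) inf_le_left
  have hNorm : ∀ u ∈ U, ∀ z ∈ Φ, u * z * u⁻¹ ∈ Φ := fun u hu z hz => by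
    have h2 := mul_mem (hcΦ u hu z (hΦU hz)) hz
    rwa [inv_mul_cancel_right] at h2
  refine le_of_tau (W0 := W0 V R i P) (D := DD V R) (t := t a) htΦ ?_ ?_ W0_le_U ?_ ?_
  · -- duality
    have h1 : UU V R i ≤ Φ ⊔ W0 V R i P := by
      obtain ⟨M, _, _, p, mz⟩ := Cfsg.Agent.Omega.HOne.ModZ.exists_MZ b.toBT i
      obtain ⟨_, f, e, ω, σ, κ, q⟩ := mz.exists_fq hF b.toBT c τ
      exact NodeQ.U_le_dual q c s.toNd b.toBT
        (fun u hu w hw => Subgroup.mem_sup_left (hcΦ u (hUjU hu) w (hWU hw))) le_sup_right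
        fun x hx h => s.WN_fix b τ hF hx h
    have hn : W0 V R i P ≤ normalizer (Φ : Set G) :=
      le_normalizer_of fun z hz t ht => hNorm z (hUiU (W0_le_U hz)) t ht
    intro z hz
    have h2 : z ∈ ((Φ ⊔ W0 V R i P : Subgroup G) : Set G) := h1 hz
    rw [coe_mul_of_right_le_normalizer_left _ _ hn] at h2
    obtain ⟨p, hp, r, hr, e1⟩ := h2
    exact ⟨p, hp, r, hr, e1.symm⟩
  · exact Lie.Nodes.U_le_D b.toBT c fun w hw u hu => hcΦ w (hWU hw) u (hUjU hu)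
  · exact fun d hd => hVΦ (b.XD htX hd)
  · intro w hw
    obtain ⟨w', hw', h3, h4⟩ := s.exists_W0 b τ sw c hXV L lin linJ ha ha1 hw
    exact ⟨w', hw', hKΦ _ (hWU h3) h4⟩

/-- **The field `frat`** of the residue `(0, x)`, types `(sigma)` and `(beta)` -/
theorem frat [Finite G] [Finite F] (hXV : XX V R ⊓ centralizer (V : Set G) ≤ YY V R) (L : SigL V R i j P)
    (lin : Lin V R i P vv m p')
    (linJ : ∀ w ∈ W0 V R i P, ∃ ρ : F, ∀ y z r s', KX V R P vv m w (p' * vv y z * p'⁻¹) r s' → s' = z * ρ)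
    (hF : ∃ a : F, a ≠ 0 ∧ a ≠ 1) (K : QPx V R i B U Px P) (A : AptH V R i j Q O S T (cj p' V) z ρ m0) (hQ : Q ≤ Px) :
    ∀ X ≤ U, (∀ u ∈ U, ∃ y ∈ X, y⁻¹ * u ∈ Qk B Px ∧ y⁻¹ * u ∈ Qk B (Lie.Zero.P0 V R B)) →
      ∀ u ∈ U, ∃ y ∈ X, y⁻¹ * u ∈ Qk B (Px ⊔ Lie.Zero.P0 V R B) := by
  obtain ⟨a, ha, ha1⟩ := id hF
  exact (s.quadH b τ hF K).frat b.toBT A hQ (s.U_le_frat b τ sw c hXV L lin linJ ha ha1 K)

end Sc

end Cfsg.Agent.Omega.HOneQ
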