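import Cfsg.Agent.Omega.BTwo.SplitQ

/-!
# II.0h1, split case, `q ≥ 4`, K-free: #12896 (8)

`core_le` (LEMMA E for `q ≥ 4`): a subgroup of `R i × C(X)` which is normal in `N(R i)` lies in `R i`.
`not_le_Q`: a subgroup of `C(W i)` which is normal in `N(R i)` and not contained in `R i` is not contained in `Q j`.
`exists_ZZ`: if `C(X) ≠ 1` then `Z(W i)` is not contained in `Q j`; so `Z(W i) ≠ R i × C_D(X)`.

The only hypothesis besides `BTS` and the torus of `X` (fixed point free on `R i`): a subgroup `S` of odd index of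
`N(R i)` normalises `V`.
-/

set_option autoImplicit false

namespace Cfsg.Agent.Omega.HOneQ

open Subgroup Cfsg.Agent.Omega.BTwo

universe u v w

variable {G : Type u} [Group G] {ι : Type w}

/-- Averaging (Gaschütz): `E = R × A` elementary abelian, `R` and `E` normalised by `H`, `A` by a subgroup `S` of odd
index of `H`: there is an `H`-equivariant projection of `E` onto `R`. -/
theorem exists_proj [Finite G] {E R A H S : Subgroup G} (hRE : R ≤ E) (hinf : R ⊓ A = ⊥)
    (hdec : ∀ e ∈ E, ∃ r ∈ R, r⁻¹ * e ∈ A) (hcomm : ∀ x ∈ E, ∀ y ∈ E, x * y = y * x)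
    (hsq : ∀ x ∈ E, x * x = 1) (hHE : H ≤ normalizer (E : Set G)) (hHR : H ≤ normalizer (R : Set G))
    (hSH : S ≤ H) (hSA : S ≤ normalizer (A : Set G)) (hodd : Odd (S.relIndex H)) :
    ∃ p : G → G, (∀ e ∈ E, p e ∈ R) ∧ (∀ e ∈ E, ∀ f ∈ E, p (e * f) = p e * p f) ∧ (∀ r ∈ R, p r = r) ∧
      ∀ h ∈ H, ∀ e ∈ E, p (h * e * h⁻¹) = h * p e * h⁻¹ := by
  classical
  choose! q hqR hqA using hdec
  have huniq : ∀ e ∈ E, ∀ r ∈ R, r⁻¹ * e ∈ A → r = q e := by
    intro e he r hr h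
    have h1 : r⁻¹ * q e ∈ R ⊓ A := by
      refine mem_inf.2 ⟨mul_mem (inv_mem hr) (hqR e he), ?_⟩
      have e1 : r⁻¹ * q e = r⁻¹ * e * ((q e)⁻¹ * e)⁻¹ := by
        rw [mul_inv_rev, inv_inv]; group
      rw [e1]
      exact mul_mem h (inv_mem (hqA e he))
    rw [hinf, mem_bot, inv_mul_eq_one] at h1
    exact h1
  have hqmul : ∀ e ∈ E, ∀ f ∈ E, q (e * f) = q e * q f := by
    intro e he f hf
    refine (huniq _ (mul_mem he hf) _ (mul_mem (hqR e he) (hqR f hf)) ?_).symm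
    have h1 := hcomm _ (hRE (inv_mem (hqR f hf))) _ (mul_mem (hRE (inv_mem (hqR e he))) he)
    have e1 : (q e * q f)⁻¹ * (e * f) = ((q f)⁻¹ * ((q e)⁻¹ * e)) * f := by group
    have e2 : (q e)⁻¹ * e * (q f)⁻¹ * f = ((q e)⁻¹ * e) * ((q f)⁻¹ * f) := by group
    rw [e1, h1, e2]
    exact mul_mem (hqA e he) (hqA f hf)
  have hqR' : ∀ r ∈ R, q r = r := fun r hr => (huniq r (hRE hr) r hr (by
    rw [inv_mul_cancel]; exact one_mem _)).symm
  have hqS : ∀ s ∈ S, ∀ e ∈ E, q (s⁻¹ * e * s) = s⁻¹ * q e * s := by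
    intro s hs e he
    refine (huniq _ (conj_inv_mem_of_normalizer (hHE (hSH hs)) he) _
      (conj_inv_mem_of_normalizer (hHR (hSH hs)) (hqR e he)) ?_).symm
    have e1 : (s⁻¹ * q e * s)⁻¹ * (s⁻¹ * e * s) = s⁻¹ * ((q e)⁻¹ * e) * s := by group
    rw [e1]
    exact conj_inv_mem_of_normalizer (hSA hs) (hqA e he)
  let _ : CommGroup R := { (inferInstance : Group R) with
    mul_comm := fun a b => Subtype.ext (hcomm a (hRE a.2) b (hRE b.2)) }
  let Q := H ⧸ S.subgroupOf H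
  have : Fintype Q := Fintype.ofFinite Q
  let F : E → Q → R := fun e => Quotient.lift
    (fun a : H => (⟨a * q ((a : G)⁻¹ * e * a) * (a : G)⁻¹, conj_mem_of_normalizer (hHR a.2)
      (hqR _ (conj_inv_mem_of_normalizer (hHE a.2) e.2))⟩ : R)) (by
      intro a b hab
      apply Subtype.ext
      have hab' : (a : G)⁻¹ * b ∈ S := by
        have := QuotientGroup.leftRel_apply.1 hab
        exact this
      have h1 := hqS _ hab' ((a : G)⁻¹ * e * a) (conj_inv_mem_of_normalizer (hHE a.2) e.2)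
      have e1 : ((a : G)⁻¹ * b)⁻¹ * ((a : G)⁻¹ * e * a) * ((a : G)⁻¹ * b) = (b : G)⁻¹ * e * b := by group
      rw [e1] at h1
      change (a : G) * q ((a : G)⁻¹ * e * a) * (a : G)⁻¹ = b * q ((b : G)⁻¹ * e * b) * (b : G)⁻¹
      rw [h1]
      group)
  have hF : ∀ (e : E) (a : H), ((F e (QuotientGroup.mk a) : R) : G) =
      a * q ((a : G)⁻¹ * e * a) * (a : G)⁻¹ := fun e a => rfl
  have hFmul : ∀ (e f : E) (x : Q), F (e * f) x = F e x * F f x := by
    intro e f x
    induction x using QuotientGroup.induction_on with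
    | H a =>
      apply Subtype.ext
      rw [coe_mul, hF, hF, hF]
      have e1 : (a : G)⁻¹ * ((e * f : E) : G) * a = ((a : G)⁻¹ * e * a) * ((a : G)⁻¹ * f * a) := by
        rw [coe_mul]; group
      rw [e1, hqmul _ (conj_inv_mem_of_normalizer (hHE a.2) e.2) _ (conj_inv_mem_of_normalizer (hHE a.2) f.2)]
      group
  let P : E → R := fun e => ∏ x : Q, F e x
  have hcard : Odd (Fintype.card Q) := by
    rw [← Nat.card_eq_fintype_card]; exact hodd
  have hPR : ∀ (r : G) (hr : r ∈ R), P ⟨r, hRE hr⟩ = ⟨r, hr⟩ := by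
    intro r hr
    have h1 : ∀ x : Q, F ⟨r, hRE hr⟩ x = ⟨r, hr⟩ := by
      intro x
      induction x using QuotientGroup.induction_on with
      | H a =>
        apply Subtype.ext
        rw [hF]
        change (a : G) * q ((a : G)⁻¹ * r * a) * (a : G)⁻¹ = r
        rw [hqR' _ (conj_inv_mem_of_normalizer (hHR a.2) hr)]
        group
    change ∏ x : Q, F ⟨r, hRE hr⟩ x = _
    rw [Finset.prod_congr rfl fun x _ => h1 x, Finset.prod_const, Finset.card_univ]
    obtain ⟨k, hk⟩ := hcard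
    have h2 : (⟨r, hr⟩ : R) * ⟨r, hr⟩ = 1 := Subtype.ext (hsq r (hRE hr))
    rw [hk, pow_succ, pow_mul, pow_two, h2, one_pow, one_mul]
  have hPmul : ∀ e f : E, P (e * f) = P e * P f := by
    intro e f
    change ∏ x : Q, F (e * f) x = (∏ x : Q, F e x) * ∏ x : Q, F f x
    rw [← Finset.prod_mul_distrib]
    exact Finset.prod_congr rfl fun x _ => hFmul e f x
  have hPH : ∀ (h : G) (hh : h ∈ H) (e : E),
      ((P ⟨h * e * h⁻¹, conj_mem_of_normalizer (hHE hh) e.2⟩ : R) : G) = h * (P e : G) * h⁻¹ := by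
    intro h hh e
    let c : R →* R :=
      { toFun := fun r => ⟨h * r * h⁻¹, conj_mem_of_normalizer (hHR hh) r.2⟩
        map_one' := Subtype.ext (by simp)
        map_mul' := fun a b => Subtype.ext (by
          change h * (a * b : G) * h⁻¹ = h * a * h⁻¹ * (h * b * h⁻¹)
          group) }
    have h1 : ∀ x : Q, F ⟨h * e * h⁻¹, conj_mem_of_normalizer (hHE hh) e.2⟩ ((⟨h, hh⟩ : H) • x) = c (F e x) := by
      intro x
      induction x using QuotientGroup.induction_on with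
      | H a =>
        apply Subtype.ext
        change (h * a : G) * q ((h * a : G)⁻¹ * (h * e * h⁻¹) * (h * a)) * (h * a : G)⁻¹ =
          h * (a * q ((a : G)⁻¹ * e * a) * (a : G)⁻¹) * h⁻¹
        have e1 : (h * a : G)⁻¹ * (h * e * h⁻¹) * (h * a) = (a : G)⁻¹ * e * a := by group
        rw [e1]
        group
    have h2 : P ⟨h * e * h⁻¹, conj_mem_of_normalizer (hHE hh) e.2⟩ = c (P e) := by
      change ∏ x : Q, F ⟨h * e * h⁻¹, conj_mem_of_normalizer (hHE hh) e.2⟩ x = c (∏ x : Q, F e x)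
      rw [map_prod, ← Finset.prod_congr rfl fun x _ => h1 x]
      exact (Equiv.prod_comp (MulAction.toPerm (⟨h, hh⟩ : H)) _).symm
    exact congrArg Subtype.val h2
  refine ⟨fun e => if he : e ∈ E then (P ⟨e, he⟩ : G) else 1, ?_, ?_, ?_, ?_⟩
  · intro e he
    simp only [dif_pos he]
    exact (P ⟨e, he⟩).2
  · intro e he f hf
    simp only [dif_pos he, dif_pos hf, dif_pos (mul_mem he hf)]
    exact congrArg Subtype.val (hPmul ⟨e, he⟩ ⟨f, hf⟩)
  · intro r hr
    simp only [dif_pos (hRE hr)]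
    exact congrArg Subtype.val (hPR r hr)
  · intro h hh e he
    simp only [dif_pos he, dif_pos (conj_mem_of_normalizer (hHE hh) he)]
    exact hPH h hh ⟨e, he⟩

variable {V : Subgroup G} {R : ι → Subgroup G}

/-- `N(V) = X (N(V) ∩ N(R i))` -/
theorem NV_fact (b : BT V R) (i : ι) {g : G} (hg : g ∈ normalizer (V : Set G)) :
    ∃ x ∈ XX V R, ∃ h ∈ normalizer (V : Set G) ⊓ normalizer (R i : Set G), g = x * h := by
  obtain ⟨k, hk⟩ := b.perm g hg i
  obtain ⟨x, hx, e⟩ := b.trans_X_one i k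
  refine ⟨x, hx, x⁻¹ * g, mem_inf.2 ⟨mul_mem (inv_mem (b.X_le_NV hx)) hg, ?_⟩, by group⟩
  rw [← cj_eq_self_iff, cj_mul, hk, ← e, cj_inv_cj]

/-- a subgroup of `C(X)` normalised by `N(V) ∩ N(R i)` is normalised by `N(V)` -/
theorem NV_le_of (b : BT V R) (i : ι) {A : Subgroup G} (hA : A ≤ CenX V R)
    (h : normalizer (V : Set G) ⊓ normalizer (R i : Set G) ≤ normalizer (A : Set G)) :
    normalizer (V : Set G) ≤ normalizer (A : Set G) := by
  intro g hg
  obtain ⟨x, hx, y, hy, rfl⟩ := NV_fact b i hg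
  refine mul_mem (centralizer_le_normalizer _ ?_) (h hy)
  rw [mem_centralizer_iff]
  exact fun a ha => (mem_centralizer_iff.1 (hA ha) x hx).symm

/-- **LEMMA E for `q ≥ 4`**: a subgroup of `R i × C(X)` which is normal in `N(R i)` lies in `R i`. -/
theorem core_le [Finite G] (b : BTS V R) {i : ι} {S : Subgroup G}
    (hSR : S ≤ normalizer (R i : Set G)) (hSV : S ≤ normalizer (V : Set G))
    (hodd : Odd (S.relIndex (normalizer (R i : Set G))))
    (hfpf : ∀ r ∈ R i, (∀ x ∈ XX V R, x ∈ normalizer (R i : Set G) → x * r = r * x) → r = 1)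
    (hX : ∀ x ∈ CenX V R, ∀ y ∈ CenX V R, x * y = y * x)
    {B : Subgroup G} (hBN : normalizer (R i : Set G) ≤ normalizer (B : Set G))
    (hB : ∀ x ∈ B, ∃ a ∈ R i, a * x ∈ CenX V R) : B ≤ R i := by
  have hRX : ∀ r ∈ R i, ∀ x ∈ CenX V R, r * x = x * r := fun r hr x hx =>
    mem_centralizer_iff.1 (b.CenX_le_cen hx) r (b.R_le i hr)
  have hRR : ∀ r ∈ R i, ∀ s ∈ R i, r * s = s * r := fun r hr s hs =>
    b.V_comm r (b.R_le i hr) s (b.R_le i hs)
  -- `E₁ = B R i`
  have hdec1 : ∀ e ∈ B ⊔ R i, ∃ a ∈ R i, a * e ∈ CenX V R := by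
    have h1 : B ⊔ R i ≤
        ({ carrier := {e | ∃ a ∈ R i, a * e ∈ CenX V R}
           one_mem' := ⟨1, one_mem _, by rw [mul_one]; exact one_mem _⟩
           mul_mem' := by
             rintro e f ⟨a, ha, h⟩ ⟨c, hc, k⟩
             refine ⟨a * c, mul_mem ha hc, ?_⟩
             have e1 : a * c * (e * f) = c * (a * e) * f := by rw [hRR a ha c hc]; group
             have e2 : a * c * (e * f) = a * e * (c * f) := by
               rw [e1, hRX c hc _ h]; group
             rw [e2]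
             exact mul_mem h k
           inv_mem' := by
             rintro e ⟨a, ha, h⟩
             refine ⟨a⁻¹, inv_mem ha, ?_⟩
             have e1 : a⁻¹ * e⁻¹ = (a * e)⁻¹ := by
               have h2 := hRX a ha _ h
               have e3 : e * a = a * e := by
                 calc e * a = a⁻¹ * (a * e * a) := by group
                   _ = a⁻¹ * (a * (a * e)) := by rw [h2]
                   _ = a * e := by group
               rw [← mul_inv_rev, e3]
             rw [e1]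
             exact inv_mem h } : Subgroup G) :=
      sup_le hB fun a ha => ⟨a⁻¹, inv_mem ha, by rw [inv_mul_cancel]; exact one_mem _⟩
    exact h1
  have hcomm1 : ∀ e ∈ B ⊔ R i, ∀ f ∈ B ⊔ R i, e * f = f * e := by
    intro e he f hf
    obtain ⟨a, ha, h⟩ := hdec1 e he
    obtain ⟨c, hc, k⟩ := hdec1 f hf
    have e1 : e = a⁻¹ * (a * e) := by group
    have e2 : f = c⁻¹ * (c * f) := by group
    rw [e1, e2]
    have c1 : Commute a⁻¹ (c * f) := hRX _ (inv_mem ha) _ k
    have c2 : Commute a⁻¹ c⁻¹ := hRR _ (inv_mem ha) _ (inv_mem hc)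
    have c3 : Commute (a * e) c⁻¹ := (hRX _ (inv_mem hc) _ h).symm
    have c4 : Commute (a * e) (c * f) := hX _ h _ k
    exact ((c2.mul_right c1).mul_left (c3.mul_right c4)).eq
  -- the elements of order 2
  let E : Subgroup G :=
    { carrier := {x | x ∈ B ⊔ R i ∧ x * x = 1}
      one_mem' := ⟨one_mem _, by rw [one_mul]⟩
      mul_mem' := by
        rintro x y ⟨hx, hx'⟩ ⟨hy, hy'⟩
        refine ⟨mul_mem hx hy, ?_⟩
        have h1 := hcomm1 y hy x hx
        calc x * y * (x * y) = x * (y * x) * y := by group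
          _ = (x * x) * (y * y) := by rw [h1]; group
          _ = 1 := by rw [hx', hy', one_mul]
      inv_mem' := by
        rintro x ⟨hx, hx'⟩
        exact ⟨inv_mem hx, by rw [← mul_inv_rev, hx', inv_one]⟩ }
  have hE : ∀ x, x ∈ E ↔ x ∈ B ⊔ R i ∧ x * x = 1 := fun x => Iff.rfl
  have hRE : R i ≤ E := fun r hr => ⟨(le_sup_right : R i ≤ B ⊔ R i) hr, b.V_sq r (b.R_le i hr)⟩
  have hNE1 : normalizer (R i : Set G) ≤ normalizer ((B ⊔ R i : Subgroup G) : Set G) := by
    intro g hg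
    rw [← cj_eq_self_iff, cj_sup, cj_eq_self_iff.2 (hBN hg), cj_eq_self_iff.2 hg]
  have hNE : normalizer (R i : Set G) ≤ normalizer (E : Set G) := by
    refine le_normalizer_of fun g hg x hx => ?_
    refine ⟨conj_mem_of_normalizer (hNE1 hg) hx.1, ?_⟩
    have e1 : g * x * g⁻¹ * (g * x * g⁻¹) = g * (x * x) * g⁻¹ := by group
    rw [e1, hx.2]; group
  set A : Subgroup G := E ⊓ CenX V R with hA
  have hSA : S ≤ normalizer (A : Set G) := by
    intro g hg
    rw [← cj_eq_self_iff, hA, cj_inf, cj_eq_self_iff.2 (hNE (hSR hg)),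
      cj_eq_self_iff.2 (b.NV_le_NCenX (hSV hg))]
  obtain ⟨p, pR, pmul, pid, pH⟩ := exists_proj (E := E) (R := R i) (A := A)
    (H := normalizer (R i : Set G)) (S := S) hRE (by
      rw [eq_bot_iff_forall]
      rintro x ⟨h1, -, h2⟩
      exact b.cen_VX (b.R_le i h1) h2) (by
      intro e he
      obtain ⟨a, ha, h⟩ := hdec1 e he.1
      refine ⟨a⁻¹, inv_mem ha, mem_inf.2 ⟨?_, ?_⟩⟩
      · rw [inv_inv]; exact mul_mem (hRE ha) he
      · rw [inv_inv]; exact h) (fun x hx y hy => hcomm1 x hx.1 y hy.1)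
    (fun x hx => hx.2) hNE le_rfl hSR hSA hodd
  have hpA : ∀ d ∈ A, p d = 1 := by
    intro d hd
    refine hfpf _ (pR d hd.1) fun x hx hxR => ?_
    have h1 := pH x hxR d hd.1
    have h2 : x * d * x⁻¹ = d := by
      rw [mul_inv_eq_iff_eq_mul]; exact mem_centralizer_iff.1 hd.2 x hx
    rw [h2, eq_mul_inv_iff_mul_eq] at h1
    exact h1.symm
  have hker : ∀ e ∈ E, p e = 1 → e ∈ A := by
    intro e he h
    obtain ⟨a, ha, h1⟩ := hdec1 e he.1
    have h2 : a * e ∈ A := mem_inf.2 ⟨mul_mem (hRE ha) he, h1⟩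
    have h3 := pmul a (hRE ha) e he
    rw [hpA _ h2, h, mul_one, pid a ha] at h3
    rwa [← h3, one_mul] at h2
  have hNA : normalizer (R i : Set G) ≤ normalizer (A : Set G) := by
    refine le_normalizer_of fun g hg x hx => ?_
    refine hker _ (conj_mem_of_normalizer (hNE hg) hx.1) ?_
    rw [pH g hg x hx.1, hpA x hx, mul_one, mul_inv_cancel]
  have hA1 : A = ⊥ := by
    refine b.nonloc i A (b.CenX_isPGroup.to_le inf_le_right) (inf_le_right.trans
      (b.CenX_le_cen.trans (cen_le_NV V))) (inf_le_right.trans (b.CenX_le_cen.trans (b.cen_le_N i)))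
      (NV_le_of b.toBT i inf_le_right (inf_le_right.trans hNA)) hNA
  -- conclusion
  have hE0 : (B ⊔ R i) ⊓ CenX V R = ⊥ := by
    by_contra hne
    have hp : IsPGroup 2 ((B ⊔ R i) ⊓ CenX V R : Subgroup G) := b.CenX_isPGroup.to_le inf_le_right
    have : Nontrivial ((B ⊔ R i) ⊓ CenX V R : Subgroup G) := (nontrivial_iff_ne_bot _).2 hne
    have hd : 2 ∣ Nat.card ((B ⊔ R i) ⊓ CenX V R : Subgroup G) := by
      obtain ⟨n, hn, e⟩ := hp.nontrivial_iff_card.1 this
      rw [e]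
      exact dvd_pow_self 2 hn.ne'
    obtain ⟨x, hx⟩ := exists_prime_orderOf_dvd_card' 2 hd
    have h2 : (x : G) * x = 1 := by
      have := pow_orderOf_eq_one x
      rw [hx, pow_two] at this
      exact congrArg Subtype.val this
    have h3 : (x : G) ∈ A := mem_inf.2 ⟨⟨x.2.1, h2⟩, x.2.2⟩
    rw [hA1, mem_bot] at h3
    have h4 : x = 1 := Subtype.ext h3
    rw [h4, orderOf_one] at hx
    exact absurd hx (by norm_num)
  intro x hx
  obtain ⟨a, ha, h⟩ := hB x hx
  have h1 : a * x ∈ (B ⊔ R i) ⊓ CenX V R :=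
    mem_inf.2 ⟨mul_mem ((le_sup_right : R i ≤ B ⊔ R i) ha) ((le_sup_left : B ≤ B ⊔ R i) hx), h⟩
  rw [hE0, mem_bot, mul_eq_one_iff_inv_eq] at h1
  rw [← h1]
  exact inv_mem ha

/-- **(8)**: a subgroup of `C(W i)`, normal in `N(R i)`, which is contained in some `Q j`, lies in `R i`. -/
theorem le_R_of_le_Q [Finite G] (b : BTS V R) {i j : ι} (hij : i ≠ j) {S : Subgroup G}
    (hSR : S ≤ normalizer (R i : Set G)) (hSV : S ≤ normalizer (V : Set G))
    (hodd : Odd (S.relIndex (normalizer (R i : Set G))))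
    (hfpf : ∀ r ∈ R i, (∀ x ∈ XX V R, x ∈ normalizer (R i : Set G) → x * r = r * x) → r = 1)
    (hX : ∀ x ∈ CenX V R, ∀ y ∈ CenX V R, x * y = y * x)
    {B : Subgroup G} (hBN : normalizer (R i : Set G) ≤ normalizer (B : Set G))
    (hBW : B ≤ centralizer (WW V (R i) : Set G)) (hBQ : B ≤ QQ (R j)) : B ≤ R i :=
  core_le b hSR hSV hodd hfpf hX hBN fun _ hx => b.cen_W_Q hij (hBW hx) (hBQ hx)

/-- **(8)**: a subgroup of `C(W i)`, normal in `N(R i)`, which meets `C(X)` nontrivially, is not contained in `Q j`. -/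
theorem not_le_Q [Finite G] (b : BTS V R) {i j : ι} (hij : i ≠ j) {S : Subgroup G}
    (hSR : S ≤ normalizer (R i : Set G)) (hSV : S ≤ normalizer (V : Set G))
    (hodd : Odd (S.relIndex (normalizer (R i : Set G))))
    (hfpf : ∀ r ∈ R i, (∀ x ∈ XX V R, x ∈ normalizer (R i : Set G) → x * r = r * x) → r = 1)
    (hX : ∀ x ∈ CenX V R, ∀ y ∈ CenX V R, x * y = y * x)
    {B : Subgroup G} (hBN : normalizer (R i : Set G) ≤ normalizer (B : Set G))
    (hBW : B ≤ centralizer (WW V (R i) : Set G)) (hBX : B ⊓ CenX V R ≠ ⊥) : ¬ B ≤ QQ (R j) := by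
  intro hBQ
  have h := le_R_of_le_Q b hij hSR hSV hodd hfpf hX hBN hBW hBQ
  apply hBX
  rw [eq_bot_iff_forall]
  rintro x ⟨h1, h2⟩
  exact b.cen_VX (b.R_le i (h h1)) h2

/-- `Z(W i)` is not contained in `Q j` if `C(X) ≠ 1` (`c_0 ≥ 1`, i.e. `F_0 ≠ 0`). -/
theorem exists_ZZ [Finite G] (b : BTS V R) {i j : ι} (hij : i ≠ j) {S : Subgroup G}
    (hSR : S ≤ normalizer (R i : Set G)) (hSV : S ≤ normalizer (V : Set G))
    (hodd : Odd (S.relIndex (normalizer (R i : Set G))))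
    (hfpf : ∀ r ∈ R i, (∀ x ∈ XX V R, x ∈ normalizer (R i : Set G) → x * r = r * x) → r = 1)
    (hs : Splits V R i) (hC : CenX V R ≠ ⊥) : ∃ z ∈ ZZ V R i, z ∉ QQ (R j) := by
  by_contra hcon
  push Not at hcon
  have hle : CenX V R ≤ centralizer (WW V (R i) : Set G) := cen_X_le i
  refine not_le_Q b hij hSR hSV hodd hfpf (b.CenX_comm hs)
    ((normalizer_le_WW V (R i)).trans (normalizer_le_normalizer_centralizer _)) le_rfl ?_ ?_
  · rwa [inf_eq_right.2 hle]
  · intro c hc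
    obtain ⟨z, hz, x, hx, rfl⟩ := hs c hc
    exact mul_mem (hcon z hz) (mem_iInf.1 (b.CenX_le_C hx) j)

section coord

variable {i j : ι} {F : Type v} [Field F] {v : F → F → G} {w1 w2 : F → G}

/-- the torus of `X` is fixed point free on `R i` -/
theorem fpf_R [CharP F 2] (c : Coord V R i j v w1 w2) (b : BT V R) (hF : ∃ a : F, a ≠ 0 ∧ a ≠ 1) :
    ∀ r ∈ R i, (∀ x ∈ XX V R, x ∈ normalizer (R i : Set G) → x * r = r * x) → r = 1 := by
  intro r hr h
  obtain ⟨a, ha, ha1⟩ := hF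
  obtain ⟨s, rfl⟩ := (c.mem_R1 r).1 hr
  have h1 := h _ (c.hh_mem_X b a) (cj_eq_self_iff.1 (c.hh_R1 b ha))
  have h2 := c.hh_act ha s 0
  rw [h1, mul_inv_cancel_right, mul_zero] at h2
  have h3 := (c.v_inj h2).1
  have h4 : (a - 1) * s = 0 := by rw [sub_mul, one_mul, ← h3, sub_self]
  rcases mul_eq_zero.1 h4 with h5 | h5
  · exact absurd (sub_eq_zero.1 h5) ha1
  · rw [h5, c.v_zero]

/-- **LEMMA E, `q ≥ 4`, from coordinates** -/
theorem core_le_of_coord [Finite G] [Finite F] [CharP F 2] (b : BTS V R) (c : Coord V R i j v w1 w2)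
    (hF : ∃ a : F, a ≠ 0 ∧ a ≠ 1) {S : Subgroup G} (hSR : S ≤ normalizer (R i : Set G))
    (hSV : S ≤ normalizer (V : Set G)) (hodd : Odd (S.relIndex (normalizer (R i : Set G))))
    {B : Subgroup G} (hBN : normalizer (R i : Set G) ≤ normalizer (B : Set G))
    (hB : ∀ x ∈ B, ∃ a ∈ R i, a * x ∈ CenX V R) : B ≤ R i :=
  core_le b hSR hSV hodd (fpf_R c b.toBT hF) (b.CenX_comm (b.splits_of_coord c hF i)) hBN hB

/-- **(8), `q ≥ 4`, from coordinates**, for every other point `k` -/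
theorem not_le_Q_of_coord [Finite G] [Finite F] [CharP F 2] (b : BTS V R) (c : Coord V R i j v w1 w2)
    (hF : ∃ a : F, a ≠ 0 ∧ a ≠ 1) {S : Subgroup G} (hSR : S ≤ normalizer (R i : Set G))
    (hSV : S ≤ normalizer (V : Set G)) (hodd : Odd (S.relIndex (normalizer (R i : Set G)))) {k : ι} (hik : i ≠ k)
    {B : Subgroup G} (hBN : normalizer (R i : Set G) ≤ normalizer (B : Set G))
    (hBW : B ≤ centralizer (WW V (R i) : Set G)) (hBX : B ⊓ CenX V R ≠ ⊥) : ¬ B ≤ QQ (R k) :=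
  not_le_Q b hik hSR hSV hodd (fpf_R c b.toBT hF) (b.CenX_comm (b.splits_of_coord c hF i)) hBN hBW hBX

/-- **`F_0 ≠ 0`, `q ≥ 4`, from coordinates** -/
theorem exists_ZZ_of_coord [Finite G] [Finite F] [CharP F 2] (b : BTS V R) (c : Coord V R i j v w1 w2)
    (hF : ∃ a : F, a ≠ 0 ∧ a ≠ 1) {S : Subgroup G} (hSR : S ≤ normalizer (R i : Set G))
    (hSV : S ≤ normalizer (V : Set G)) (hodd : Odd (S.relIndex (normalizer (R i : Set G)))) {k : ι} (hik : i ≠ k)
    (hC : CenX V R ≠ ⊥) : ∃ z ∈ ZZ V R i, z ∉ QQ (R k) :=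
  exists_ZZ b hik hSR hSV hodd (fpf_R c b.toBT hF) (b.splits_of_coord c hF i) hC

end coord

end Cfsg.Agent.Omega.HOneQ
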