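import Cfsg.Agent.Omega.Hex.SZ

/-!
# II.0h1, SPLIT, `q ≥ 4` (bb #15121 (f)): `H = E N_H(e)`, abstract form

`H` acts on `M` (`= W₁ / R₁`) and on `M'` (`= W₁ / Z(W₁)`), `π : M → M'` equivariant, `rad = Ker π`, `e : F →+ M` the
line, `f` the form on `M'`; `S = S_E`, `HE = H_E`, `w ∈ E` the longest element, `t` the torus.

* `Dat.s_act` : `t⁻¹ w⁻¹ t w` acts on `e` as `t³`;
* `Dat.fix_e` : an element normalising `S_E` and `H_E` fixes `e`;
* `Dat.frattini` : `H = E N_H(e)`.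
-/

set_option autoImplicit false

namespace Cfsg.Agent.Omega.HOneQ.Five3

variable {H : Type*} [Group H] {M M' : Type*} [AddCommGroup M] [DistribMulAction H M] [AddCommGroup M']
  [DistribMulAction H M'] {F : Type*} [Field F]

/-- the data -/
structure Dat (E S HE A : Subgroup H) (t : Fˣ → H) (w : H) (e : F →+ M) (π : M →+ M') (f : M' → M' → F)
    (ω : M' → F) : Prop where
  einj : ∀ γ, π (e γ) = 0 → γ = 0
  te : ∀ a γ, t a • e γ = e ((a⁻¹ : Fˣ) * γ)
  Se : ∀ s ∈ S, ∀ γ, s • e γ = e γ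
  HEe : ∀ s ∈ HE, ∀ γ, ∃ γ', s • e γ = e γ'
  πact : ∀ (h : H) x, π (h • x) = h • π x
  fsymm : ∀ x y, f x y = f y x
  fe : ∀ x γ, f x (π (e γ)) = ω x * γ
  fw : ∀ x y, f (w • x) (w • y) = f x y
  ft : ∀ (a : Fˣ) x y, f (t a • x) (t a • y) = a * f x y
  fne : ∃ γ, ω (w • π (e γ)) ≠ 0
  wt : ∀ a, (t a)⁻¹ * w⁻¹ * t a * w ∈ HE
  /-- `T` acts on `rad / C_rad(T)` as `F^*` -/
  rad_T : ∀ x, π x = 0 → ∀ a b c : Fˣ, (a : F) + b = c → ∀ r, t r • (t a • x + t b • x - t c • x) =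
    t a • x + t b • x - t c • x
  rad_A : ∀ x, π x = 0 → (∀ a, t a • x = x) → ∀ a ∈ A, a • x = x
  A_T : ∀ x, π x = 0 → (∀ a ∈ A, a • x = x) → ∀ a, t a • x = x
  AS : A ≤ S
  gen : ∀ K : Subgroup H, A ≤ K → (∀ s ∈ S, w * s * w⁻¹ ∈ K) → E ≤ K
  CE : ∀ x, π x = 0 → (∀ g ∈ E, g • x = x) → x = 0
  cen : ∀ x : M', (∀ s ∈ S, s • x = x) → ∃ γ, x = π (e γ)

namespace Dat

variable {E S HE A : Subgroup H} {t : Fˣ → H} {w : H} {e : F →+ M} {π : M →+ M'} {f : M' → M' → F} {ω : M' → F}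
  (d : Dat E S HE A t w e π f ω)
include d

theorem fw' (x y : M') : f (w⁻¹ • x) (w⁻¹ • y) = f x y := by
  have h1 := d.fw (w⁻¹ • x) (w⁻¹ • y)
  rw [smul_inv_smul, smul_inv_smul] at h1
  exact h1.symm

/-- `f (w e γ, e δ) = c γ δ` -/
theorem beta : ∃ c : F, c ≠ 0 ∧ ∀ γ, ω (w • π (e γ)) = c * γ := by
  refine ⟨ω (w • π (e 1)), ?_, ?_⟩
  swap
  · intro γ
    have h1 : f (w • π (e γ)) (π (e 1)) = ω (w • π (e γ)) := by rw [d.fe, mul_one]
    have h2 : f (w • π (e γ)) (π (e 1)) = ω (w⁻¹ • π (e 1)) * γ := by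
      rw [← d.fw' (w • π (e γ)), inv_smul_smul, d.fsymm, d.fe]
    have h3 : ω (w • π (e 1)) = ω (w⁻¹ • π (e 1)) := by
      have h4 : f (w • π (e 1)) (π (e 1)) = ω (w • π (e 1)) := by rw [d.fe, mul_one]
      have h5 : f (w • π (e 1)) (π (e 1)) = ω (w⁻¹ • π (e 1)) * 1 := by
        rw [← d.fw' (w • π (e 1)), inv_smul_smul, d.fsymm, d.fe]
      rw [← h4, h5, mul_one]
    rw [← h1, h2, h3]
  · obtain ⟨γ, hγ⟩ := d.fne
    intro h0
    apply hγ
    have h1 : f (w • π (e γ)) (π (e 1)) = ω (w • π (e γ)) := by rw [d.fe, mul_one]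
    have h2 : f (w • π (e γ)) (π (e 1)) = ω (w⁻¹ • π (e 1)) * γ := by
      rw [← d.fw' (w • π (e γ)), inv_smul_smul, d.fsymm, d.fe]
    have h4 : f (w • π (e 1)) (π (e 1)) = ω (w • π (e 1)) := by rw [d.fe, mul_one]
    have h5 : f (w • π (e 1)) (π (e 1)) = ω (w⁻¹ • π (e 1)) * 1 := by
      rw [← d.fw' (w • π (e 1)), inv_smul_smul, d.fsymm, d.fe]
    rw [← h1, h2, ← mul_one (ω (w⁻¹ • π (e 1))), ← h5, h4, h0, zero_mul]

theorem e_inj {γ δ : F} (h : π (e γ) = π (e δ)) : γ = δ := by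
  have h1 : π (e (γ - δ)) = 0 := by rw [map_sub, map_sub, h, sub_self]
  exact sub_eq_zero.1 (d.einj _ h1)

/-- **`t⁻¹ w⁻¹ t w` acts on `e` as `t³`** -/
theorem s_act (a : Fˣ) (γ : F) : ((t a)⁻¹ * w⁻¹ * t a * w) • e γ = e ((a : F) ^ 3 * γ) := by
  obtain ⟨c, hc, hβ⟩ := d.beta
  obtain ⟨γ', hγ'⟩ := d.HEe _ (d.wt a) γ
  have h1 : t a • w • π (e γ) = w • π (e ((a⁻¹ : Fˣ) * γ')) := by
    rw [← d.te, d.πact, ← hγ', d.πact, smul_smul, smul_smul, smul_smul]
    congr 1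
    group
  have h2 : f (t a • w • π (e γ)) (t a • π (e 1)) = a * (c * γ) := by
    rw [d.ft, d.fe, hβ, mul_one]
  have h3 : t a • π (e 1) = π (e ((a⁻¹ : Fˣ) * 1)) := by
    rw [← d.te, d.πact]
  rw [h1, h3, d.fe, hβ] at h2
  have ha : ((a⁻¹ : Fˣ) : F) = (a : F)⁻¹ := Units.val_inv_eq_inv_val a
  rw [ha, mul_one] at h2
  have ha0 : (a : F) ≠ 0 := a.ne_zero
  have h4 : γ' = (a : F) ^ 3 * γ := by
    field_simp at h2
    exact h2
  rw [hγ', h4]

/-- **An element normalising `S_E` and `H_E` fixes `e`.** -/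
theorem fix_e [Finite F] [CharP F 2] (hF : ∃ b : F, b ≠ 0 ∧ b ≠ 1) {h : H} (hS : ∀ s ∈ S, h⁻¹ * s * h ∈ S)
    (hHE : ∀ s ∈ HE, h⁻¹ * s * h ∈ HE) : ∀ γ, ∃ γ', h • e γ = e γ' := by
  -- `h • e γ` is fixed by `S`
  have k1 : ∀ s ∈ S, ∀ γ, s • h • e γ = h • e γ := by
    intro s hs γ
    have h1 := d.Se _ (hS s hs) γ
    rw [mul_smul, mul_smul, inv_smul_eq_iff] at h1
    exact h1
  have k2 : ∀ γ, ∃ γ', π (h • e γ) = π (e γ') := fun γ => d.cen _ fun s hs => by
    rw [← d.πact, k1 s hs]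
  choose α hα using k2
  have hαadd : ∀ x y, α (x + y) = α x + α y := by
    intro x y
    apply d.e_inj
    rw [← hα, map_add, smul_add, map_add, hα, hα, ← map_add, ← map_add]
  have hαinj : Function.Injective α := by
    intro x y hxy
    have h1 : π (h • e x) = π (h • e y) := by rw [hα, hα, hxy]
    rw [d.πact, d.πact] at h1
    exact d.e_inj ((smul_left_cancel h) h1)
  have hαsurj : Function.Surjective α := Finite.injective_iff_surjective.1 hαinj
  choose β hβ using hαsurj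
  -- the map `φ`
  let φ : F → M := fun γ => h • e (β γ) - e γ
  have hφ : ∀ γ, h • e (β γ) = e γ + φ γ := fun γ => by simp [φ]
  have hφπ : ∀ γ, π (φ γ) = 0 := by
    intro γ
    change π (h • e (β γ) - e γ) = 0
    rw [map_sub, hα, hβ, sub_self]
  have hφS : ∀ s ∈ S, ∀ γ, s • φ γ = φ γ := by
    intro s hs γ
    change s • (h • e (β γ) - e γ) = _
    rw [smul_sub, k1 s hs, d.Se s hs]
  have hβadd : ∀ x y, β (x + y) = β x + β y := by
    intro x y
    apply hαinj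
    rw [hβ, hαadd, hβ, hβ]
  have hφadd : ∀ x y, φ (x + y) = φ x + φ y := by
    intro x y
    change h • e (β (x + y)) - e (x + y) = (h • e (β x) - e x) + (h • e (β y) - e y)
    rw [hβadd, map_add, map_add, smul_add]
    abel
  have hφT : ∀ γ a, t a • φ γ = φ γ := fun γ => d.A_T _ (hφπ γ) fun a ha => hφS a (d.AS ha) γ
  -- equivariance
  have hφHE : ∀ s ∈ HE, ∀ γ γ', s • e γ = e γ' → s • φ γ = φ γ' := by
    intro s hs γ γ' hγ
    obtain ⟨δ, hδ⟩ := d.HEe _ (hHE s hs) (β γ)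
    have h1 : s • h • e (β γ) = h • e δ := by
      rw [← hδ, smul_smul, smul_smul]
      congr 1
      group
    have h2 : s • (e γ + φ γ) = e (α δ) + φ (α δ) := by
      rw [← hφ, ← hφ, h1]
      congr 2
      exact hαinj (hβ (α δ)).symm
    rw [smul_add, hγ] at h2
    have h3 : γ' = α δ := by
      apply d.e_inj
      have h4 := congrArg π h2
      rw [map_add, map_add, hφπ, add_zero, d.πact, hφπ, smul_zero, add_zero] at h4
      exact h4
    rw [← h3] at h2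
    exact add_left_cancel h2
  -- the action of `T` on `w φ`
  have hw : ∀ (a : Fˣ) γ, t a • w • φ γ = w • φ ((a : F) ^ 3 * γ) := by
    intro a γ
    rw [← hφHE _ (d.wt a) γ _ (d.s_act a γ)]
    have h1 : t a • w • φ γ = w • t a • ((t a)⁻¹ * w⁻¹ * t a * w) • φ γ := by
      rw [smul_smul, smul_smul, smul_smul]
      congr 1
      group
    rw [h1]
    congr 1
    rw [hφHE _ (d.wt a) γ _ (d.s_act a γ), hφT]
  have hwπ : ∀ γ, π (w • φ γ) = 0 := fun γ => by rw [d.πact, hφπ, smul_zero]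
  -- `w φ` is centralised by `T`
  obtain ⟨b, hb0, hb1⟩ := hF
  have h2 : (2 : F) = 0 := CharP.cast_eq_zero F 2
  have hb2 : (1 : F) + b ≠ 0 := by
    intro h0
    apply hb1
    have : b = 1 - 2 := by linear_combination h0
    rw [this, h2, sub_zero]
  have hwT : ∀ γ a, t a • w • φ γ = w • φ γ := by
    intro γ a
    have h3 := d.rad_T (w • φ (γ / (b * (1 + b)))) (hwπ _) 1 (Units.mk0 b hb0) (Units.mk0 (1 + b) hb2)
      (by rw [Units.val_mk0, Units.val_mk0, Units.val_one]) a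
    rw [hw, hw, hw, Units.val_mk0, Units.val_mk0, Units.val_one] at h3
    have h4 : w • φ (1 ^ 3 * (γ / (b * (1 + b)))) + w • φ (b ^ 3 * (γ / (b * (1 + b)))) -
        w • φ ((1 + b) ^ 3 * (γ / (b * (1 + b)))) = - (w • φ γ) := by
      rw [sub_eq_add_neg, ← smul_add, ← hφadd, ← smul_neg, ← smul_add, ← smul_neg]
      congr 1
      have h5 : φ ((1 + b) ^ 3 * (γ / (b * (1 + b)))) = φ (1 ^ 3 * (γ / (b * (1 + b))) + b ^ 3 * (γ / (b * (1 + b)))) + φ γ := by
        rw [← hφadd]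
        congr 1
        have h6 : γ = (b * (1 + b)) * (γ / (b * (1 + b))) := by field_simp
        generalize γ / (b * (1 + b)) = δ at h6 ⊢
        rw [h6]
        linear_combination (δ * (b + b ^ 2)) * h2
      rw [h5]
      abel
    rw [h4, smul_neg, neg_inj] at h3
    exact h3
  -- so `w φ = 0`
  have hzero : ∀ γ, φ γ = 0 := by
    intro γ
    have h3 : w • φ γ = 0 := by
      apply d.CE _ (hwπ γ)
      let K : Subgroup H :=
        { carrier := {g | g • w • φ γ = w • φ γ}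
          one_mem' := one_smul _ _
          mul_mem' := fun {a b} (ha : a • w • φ γ = _) (hb : b • w • φ γ = _) => by
            change (a * b) • w • φ γ = _
            rw [mul_smul, hb, ha]
          inv_mem' := fun {a} (ha : a • w • φ γ = _) => by
            change a⁻¹ • w • φ γ = _
            rw [inv_smul_eq_iff, ha] }
      have hK : E ≤ K := by
        refine d.gen K (fun a ha => d.rad_A _ (hwπ γ) (hwT γ) a ha) fun s hs => ?_
        change (w * s * w⁻¹) • w • φ γ = _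
        rw [mul_smul, mul_smul, inv_smul_smul, hφS s hs]
      exact fun g hg => hK hg
    exact (smul_eq_zero_iff_eq w).1 h3
  intro γ
  refine ⟨α γ, ?_⟩
  have h3 : β (α γ) = γ := hαinj (hβ (α γ))
  have h4 := hφ (α γ)
  rwa [h3, hzero, add_zero] at h4

end Dat

open Subgroup Cfsg.Agent.Omega.BTwo Cfsg.Agent.Omega.Hex in
open scoped Pointwise in
/-- two Sylow 2-subgroups of a subgroup `E` -/
theorem sylow_conj {H : Type*} [Group H] [Finite H] {E S S' : Subgroup H} (hS : S ≤ E) (hS' : S' ≤ E)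
    (h2 : IsPGroup 2 S) (h2' : IsPGroup 2 S') (ho : Odd (S.relIndex E)) (ho' : Odd (S'.relIndex E)) :
    ∃ x ∈ E, cj x S' = S := by
  have : Fact (Nat.Prime 2) := ⟨Nat.prime_two⟩
  have e1 : IsPGroup 2 (S.subgroupOf E) := h2.comap_of_injective _ E.subtype_injective
  have e2 : IsPGroup 2 (S'.subgroupOf E) := h2'.comap_of_injective _ E.subtype_injective
  have e3 : ¬ 2 ∣ (S.subgroupOf E).index := fun h => (Nat.not_even_iff_odd.2 ho) (even_iff_two_dvd.2 h)
  have e4 : ¬ 2 ∣ (S'.subgroupOf E).index := fun h => (Nat.not_even_iff_odd.2 ho') (even_iff_two_dvd.2 h)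
  obtain ⟨x, hx⟩ := MulAction.exists_smul_eq E (e2.toSylow e4) (e1.toSylow e3)
  refine ⟨x, x.2, ?_⟩
  have hx' : ∀ y : E, y ∈ S.subgroupOf E ↔ x⁻¹ * y * x ∈ S'.subgroupOf E := by
    intro y
    have h5 := congrArg (fun P : Sylow 2 E => y ∈ P) hx
    simp only [IsPGroup.mem_toSylow] at h5
    rw [← h5]
    change y ∈ (MulAut.conj x • (S'.subgroupOf E : Subgroup E)) ↔ _
    rw [Subgroup.mem_pointwise_smul_iff_inv_smul_mem, ← map_inv]
    change x⁻¹ * y * x⁻¹⁻¹ ∈ S'.subgroupOf E ↔ _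
    rw [inv_inv]
  ext y
  rw [mem_cj]
  constructor
  · intro hy
    have hyE : y ∈ E := by
      have h6 := mul_mem (mul_mem x.2 (hS' hy)) (inv_mem x.2)
      have h7 : (x : H) * ((x : H)⁻¹ * y * x) * (x : H)⁻¹ = y := by group
      rwa [h7] at h6
    exact (hx' ⟨y, hyE⟩).2 hy
  · intro hy
    exact (hx' ⟨y, hS hy⟩).1 hy

open Subgroup Cfsg.Agent.Omega.BTwo Cfsg.Agent.Omega.Hex in
/-- **`H = E N_H(e)`.** -/
theorem Dat.frattini {H : Type*} [Group H] {M M' : Type*} [AddCommGroup M] [DistribMulAction H M] [AddCommGroup M']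
    [DistribMulAction H M'] {F : Type*} [Field F] [Finite H] [Finite F] [CharP F 2] {E S HE A : Subgroup H} {t : Fˣ → H}
    {w : H} {e : F →+ M} {π : M →+ M'} {f : M' → M' → F} {ω : M' → F} (d : Dat E S HE A t w e π f ω)
    (hF : ∃ b : F, b ≠ 0 ∧ b ≠ 1) (hE : ∀ g ∈ E, ∀ h, h * g * h⁻¹ ∈ E) (hSE : S ≤ E) (two : IsPGroup 2 S)
    (odd : Odd (S.relIndex E)) (hcpl : Cpl S (E ⊓ normalizer (S : Set H)) HE) (g : H) :
    ∃ x ∈ E, ∀ γ, ∃ γ', (x * g) • e γ = e γ' := by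
  have hgE : cj g E = E := by
    apply le_antisymm
    · rintro _ ⟨y, hy, rfl⟩
      exact hE y hy g
    · intro y hy
      rw [mem_cj]
      have := hE y hy g⁻¹
      rwa [inv_inv] at this
  have hcard : Nat.card (cj g S) = Nat.card S := card_cj g S
  have hS' : cj g S ≤ E := by
    rw [← hgE]; exact cj_mono hSE
  have odd' : Odd ((cj g S).relIndex E) := by
    have h1 : (cj g S).relIndex (cj g E) = S.relIndex E :=
      relIndex_map_map_of_injective S E (MulAut.conj g).injective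
    rw [hgE] at h1
    rw [h1]
    exact odd
  obtain ⟨x, hx, hxS⟩ := sylow_conj hSE hS' two (two.map _) odd odd'
  rw [← cj_mul] at hxS
  have hxgE : cj (x * g) E = E := by rw [cj_mul, hgE, cj_of_mem hx]
  have hnt : NT S (E ⊓ normalizer (S : Set H)) :=
    ⟨le_inf hSE le_normalizer, inf_le_right, two, by
      have h1 := relIndex_mul_relIndex S (E ⊓ normalizer (S : Set H)) E (le_inf hSE le_normalizer) inf_le_left
      rw [← h1] at odd
      exact (Nat.odd_mul.1 odd).1⟩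
  have hB : cj (x * g) (E ⊓ normalizer (S : Set H)) = E ⊓ normalizer (S : Set H) := by
    rw [cj_inf, hxgE, ← normalizer_cj, hxS]
  have hc' : Cpl S (E ⊓ normalizer (S : Set H)) (cj (x * g) HE) := by
    refine ⟨?_, ?_⟩
    · rw [← hB]; exact cj_mono hcpl.HB
    · rw [card_cj, hcpl.card]
  obtain ⟨s, hs, hsx⟩ := hnt.conj hc' hcpl
  rw [← cj_mul] at hsx
  refine ⟨s * x, mul_mem (hSE hs) hx, ?_⟩
  have h1 : ∀ y ∈ S, (s * x * g)⁻¹ * y * (s * x * g) ∈ S := by
    have h2 : cj (s * (x * g)) S = S := by rw [cj_mul, hxS, cj_of_mem hs]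
    intro y hy
    rw [mul_assoc s, ← mem_cj, h2]
    exact hy
  have h2 : ∀ y ∈ HE, (s * x * g)⁻¹ * y * (s * x * g) ∈ HE := by
    intro y hy
    rw [mul_assoc s, ← mem_cj, hsx]
    exact hy
  exact d.fix_e hF h1 h2

/-- `fne` from generation of `M'` by the `S⁻`-conjugates of the line (`Fam.act_gen`) -/
theorem fne_of_gen {S : Subgroup H} {w : H} {e : F →+ M} {π : M →+ M'} {f : M' →+ M' →+ F} {ω : M' → F}
    (Se : ∀ s ∈ S, ∀ γ, s • e γ = e γ) (πact : ∀ (h : H) x, π (h • x) = h • π x)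
    (fsymm : ∀ x y, f x y = f y x) (fe : ∀ x γ, f x (π (e γ)) = ω x * γ) (fw : ∀ x y, f (w • x) (w • y) = f x y)
    (fS : ∀ s ∈ S, ∀ x y, f (s • x) (s • y) = f x y) (ωne : ∃ x, ω x ≠ 0)
    (hgen : ∀ L : AddSubgroup M', (∀ s ∈ S, ∀ γ, (w * s * w⁻¹) • π (e γ) ∈ L) → L = ⊤) :
    ∃ γ, ω (w • π (e γ)) ≠ 0 := by
  by_contra hc
  push Not at hc
  obtain ⟨x, hx⟩ := ωne
  apply hx
  have hse : ∀ s ∈ S, ∀ γ, s • π (e γ) = π (e γ) := fun s hs γ => by rw [← πact, Se s hs]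
  have key : ∀ y : M', f y (w • π (e 1)) = 0 := by
    intro y
    let L : AddSubgroup M' := (f.flip (w • π (e 1))).ker
    have hL : L = ⊤ := by
      refine hgen L fun s hs γ => ?_
      change f ((w * s * w⁻¹) • π (e γ)) (w • π (e 1)) = 0
      have h1 : (w * s * w⁻¹) • π (e γ) = w • s • w⁻¹ • π (e γ) := by rw [mul_smul, mul_smul]
      rw [h1, fw, ← hse s hs 1, fS s hs, ← fw, smul_inv_smul, fsymm, fe, hc, zero_mul]
    have : y ∈ L := by rw [hL]; trivial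
    exact this
  have h1 := key (w • x)
  rw [fw, fe, mul_one] at h1
  exact h1

end Cfsg.Agent.Omega.HOneQ.Five3
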