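import Cfsg.Agent.Omega.HOneQ.NormEAbs
import Cfsg.Agent.Omega.HOne.FqFacts
import Cfsg.Agent.Omega.Lie.ModQ
import Cfsg.Agent.Omega.Lie.ThmD
import Cfsg.Agent.Omega.HOneQ.Five3

/-!
# LEMMA NE for the real situation (II.0h1 split, `q ≥ 4`), and the Frattini statement (Fr)

`M = W i / R i`, `M' = W i / Z(W i)` (`Fq`), `e`, `e'` the images of `V`, `rad = Z(W i) / R i`.

* `normE` : if `C_rad(A) ≤ C_rad(T)`, then an element of `N(R i)` normalising `e'` normalises `V`;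
* `frat` : if moreover `C_{M'}(S_E) = e'` for a Sylow 2-subgroup `S_E` of the normal subgroup `E` of `H`, then
  `H = E N_H(e)`: for `g ∈ N(R i)` there is `x` in the preimage of `E` with `x g ∈ N(V)`.
-/

set_option autoImplicit false
set_option linter.unusedSectionVars false

namespace Cfsg.Agent.Omega.HOneQ.NormE

open Subgroup Cfsg.Agent.Omega.BTwo Cfsg.Agent.Omega.Lie Cfsg.Agent.Omega.Lie.Quot
open Cfsg.Agent.Omega.HOne.ModZ (MZ Fq)

universe u v w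

/-- `|K : N ∩ K|` is odd if `K` is normal in `Γ` and `|Γ : N|` is odd -/
theorem odd_inf {H : Type*} [Group H] [Finite H] {N K Γ : Subgroup H} (hK : K ≤ Γ)
    (hn : (K.subgroupOf Γ).Normal) (hodd : Odd (N.relIndex Γ)) : Odd ((N ⊓ K).relIndex K) := by
  have h1 := ThmD.relIndex_inf (N.subgroupOf Γ) (K.subgroupOf Γ)
  have e1 : N.subgroupOf Γ ⊓ K.subgroupOf Γ = (N ⊓ K).subgroupOf Γ := by
    ext x
    simp only [mem_inf, mem_subgroupOf]
  rw [e1, relIndex_subgroupOf hK] at h1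
  rw [h1]
  have h2 : (N.subgroupOf Γ).relIndex (N.subgroupOf Γ ⊔ K.subgroupOf Γ) ∣ (N.subgroupOf Γ).index :=
    relIndex_dvd_index_of_le le_sup_left
  exact Odd.of_dvd_nat hodd h2

variable {G : Type u} [Group G] [Finite G] {ι : Type w} {V : Subgroup G} {R : ι → Subgroup G} {i j : ι}
  {F : Type v} [Field F] {v : F → F → G} {w1 w2 t : F → G}
  {M : Type u} [AddCommGroup M] [Module F M] [DistribMulAction (HQ (R i)) M] {p : G → M}
  {f : M →ₗ[F] M →ₗ[F] F} {e : F →ₗ[F] M} {ω : M →ₗ[F] F} {σ : HQ (R i) →* RingAut F} {κ : HQ (R i) → F}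

/-- the stabiliser of `e'` -/
def Gam (e : F →ₗ[F] M) : Subgroup (HQ (R i)) where
  carrier := {h | (∀ γ, ∃ γ', h • e γ = e γ') ∧ ∀ γ, ∃ γ', h⁻¹ • e γ = e γ'}
  one_mem' := ⟨fun γ => ⟨γ, one_smul _ _⟩, fun γ => ⟨γ, by rw [inv_one, one_smul]⟩⟩
  mul_mem' := by
    rintro g h ⟨hg, hg'⟩ ⟨hh, hh'⟩
    refine ⟨fun γ => ?_, fun γ => ?_⟩
    · obtain ⟨γ', e1⟩ := hh γ
      obtain ⟨γ'', e2⟩ := hg γ'
      exact ⟨γ'', by rw [mul_smul, e1, e2]⟩
    · obtain ⟨γ', e1⟩ := hg' γ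
      obtain ⟨γ'', e2⟩ := hh' γ'
      exact ⟨γ'', by rw [mul_inv_rev, mul_smul, e1, e2]⟩
  inv_mem' := by
    rintro g ⟨hg, hg'⟩
    exact ⟨hg', fun γ => by rw [inv_inv]; exact hg γ⟩

/-- the pointwise stabiliser of `e'` -/
def Gam0 (e : F →ₗ[F] M) : Subgroup (HQ (R i)) where
  carrier := {h | ∀ γ, h • e γ = e γ}
  one_mem' := fun γ => one_smul _ _
  mul_mem' := fun {g h} hg hh γ => by rw [mul_smul, hh, hg]
  inv_mem' := fun {g} hg γ => by rw [inv_smul_eq_iff, hg]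

theorem Gam0_le : (Gam0 e : Subgroup (HQ (R i))) ≤ Gam e := fun _ hh =>
  ⟨fun γ => ⟨γ, hh γ⟩, fun γ => ⟨γ, (Gam0 e).inv_mem hh γ⟩⟩

theorem Gam0_norm {g k : HQ (R i)} (hg : g ∈ Gam e) (hk : k ∈ Gam0 e) : g⁻¹ * k * g ∈ Gam0 e := by
  intro γ
  obtain ⟨γ', h1⟩ := hg.1 γ
  rw [mul_smul, mul_smul, h1, hk γ', ← h1, inv_smul_smul]

theorem mem_Gam [Finite F] (q : Fq V R i v M p f e ω σ κ) (b : BT V R) (c : Coord V R i j v w1 w2)
    {h : HQ (R i)} (hh : ∃ γ', h • e 1 = e γ') : h ∈ Gam e := by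
  obtain ⟨γ₁, h1⟩ := hh
  have h2 : ∀ γ, h • e γ = e (σ h γ * γ₁) := by
    intro γ
    have e1 : e γ = γ • e 1 := by rw [← LinearMap.map_smul e, smul_eq_mul, mul_one]
    rw [e1, q.semi, h1, ← LinearMap.map_smul e, smul_eq_mul]
  have hinj : Function.Injective (fun γ => σ h γ * γ₁) := by
    intro x y hxy
    have h3 : h • e x = h • e y := by rw [h2, h2]; exact congrArg e hxy
    exact q.e_inj c b (smul_left_cancel h h3)
  have hsurj := Finite.injective_iff_surjective.1 hinj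
  refine ⟨fun γ => ⟨_, h2 γ⟩, fun γ => ?_⟩
  obtain ⟨δ, hδ⟩ := hsurj γ
  refine ⟨δ, ?_⟩
  rw [inv_smul_eq_iff, h2]
  exact congrArg e hδ.symm

theorem im_NV_le [Finite F] (q : Fq V R i v M p f e ω σ κ) (b : BT V R) (c : Coord V R i j v w1 w2) :
    im (R i) (normalizer (V : Set G)) ≤ Gam e := by
  intro h hh
  obtain ⟨g, hg, hgV, rfl⟩ := mem_im.1 hh
  apply mem_Gam q b c
  have h1 := q.toMZ.sb_smul hg hgV ((q.mem_e c).1 ⟨(1 : F), rfl⟩)
  obtain ⟨γ', h2⟩ := (q.mem_e c).2 h1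
  exact ⟨γ', h2.symm⟩

theorem relIndex_im (hodd : Odd ((normalizer (V : Set G)).relIndex (normalizer (R i : Set G)))) :
    Odd (im (R i) (normalizer (V : Set G))).index := by
  have h1 : (im (R i) (normalizer (V : Set G))).index ∣ ((normalizer (V : Set G)).subgroupOf (normalizer (R i : Set G))).index :=
    index_map_dvd _ (pr_surjective (R i))
  exact Odd.of_dvd_nat hodd h1

/-- **LEMMA NE** in `H` -/
theorem dat [Finite F] [CharP F 2] (q : Fq V R i v M p f e ω σ κ) (b : BT V R) (c : Coord V R i j v w1 w2)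
    (τ : TorD V R i j v t) (hF : ∃ a : F, a ≠ 0 ∧ a ≠ 1)
    (hodd : Odd ((normalizer (V : Set G)).relIndex (normalizer (R i : Set G))))
    (hd : ∀ z ∈ ZZ V R i, (∀ u ∈ UU V R j, u * z * u⁻¹ * z⁻¹ ∈ R i) →
      ∀ a, a ≠ 0 → t a * z * (t a)⁻¹ * z⁻¹ ∈ R i)
    {M₁ B₁ : Type u} [AddCommGroup M₁] [AddCommGroup B₁] [DistribMulAction (NR R i) M₁]
    [DistribMulAction (NR R i) B₁] [DistribMulAction (HQ (R i)) M₁] {p₁ : G → M₁} {r₁ : G → B₁}
    {f₁ : M₁ →+ M₁ →+ B₁} (m : ModQ V R i M₁ B₁ p₁ r₁ f₁) :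
    Dat (AA V R i j) (TT τ) (Gam e) (Gam0 e) (im (R i) (normalizer (V : Set G)) ⊓ Gam0 e) (m.sb V)
      (m.sb (ZZ V R i)) := by
  have hVW := V_le_WW V (R i)
  have hZW : ZZ V R i ≤ WW V (R i) := inf_le_left
  have hNW := normalizer_le_WW V (R i)
  -- elements of `e` and `e'`
  have hp : ∀ x ∈ V, ∃ γ, p x = e γ := by
    intro x hx
    obtain ⟨β, γ, rfl⟩ := (c.mem_V x).1 hx
    exact ⟨γ, q.e_eq β γ⟩
  have hpe : ∀ γ, ∃ x ∈ V, p x = e γ := fun γ => ⟨v 0 γ, c.v_mem 0 γ, q.e_eq 0 γ⟩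
  have hsub : ∀ x ∈ WW V (R i), ∀ y ∈ WW V (R i), p x = p y → p₁ x - p₁ y ∈ m.sb (ZZ V R i) := by
    intro x hx y hy hxy
    have h1 := (q.toMZ.p_eq_iff hx hy).1 hxy
    refine ⟨x * y⁻¹, h1, hZW h1, ?_⟩
    rw [m.p_mul x hx _ (inv_mem hy), m.p_inv hy, sub_eq_add_neg]
  have hdisj : ∀ x ∈ m.sb V, x ∈ m.sb (ZZ V R i) → x = 0 := by
    rintro x ⟨y, hy, hyW, rfl⟩ hx
    rw [m.p_mem_iff hyW (b.R_le_Z i)] at hx
    exact (m.p_ker y hyW).2 (b.cen_VW hy hx.2)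
  have hNV : ∀ s ∈ im (R i) (normalizer (V : Set G)), ∀ x ∈ m.sb V, s • x ∈ m.sb V := by
    intro s hs x hx
    obtain ⟨g, hg, hgV, rfl⟩ := mem_im.1 hs
    rw [m.pr_smul]
    exact m.sb_smul (h := ⟨g, hg⟩) hgV hx
  have htriv : ∀ k ∈ (Gam0 e : Subgroup (HQ (R i))), ∀ x ∈ m.sb V, k • x - x ∈ m.sb (ZZ V R i) := by
    rintro k hk x ⟨y, hy, hyW, rfl⟩
    obtain ⟨g, hg, rfl⟩ := exists_pr k
    have h1 := conj_mem_of_normalizer (hNW hg) hyW
    rw [m.act hg hyW]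
    apply hsub _ h1 _ hyW
    obtain ⟨γ, hγ⟩ := hp y hy
    rw [← q.p_act g hg y hyW, hγ, hk γ]
  exact
    { two := m.two_M b
      disj := hdisj
      inv := by
        rintro h hh x ⟨y, hy, hyW, rfl⟩
        obtain ⟨g, hg, rfl⟩ := exists_pr h
        obtain ⟨γ, hγ⟩ := hp y hy
        obtain ⟨γ', hγ'⟩ := hh.1 γ
        obtain ⟨y', hy', hy''⟩ := hpe γ'
        refine ⟨p₁ y', m.p_mem (hVW hy') hy', ?_⟩
        rw [m.act hg hyW]
        apply hsub _ (conj_mem_of_normalizer (hNW hg) hyW) _ (hVW hy')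
        rw [← q.p_act g hg y hyW, hγ, hγ', hy'']
      rad_inv := by
        intro h _ x hx
        obtain ⟨g, hg, rfl⟩ := exists_pr h
        rw [m.pr_smul]
        exact m.sb_smul (h := ⟨g, hg⟩) (N_le_NZ i hg) hx
      le := Gam0_le
      norm := fun g hg k hk => Gam0_norm hg hk
      triv := htriv
      S_le := inf_le_right
      odd := by
        refine odd_inf Gam0_le ⟨fun x hx g => ?_⟩ ?_
        · rw [mem_subgroupOf] at hx ⊢
          have := Gam0_norm (inv_mem g.2) hx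
          rwa [inv_inv] at this
        · exact Odd.of_dvd_nat (relIndex_im hodd) (relIndex_dvd_index_of_le (im_NV_le q b c))
      Se := fun s hs x hx =>
        sub_eq_zero.1 (hdisj _ ((m.sb V).sub_mem (hNV s hs.1 x hx) hx) (htriv s hs.2 x hx))
      A_le := by
        intro a ha γ
        obtain ⟨u, hu, rfl⟩ := (mem_AA b).1 ha
        exact q.cenV_e c _ (UU_le_cen j hu) γ
      Ae := by
        intro a ha x hx
        obtain ⟨u, hu, rfl⟩ := (mem_AA b).1 ha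
        rw [m.pr_smul]
        exact m.cen_e b (UU_le_cen j hu) hx
      T_le := by
        intro x hx
        obtain ⟨a, ha, rfl⟩ := (mem_TT τ).1 hx
        exact im_NV_le q b c (pr_mem_im _ (b.X_le_NV (τ.memX a ha)))
      Te := by
        intro x hx
        obtain ⟨a, ha, rfl⟩ := (mem_TT τ).1 hx
        exact hNV _ (pr_mem_im _ (b.X_le_NV (τ.memX a ha)))
      TΓ := by
        intro g hg x hx
        obtain ⟨a, ha, rfl⟩ := (mem_TT τ).1 hx
        have ha' : σ g a ≠ 0 := (map_ne_zero_iff _ (σ g).injective).2 ha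
        refine ⟨_, (mem_TT τ).2 ⟨σ g a, ha', rfl⟩,
          (pr (R i) ⟨t (σ g a), τ.normR ha'⟩)⁻¹ * (g * pr (R i) ⟨t a, τ.normR ha⟩ * g⁻¹), ?_,
          by rw [mul_inv_cancel_left]⟩
        intro γ
        obtain ⟨δ, hδ⟩ := hg.2 γ
        have h1 : g • e δ = e γ := by rw [← hδ, smul_inv_smul]
        have h2 : pr (R i) ⟨t a, τ.normR ha⟩ • e δ = a⁻¹ • e δ := q.t_e c τ (Units.mk0 a ha) δ
        have h3 : pr (R i) ⟨t (σ g a), τ.normR ha'⟩ • e γ = (σ g a)⁻¹ • e γ :=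
          q.t_e c τ (Units.mk0 (σ g a) ha') γ
        rw [mul_smul, inv_smul_eq_iff, h3, mul_smul, mul_smul, hδ, h2, q.semi, h1, map_inv₀]
      fpf := by
        rintro x ⟨y, hy, hyW, rfl⟩
        obtain ⟨β, γ, rfl⟩ := (c.mem_V y).1 hy
        obtain ⟨a, ha, ha1⟩ := hF
        have ha2 : a⁻¹ - 1 ≠ 0 := by
          intro h0
          apply ha1
          rw [← inv_inv a, sub_eq_zero.1 h0, inv_one]
        refine AddSubgroup.subset_closure ⟨_, (mem_TT τ).2 ⟨a, ha, rfl⟩, p₁ (v 0 (γ * (a⁻¹ - 1)⁻¹)),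
          m.p_mem (hVW (c.v_mem _ _)) (c.v_mem _ _), ?_⟩
        rw [m.act _ (hVW (c.v_mem _ _)), τ.act _ _ _ ha, mul_zero, ← sub_eq_zero]
        have e1 : ∀ β γ, p₁ (v β γ) = p₁ (v 0 γ) := by
          intro β γ
          have h1 := c.v_add β 0 0 γ
          rw [add_zero, zero_add] at h1
          rw [h1, m.p_mul _ (hVW (c.v_mem _ _)) _ (hVW (c.v_mem _ _)),
            (m.p_ker _ (hVW (c.v_mem _ _))).2 ((c.mem_R1 _).2 ⟨β, rfl⟩), zero_add]
        have e2 : ∀ γ γ', p₁ (v 0 (γ + γ')) = p₁ (v 0 γ) + p₁ (v 0 γ') := by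
          intro γ γ'
          have h1 := c.v_add 0 γ 0 γ'
          rw [add_zero] at h1
          rw [h1, m.p_mul _ (hVW (c.v_mem _ _)) _ (hVW (c.v_mem _ _))]
        have e3 : ∀ γ γ', p₁ (v 0 γ) - p₁ (v 0 γ') = p₁ (v 0 (γ - γ')) := by
          intro γ γ'
          rw [sub_eq_iff_eq_add, ← e2, sub_add_cancel]
        rw [e1 β, e3, e3]
        have h4 : γ - (a⁻¹ * (γ * (a⁻¹ - 1)⁻¹) - γ * (a⁻¹ - 1)⁻¹) = 0 := by
          have : a⁻¹ * (γ * (a⁻¹ - 1)⁻¹) - γ * (a⁻¹ - 1)⁻¹ = γ * ((a⁻¹ - 1) * (a⁻¹ - 1)⁻¹) := by ring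
          rw [this, mul_inv_cancel₀ ha2, mul_one, sub_self]
        rw [h4]
        exact (m.p_ker _ (hVW (c.v_mem _ _))).2 ((c.mem_R1 _).2 ⟨0, rfl⟩)
      cA := by
        rintro x ⟨z, hz, hzW, rfl⟩ hA s hs
        obtain ⟨a, ha, rfl⟩ := (mem_TT τ).1 hs
        have h1 : ∀ u ∈ UU V R j, u * z * u⁻¹ * z⁻¹ ∈ R i := by
          intro u hu
          have hN := U_le_N b i j hu
          have h2 := hA _ ((mem_AA b).2 ⟨u, hu, rfl⟩)
          rw [m.act hN hzW] at h2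
          exact (m.p_eq_iff (conj_mem_of_normalizer (hNW hN) hzW) hzW).1 h2
        have h2 := hd z hz h1 a ha
        rw [m.act (τ.normR ha) hzW]
        exact (m.p_eq_iff (conj_mem_of_normalizer (hNW (τ.normR ha)) hzW) hzW).2 h2 }

/-- **LEMMA NE**: an element of `N(R i)` normalising `e'` normalises `V` -/
theorem normE [Finite F] [CharP F 2] (q : Fq V R i v M p f e ω σ κ) (b : BT V R) (c : Coord V R i j v w1 w2)
    (τ : TorD V R i j v t) (hF : ∃ a : F, a ≠ 0 ∧ a ≠ 1)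
    (hodd : Odd ((normalizer (V : Set G)).relIndex (normalizer (R i : Set G))))
    (hd : ∀ z ∈ ZZ V R i, (∀ u ∈ UU V R j, u * z * u⁻¹ * z⁻¹ ∈ R i) →
      ∀ a, a ≠ 0 → t a * z * (t a)⁻¹ * z⁻¹ ∈ R i)
    {g : G} (hg : g ∈ normalizer (R i : Set G)) (h : ∃ γ, pr (R i) ⟨g, hg⟩ • e 1 = e γ) :
    g ∈ normalizer (V : Set G) := by
  obtain ⟨M₁, B₁, _, _, _, _, _, p₁, r₁, f₁, m⟩ := exists_modQ b i
  have d := dat q b c τ hF hodd hd m
  have hVW := V_le_WW V (R i)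
  refine mem_normalizer_of_conj fun z hz => ?_
  have h1 := d.normalizes (mem_Gam q b c h) (m.p_mem (hVW hz) hz)
  rw [m.act hg (hVW hz)] at h1
  exact (m.p_mem_iff (conj_mem_of_normalizer (normalizer_le_WW V (R i) hg) (hVW hz)) (b.R_le i)).1 h1

open Cfsg.Agent.Omega.HOneQ.Five3 Cfsg.Agent.Omega.Hex in
/-- Frattini for a Sylow 2-subgroup of a normal subgroup -/
theorem exists_norm {H : Type*} [Group H] [Finite H] {E S : Subgroup H} (hE : E.Normal) (hSE : S ≤ E)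
    (two : IsPGroup 2 S) (odd : Odd (S.relIndex E)) (g : H) :
    ∃ x ∈ E, ∀ s ∈ S, (x * g)⁻¹ * s * (x * g) ∈ S := by
  have hgE : cj g E = E := by
    apply le_antisymm
    · rintro _ ⟨y, hy, rfl⟩
      exact hE.conj_mem y hy g
    · intro y hy
      rw [mem_cj]
      have := hE.conj_mem y hy g⁻¹
      rwa [inv_inv] at this
  have hS' : cj g S ≤ E := by
    rw [← hgE]; exact cj_mono hSE
  have odd' : Odd ((cj g S).relIndex E) := by
    have h1 : (cj g S).relIndex (cj g E) = S.relIndex E :=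
      relIndex_map_map_of_injective S E (MulAut.conj g).injective
    rw [hgE] at h1
    rw [h1]
    exact odd
  obtain ⟨x, hx, hxS⟩ := sylow_conj hSE hS' two (two.map _) odd odd'
  rw [← cj_mul] at hxS
  refine ⟨x, hx, fun s hs => ?_⟩
  rw [← mem_cj, hxS]
  exact hs

/-- **(Fr)**: `H = E N_H(e)` -/
theorem frat [Finite F] [CharP F 2] (q : Fq V R i v M p f e ω σ κ) (b : BT V R) (c : Coord V R i j v w1 w2)
    (τ : TorD V R i j v t) (hF : ∃ a : F, a ≠ 0 ∧ a ≠ 1)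
    (hodd : Odd ((normalizer (V : Set G)).relIndex (normalizer (R i : Set G))))
    (hd : ∀ z ∈ ZZ V R i, (∀ u ∈ UU V R j, u * z * u⁻¹ * z⁻¹ ∈ R i) →
      ∀ a, a ≠ 0 → t a * z * (t a)⁻¹ * z⁻¹ ∈ R i)
    {E S : Subgroup (HQ (R i))} (hE : E.Normal) (hSE : S ≤ E) (two : IsPGroup 2 S) (odd : Odd (S.relIndex E))
    (hS : ∀ s ∈ S, s • e 1 = e 1) (hcen : ∀ x : M, (∀ s ∈ S, s • x = x) → ∃ γ, x = e γ)
    {g : G} (hg : g ∈ normalizer (R i : Set G)) :
    ∃ (x : G) (hx : x ∈ normalizer (R i : Set G)), pr (R i) ⟨x, hx⟩ ∈ E ∧ x * g ∈ normalizer (V : Set G) := by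
  obtain ⟨y, hy, hyS⟩ := exists_norm hE hSE two odd (pr (R i) ⟨g, hg⟩)
  obtain ⟨x, hx, rfl⟩ := exists_pr y
  refine ⟨x, hx, hy, ?_⟩
  refine normE q b c τ hF hodd hd (mul_mem hx hg) (hcen _ fun s hs => ?_)
  have h1 := hS _ (hyS s hs)
  rw [mul_smul, mul_smul, inv_smul_eq_iff] at h1
  exact h1

end Cfsg.Agent.Omega.HOneQ.NormE
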