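import Cfsg.Agent.Omega.HOneQ.ECenC
import Cfsg.Agent.Omega.HOneQ.KD
import Cfsg.Agent.Omega.HOne.SimpleOf
import Cfsg.Agent.Omega.Lie.ModQS

/-!
# II.0h1, SPLIT, all `q ≥ 4` (bb #15121 (d)) over `BTS`

The radical `rad = Z(W i)/R i` with the data of `CRad.Dat`, for `E = ⟨A^H⟩`, `S ∩ E`, `T`, `N = T H_E`.

* `SE_odd`: `S ∩ E` is a Sylow 2-subgroup of `E`;
* `norm_A`, `norm_SE`: `H_E` normalises `A` and `S ∩ E`;
* `AT_rad`: `[rad, A] ≤ C(T)`; `fix_T_rad`: `C_rad(A) ≤ C_rad(T)`.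
-/

set_option autoImplicit false
set_option linter.unusedSectionVars false

namespace Cfsg.Agent.Omega.HOneQ.FrRad

open Subgroup Cfsg Cfsg.Agent.Omega.Lie Cfsg.Agent.Omega.Lie.Quot Cfsg.Agent.Omega.HOneQ.ECen
open Cfsg.Agent.Omega.BTwo hiding ZZ
open Cfsg.Agent.Omega.Lie.Layer (OddC InnC InnA Cps)

universe u v w

variable {G : Type u} [Group G] {ι : Type w} {V : Subgroup G} {R : ι → Subgroup G} {i j : ι}
  {F : Type v} [Field F] {vv : F → F → G} {w1 w2 t : F → G}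

/-! ### `S`, `T`, `H_E` -/

section SE

variable {τ : TorD V R i j vv t} {S : Subgroup (HQ (R i))}

/-- `S ∩ E` is a Sylow 2-subgroup of `E` -/
theorem SE_odd [Finite G] (I : SylI τ S) {E : Subgroup (HQ (R i))} (hEn : E.Normal) (hE0 : E ≤ H0 R i) :
    Odd ((S ⊓ E).relIndex E) := by
  have hf : Fact (Nat.Prime 2) := ⟨Nat.prime_two⟩
  have hP2 : IsPGroup 2 ((S ⊓ E).subgroupOf E) :=
    (I.S2.to_le (inf_le_left : S ⊓ E ≤ S)).of_injective
      (subgroupOfEquivOfLe (inf_le_right : S ⊓ E ≤ E)).toMonoidHom (MulEquiv.injective _)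
  let P : Sylow 2 E :=
    { toSubgroup := (S ⊓ E).subgroupOf E
      isPGroup' := hP2
      is_maximal' := by
        intro Q hQ hle
        refine le_antisymm ?_ hle
        have h1 : S ⊓ E ≤ Q.map E.subtype := by
          intro x hx
          exact ⟨⟨x, hx.2⟩, hle (mem_subgroupOf.2 hx), rfl⟩
        have h2 : Q.map E.subtype ≤ S := I.syl E hEn.isSubnormal hE0 _ (map_subtype_le Q) (hQ.map _) h1
        intro x hx
        exact mem_subgroupOf.2 ⟨h2 ⟨x, hx, rfl⟩, x.2⟩ }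
  have h1 : ¬ 2 ∣ P.index := P.not_dvd_index
  rw [← Nat.not_even_iff_odd, even_iff_two_dvd]
  exact h1

/-- `S` normalises `A` -/
theorem S_norm_A (b : BT V R) (I : SylI τ S) {s a : HQ (R i)} (hs : s ∈ S) (ha : a ∈ AA V R i j) :
    s * a * s⁻¹ ∈ AA V R i j := by
  obtain ⟨g, hg, hgV, rfl⟩ := I.rep s hs
  obtain ⟨u, hu, rfl⟩ := (mem_AA b).1 ha
  exact (mem_AA b).2 ⟨_, conj_mem_of_normalizer (b.cen_le_NU j hgV) hu, rfl⟩

/-- `T` normalises `S` -/
theorem T_norm_S (I : SylI τ S) {x s : HQ (R i)} (hx : x ∈ TT τ) (hs : s ∈ S) : x * s * x⁻¹ ∈ S := by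
  have h1 := mul_mem hs (I.AS (I.ST x hx s hs))
  rwa [mul_inv_cancel_left] at h1

/-- `[S, T] ≤ A` -/
theorem ST_mem (I : SylI τ S) {x s : HQ (R i)} (hx : x ∈ TT τ) (hs : s ∈ S) : s * x * s⁻¹ * x⁻¹ ∈ AA V R i j := by
  have h1 := I.ST x hx _ (inv_mem hs)
  rwa [show s⁻¹⁻¹ * (x * s⁻¹ * x⁻¹) = s * x * s⁻¹ * x⁻¹ by group] at h1

/-- `A = [A, x]` for some `x ∈ T` -/
theorem exists_A_comm (b : BT V R) (hF : ∃ a : F, a ≠ 0 ∧ a ≠ 1) (τ : TorD V R i j vv t) :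
    ∃ x ∈ TT τ, ∀ a ∈ AA V R i j, ∃ a' ∈ AA V R i j, a = x * a' * x⁻¹ * a'⁻¹ := by
  obtain ⟨α, hα, hα1⟩ := hF
  refine ⟨_, (mem_TT τ).2 ⟨α, hα, rfl⟩, fun a ha => ?_⟩
  obtain ⟨u, hu, rfl⟩ := (mem_AA b).1 ha
  obtain ⟨u', hu', h1⟩ := τ.exists_comm b hα hα1 hu
  have huN := U_le_N b i j hu
  have huN' := U_le_N b i j hu'
  refine ⟨_, (mem_AA b).2 ⟨u', hu', rfl⟩, ?_⟩
  have hN := mul_mem (mul_mem (mul_mem (τ.normR hα) huN') (inv_mem (τ.normR hα))) (inv_mem huN')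
  have e : pr (R i) ⟨t α, τ.normR hα⟩ * pr (R i) ⟨u', huN'⟩ * (pr (R i) ⟨t α, τ.normR hα⟩)⁻¹ *
      (pr (R i) ⟨u', huN'⟩)⁻¹ = pr (R i) ⟨t α * u' * (t α)⁻¹ * u'⁻¹, hN⟩ := rfl
  rw [e, ← mul_inv_eq_one, ← map_inv, ← map_mul]
  refine (pr_eq_one (mul_mem huN (inv_mem hN))).2 ?_
  exact b.W_le_Q i (D_le_W V R i h1)

/-- an element which normalises `S ∩ E`, and `T` modulo `A`, normalises `A` -/
theorem norm_A_of (b : BT V R) (hF : ∃ a : F, a ≠ 0 ∧ a ≠ 1) (I : SylI τ S) {E : Subgroup (HQ (R i))}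
    (hAE : AA V R i j ≤ E) {n : HQ (R i)} (hn : ∀ s ∈ S ⊓ E, n * s * n⁻¹ ∈ S ⊓ E)
    (hnT : ∀ x ∈ TT τ, n * x * n⁻¹ * x⁻¹ ∈ AA V R i j) {a : HQ (R i)} (ha : a ∈ AA V R i j) :
    n * a * n⁻¹ ∈ AA V R i j := by
  obtain ⟨x, hx, h⟩ := exists_A_comm b hF τ
  obtain ⟨a', ha', e⟩ := h a ha
  have hb := hnT x hx
  set c := n * x * n⁻¹ * x⁻¹ with hc
  have hs := (hn a' ⟨I.AS ha', hAE ha'⟩).1
  set s := n * a' * n⁻¹ with hs'
  have h1 := I.ST x hx s hs
  set a'' := s⁻¹ * (x * s * x⁻¹) with ha''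
  have e1 : n * a * n⁻¹ = c * (s * (a'' * c⁻¹) * s⁻¹) := by
    have k1 : n * x * n⁻¹ = c * x := by rw [hc]; group
    have k2 : x * s * x⁻¹ = s * a'' := by rw [ha'']; group
    calc n * a * n⁻¹ = (n * x * n⁻¹) * s * (n * x * n⁻¹)⁻¹ * s⁻¹ := by rw [e, hs']; group
      _ = c * (x * s * x⁻¹) * c⁻¹ * s⁻¹ := by rw [k1]; group
      _ = _ := by rw [k2]; group
  rw [e1]
  exact mul_mem hb (S_norm_A b I hs (mul_mem h1 (inv_mem hb)))

end SE

/-! ### the radical -/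

section rad

variable {M B : Type u} [AddCommGroup M] [AddCommGroup B] [DistribMulAction (NR R i) M]
  [DistribMulAction (NR R i) B] [DistribMulAction (HQ (R i)) M] {p : G → M} {r : G → B} {f : M →+ M →+ B}
  (m : ModQ V R i M B p r f)

theorem rad_smul (b : BT V R) (h : HQ (R i)) {v : M} (hv : v ∈ m.rad) : h • v ∈ m.rad := by
  obtain ⟨g, hg, rfl⟩ := exists_pr h
  obtain ⟨z, hz, rfl⟩ := (m.mem_rad b).1 hv
  rw [m.act hg hz.1]
  exact (m.mem_rad b).2 ⟨_, conj_mem_of_normalizer (LemNS.N_le_NZ i hg) hz, rfl⟩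

/-- `H` acts on the radical -/
@[reducible] def radAct (b : BT V R) : DistribMulAction (HQ (R i)) m.rad where
  smul h x := ⟨h • (x : M), rad_smul m b h x.2⟩
  one_smul x := Subtype.ext (one_smul _ (x : M))
  mul_smul g h x := Subtype.ext (mul_smul g h (x : M))
  smul_zero h := Subtype.ext (smul_zero h)
  smul_add h x y := Subtype.ext (smul_add h (x : M) (y : M))

end rad

section main

variable [Finite G] [Finite F] [CharP F 2] (b : BTS V R) (hF : ∃ a : F, a ≠ 0 ∧ a ≠ 1)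
  (c : Coord V R i j vv w1 w2) (τ : TorD V R i j vv t)
  (hodd : Odd ((normalizer (V : Set G)).relIndex (normalizer (R i : Set G))))
  (hUD : ¬ UU V R j ≤ DD V R)
  {S : Subgroup (HQ (R i))} (I : SylI τ S) (hinn : InnC V R i j) (hoddC : OddC V R i j)
  {HE : Subgroup (HQ (R i))} {w : HQ (R i)}
  (k : Fr.KD (EE V R i j) (S ⊓ EE V R i j) HE (AA V R i j) (TT τ) w)

include k in
/-- `H_E` normalises `S ∩ E` -/
theorem norm_SE {n s : HQ (R i)} (hn : n ∈ HE) (hs : s ∈ S ⊓ EE V R i j) : n * s * n⁻¹ ∈ S ⊓ EE V R i j :=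
  conj_mem_of_normalizer (k.cpl.HB hn).2 hs

include k b hF I in
/-- `H_E` normalises `A` -/
theorem norm_A {n a : HQ (R i)} (hn : n ∈ HE) (ha : a ∈ AA V R i j) : n * a * n⁻¹ ∈ AA V R i j :=
  norm_A_of b.toBT hF I AA_le_EE (fun _ hs => norm_SE τ k hn hs) (fun x hx => k.com n hn x hx) ha

include b c in
/-- `[rad, A] ≤ C(T)` -/
theorem AT_rad {M B : Type u} [AddCommGroup M] [AddCommGroup B] [DistribMulAction (NR R i) M]
    [DistribMulAction (NR R i) B] [DistribMulAction (HQ (R i)) M] {p : G → M} {r : G → B} {f : M →+ M →+ B}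
    (m : ModQ V R i M B p r f) {x : M} (hx : x ∈ m.rad) {a s : HQ (R i)} (ha : a ∈ AA V R i j) (hs : s ∈ TT τ) :
    s • (a • x - x) = a • x - x := by
  have e : a • x - x = x + a • x := by
    rw [sub_eq_add_neg, neg_eq_of_add_eq_zero_left (m.two_M b.toBT x), add_comm]
  rw [e]
  exact ModQS.T_D1 m τ hs (ModQS.A_rad m b c.ne ha hx)

include b hF c τ hodd hUD I hinn hoddC k

/-- the data of `CRad` for the radical -/
theorem dat {M B : Type u} [AddCommGroup M] [AddCommGroup B] [DistribMulAction (NR R i) M]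
    [DistribMulAction (NR R i) B] [DistribMulAction (HQ (R i)) M] {p : G → M} {r : G → B} {f : M →+ M →+ B}
    (m : ModQ V R i M B p r f) :
    @CRad.Dat (HQ (R i)) _ (AA V R i j) (S ⊓ EE V R i j) (EE V R i j) (TT τ) (TT τ ⊔ HE) m.rad _
      (radAct m b.toBT) := by
  let _ := radAct m b.toBT
  have hfin : Finite M := m.finite_M
  have hEn : (EE V R i j).Normal := EE_normal
  have hexp : ∀ x : m.rad, x + x = 0 := fun x => Subtype.ext (m.two_M b.toBT (x : M))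
  have hsup : ∀ (P : HQ (R i) → Prop) (h1 : P 1) (hm : ∀ x y, P x → P y → P (x * y))
      (hT : ∀ x ∈ TT τ, P x) (hH : ∀ x ∈ HE, P x), ∀ n ∈ TT τ ⊔ HE, P n := by
    intro P h1 hm hT hH n hn
    rw [sup_eq_closure] at hn
    refine closure_induction (p := fun x _ => P x ∧ P x⁻¹) ?_ ?_ ?_ ?_ hn |>.1
    · rintro x (hx | hx)
      · exact ⟨hT x hx, hT _ (inv_mem hx)⟩
      · exact ⟨hH x hx, hH _ (inv_mem hx)⟩
    · exact ⟨h1, by rw [inv_one]; exact h1⟩
    · rintro x y - - ⟨hx, hx'⟩ ⟨hy, hy'⟩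
      exact ⟨hm _ _ hx hy, by rw [mul_inv_rev]; exact hm _ _ hy' hx'⟩
    · rintro x - ⟨hx, hx'⟩
      exact ⟨hx', by rw [inv_inv]; exact hx⟩
  exact
    { SE := inf_le_right
      gen := fun K hK hn => E_gen b hF c τ hodd hUD I hinn hoddC hK hn
      AE := AA_le_EE
      two := I.S2.to_le inf_le_left
      odd := SE_odd I EE_normal (EE_le_H0 b.toBT)
      TE := fun x _ g hg => hEn.conj_mem g hg x
      TA := fun x hx a ha => TA_mem b.toBT τ hx ha
      SA := fun s hs a ha => S_norm_A b.toBT I hs.1 ha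
      NA := hsup (fun n => ∀ a ∈ AA V R i j, n * a * n⁻¹ ∈ AA V R i j)
        (fun a ha => by rwa [one_mul, inv_one, mul_one])
        (fun x y hx hy a ha => by
          have h1 := hx _ (hy a ha)
          rwa [show x * (y * a * y⁻¹) * x⁻¹ = x * y * a * (x * y)⁻¹ by group] at h1)
        (fun x hx a ha => TA_mem b.toBT τ hx ha)
        (fun x hx a ha => norm_A b hF τ I k hx ha)
      NS := hsup (fun n => ∀ a ∈ S ⊓ EE V R i j, n * a * n⁻¹ ∈ S ⊓ EE V R i j)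
        (fun a ha => by rwa [one_mul, inv_one, mul_one])
        (fun x y hx hy a ha => by
          have h1 := hx _ (hy a ha)
          rwa [show x * (y * a * y⁻¹) * x⁻¹ = x * y * a * (x * y)⁻¹ by group] at h1)
        (fun x hx a ha => ⟨T_norm_S I hx ha.1, hEn.conj_mem a ha.2 x⟩)
        (fun x hx a ha => norm_SE τ k hx ha)
      NE := sup_le le_sup_right ((k.cpl.HB.trans inf_le_left).trans le_sup_left)
      ST := fun s hs x hx => ST_mem I hx hs.1
      Todd := Cfsg.Agent.Omega.HOne.ModZ.Fq.odd_TT b.toBT τ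
      exp := hexp
      AT := fun a ha x s hs => Subtype.ext (AT_rad b c τ m x.2 ha hs)
      CE := by
        rintro ⟨v, hv⟩ h
        obtain ⟨z, hz, rfl⟩ := (m.mem_rad b.toBT).1 hv
        refine Subtype.ext ((m.p_ker z hz.1).2 ?_)
        refine cen_EE b hF c τ hodd hUD I hinn hoddC hz fun g hg => ?_
        obtain ⟨hgN, hgE⟩ := mem_lift.1 hg
        have h1 := congrArg Subtype.val (h _ hgE)
        change pr (R i) ⟨g, hgN⟩ • p z = p z at h1
        rwa [m.act hgN hz.1, m.p_eq_iff (conj_mem_of_normalizer (normalizer_le_WW V (R i) hgN) hz.1) hz.1] at h1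
      CR := k.CR m.rad hexp }

/-- **(d)**: `C_rad(A) ≤ C_rad(T)` -/
theorem fix_T_rad {M B : Type u} [AddCommGroup M] [AddCommGroup B] [DistribMulAction (NR R i) M]
    [DistribMulAction (NR R i) B] [DistribMulAction (HQ (R i)) M] {p : G → M} {r : G → B} {f : M →+ M →+ B}
    (m : ModQ V R i M B p r f) {x : M} (hx : x ∈ m.rad) (h : ∀ a ∈ AA V R i j, a • x = x) :
    ∀ s ∈ TT τ, s • x = x := by
  let _ := radAct m b.toBT
  have hfin : Finite M := m.finite_M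
  intro s hs
  have h1 := (dat b hF c τ hodd hUD I hinn hoddC k m).fix_T (m := ⟨x, hx⟩)
    (fun a ha => Subtype.ext (h a ha)) s hs
  exact congrArg Subtype.val h1

end main

end Cfsg.Agent.Omega.HOneQ.FrRad
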