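import Cfsg.Agent.Omega.HOneQ.NormA
import Cfsg.Agent.Omega.HOneQ.NormE
import Cfsg.Agent.Omega.HOneQ.FrOf

/-!
# `N_H(A) ≤ N(V)` (II.0h1 split, `q ≥ 4`; OMEGA #17641 (2)); helper866

`hd` : (d) of bb #15121 from `FrRad.fix_T_rad` in the form wanted by `NormE.normE`;
`normV` : `g ∈ N(R i)` with `A^g ≤ A` (in `HQ (R i)`) normalises `V`.
-/

set_option autoImplicit false
set_option linter.unusedSectionVars false

namespace Cfsg.Agent.Omega.HOneQ.NormV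

open Subgroup Cfsg Cfsg.Agent.Omega.BTwo Cfsg.Agent.Omega.Lie Cfsg.Agent.Omega.Lie.Quot
open Cfsg.Agent.Omega.HOne.ModZ
open Cfsg.Agent.Omega.HOneQ.ECen (SylI EE)
open Cfsg.Agent.Omega.Lie.Layer (OddC InnC)
open Cfsg.Agent.Omega.HOneQ.Fr (KD)

universe u v w

variable {G : Type u} [Group G] [Finite G] {ι : Type w} {V : Subgroup G} {R : ι → Subgroup G} {i j : ι}
  {F : Type v} [Field F] [Finite F] [CharP F 2] {vv : F → F → G} {w1 w2 t : F → G}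
  (b : BTS V R) (hF : ∃ a : F, a ≠ 0 ∧ a ≠ 1)
  (c : Coord V R i j vv w1 w2) (τ : TorD V R i j vv t)
  (hodd : Odd ((normalizer (V : Set G)).relIndex (normalizer (R i : Set G))))
  {S : Subgroup (HQ (R i))} (I : SylI τ S) (hinn : InnC V R i j) (hoddC : OddC V R i j)
  {HE : Subgroup (HQ (R i))} {w : HQ (R i)}
  (k : KD (EE V R i j) (S ⊓ EE V R i j) HE (AA V R i j) (TT τ) w)

include b hF c τ hodd I hinn hoddC k

/-- **(d)** in elements of `G` -/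
theorem hd (hUD : ¬ UU V R j ≤ DD V R) : ∀ z ∈ BTwo.ZZ V R i, (∀ u ∈ UU V R j, u * z * u⁻¹ * z⁻¹ ∈ R i) →
    ∀ a, a ≠ 0 → t a * z * (t a)⁻¹ * z⁻¹ ∈ R i := by
  intro z hz hu a ha
  obtain ⟨M, B, _, _, _, _, _, p, r, f, m⟩ := exists_modQ b.toBT i
  have hzW : z ∈ WW V (R i) := hz.1
  have hNW := normalizer_le_WW V (R i)
  have h1 := FrRad.fix_T_rad b hF c τ hodd hUD I hinn hoddC k m ((m.mem_rad b.toBT).2 ⟨z, hz, rfl⟩)
    (by
      intro x hx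
      obtain ⟨u, hu', rfl⟩ := (mem_AA b.toBT).1 hx
      have hN := U_le_N b.toBT i j hu'
      rw [m.act hN hzW, m.p_eq_iff (conj_mem_of_normalizer (hNW hN) hzW) hzW]
      exact hu u hu') _ ((mem_TT τ).2 ⟨a, ha, rfl⟩)
  rwa [m.act (τ.normR ha) hzW,
    m.p_eq_iff (conj_mem_of_normalizer (hNW (τ.normR ha)) hzW) hzW] at h1

/-- **`N_H(A) ≤ N(V)`** -/
theorem normV (hZ : ∃ z ∈ BTwo.ZZ V R j, z ∉ DD V R) {g : G} (hg : g ∈ normalizer (R i : Set G))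
    (hA : ∀ a ∈ AA V R i j, pr (R i) ⟨g, hg⟩ * a * (pr (R i) ⟨g, hg⟩)⁻¹ ∈ AA V R i j) :
    g ∈ normalizer (V : Set G) := by
  have hUD : ¬ UU V R j ≤ DD V R := by
    obtain ⟨z, hz, h⟩ := hZ
    exact fun hle => h (hle (zU_le j hz))
  obtain ⟨M', _, _, p', _, f', e', ω, σ, κ, q⟩ := exists_frame hF b.toBT c τ
  obtain ⟨N, _, _, P1, P2, y⟩ := c.exists_yPair b.toBT
  exact NormE.normE q b.toBT c τ hF hodd (hd b hF c τ hodd I hinn hoddC k hUD) hg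
    (NormA.normA q b c τ y hF hodd hZ hA)

end Cfsg.Agent.Omega.HOneQ.NormV
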