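import Cfsg.Agent.Omega.Lie.End.RealEnum
import Cfsg.Agent.Omega.IIa4.Moved
import Cfsg.Agent.Omega.HOne.SameOf

/-!
# II.0h1, SPLIT, `q ≥ 4`: the systems of the moved components (`RS`) over `BT` / `BTS` / `Sit4`

`fac` : `H = ⟨A^H⟩ N_H(A)` from `(Fr)`; `mcomp_normal` : the product of the moved components is normal in `H`;
`AA_ne_bot` : `A ≠ 1` from `Z(W j) ≰ D`; `exists_rsx` : from LAYER at `(i, j)`, `(Fr)`, `KSideX` and the absence of the
exception `KExc`, an enumeration `K : Fin n → _` of the moved components of `N(R i)/O₂(N(R i))` with parabolic systems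
(`RS`), `n ≥ 1`, and `Opp`, `OneL` for each of them.  `sit_rsx` : the same in the situation `Sit4`.
-/

set_option autoImplicit false
set_option linter.unusedSectionVars false

namespace Cfsg.Agent.Omega.HOneQ.SitRS4

open Subgroup Cfsg Cfsg.Agent.ZN Cfsg.Agent.Omega.MinPar Cfsg.Agent.Omega.Frame
open Cfsg.Agent.Omega.NatPair (NatMod)
open Cfsg.Agent.Omega.BTwo Cfsg.Agent.Omega.Lie Cfsg.Agent.Omega.Lie.Quot Cfsg.Agent.Omega.Lie.End
open Cfsg.Agent.Omega.Lie.End.OfLay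
open Cfsg.Agent.Omega.IIa4 Cfsg.Agent.Omega.IIa4.Moved
open Cfsg.Agent.Omega.HOne.SameOf (Sit4)

universe u

section bt

variable {G : Type u} [Group G] {ι : Type*} {V : Subgroup G} {R : ι → Subgroup G} {i j : ι}

/-- `H = ⟨A^H⟩ N_H(A)` -/
theorem fac (b : BT V R) (hij : i ≠ j)
    (hfr : ∀ x ∈ normalizer (R i : Set G), ∃ e ∈ EE V R i j, e * x ∈ normalizer (V : Set G)) (x : HQ (R i)) :
    ∃ e ∈ normalClosure (AA V R i j : Set (HQ (R i))), ∃ n,
      (∀ a ∈ AA V R i j, n * a * n⁻¹ ∈ AA V R i j) ∧ x = e * n := by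
  obtain ⟨y, hy, rfl⟩ := exists_pr x
  obtain ⟨e, he, hV⟩ := hfr y hy
  obtain ⟨heN, heE⟩ := Moved.mem_up.1 he
  refine ⟨(Quot.pr (R i) ⟨e, heN⟩)⁻¹, inv_mem heE, Quot.pr (R i) ⟨e * y, mul_mem heN hy⟩, norm_A b hij _ hV, ?_⟩
  rw [eq_inv_mul_iff_mul_eq, ← map_mul]
  rfl

/-- **(L8)** the product of the moved components is normal -/
theorem mcomp_normal [Finite G] (b : BT V R) (hij : i ≠ j)
    (hfr : ∀ x ∈ normalizer (R i : Set G), ∃ e ∈ EE V R i j, e * x ∈ normalizer (V : Set G))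
    {T S : Subgroup (HQ (R i))} (l : Lay V R i j T S) :
    (⨆ K ∈ {K : Subgroup (HQ (R i)) | MComp V R i j K}, K).Normal :=
  l.normal_of_fac b hij (fac b hij hfr)

/-- `A ≠ 1` -/
theorem AA_ne_bot (b : BT V R) (hij : i ≠ j) (hz : ∃ z ∈ ZZ V R j, z ∉ DD V R) : AA V R i j ≠ ⊥ := by
  intro h0
  obtain ⟨z, hz, hzD⟩ := hz
  have hu : z ∈ UU V R j := mem_inf.2 ⟨(mem_inf.1 hz).1, cen_W_le V (R j) (mem_inf.1 hz).2⟩
  apply hzD
  refine (U_inf_Q b hij hu).1 ?_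
  have h1 : pr (R i) ⟨z, U_le_N b i j hu⟩ ∈ AA V R i j := (mem_AA b).2 ⟨z, hu, rfl⟩
  rw [h0, mem_bot] at h1
  exact (pr_eq_one _).1 h1

/-- there is a moved component -/
theorem exists_mcomp [Finite G] (b : BT V R) (hij : i ≠ j) (hz : ∃ z ∈ ZZ V R j, z ∉ DD V R)
    {T S : Subgroup (HQ (R i))} (l : Lay V R i j T S) : ∃ K : Subgroup (HQ (R i)), MComp V R i j K :=
  RealEnum.exists_mcomp_of_ne b hij (AA_ne_bot b hij hz) l

/-- **The systems of the moved components.** -/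
theorem exists_rsx [Finite G] {F : Type*} [Field F] [Finite F] [CharP F 2] {v : F → F → G} {t : F → G}
    (hks : KSideX.{u}) (b : BT V R) (τ : TorD V R i j v t) (hij : i ≠ j) (h4 : 4 ≤ Nat.card F)
    (hz : ∃ z ∈ ZZ V R j, z ∉ DD V R)
    (hfr : ∀ x ∈ normalizer (R i : Set G), ∃ e ∈ EE V R i j, e * x ∈ normalizer (V : Set G))
    {S : Subgroup (HQ (R i))} (l : Lay V R i j (TT τ) S)
    (hexc : ∀ K : Subgroup (HQ (R i)), MComp V R i j K → ¬ KExc K (S.subgroupOf K) (Tact (TT τ) K)) :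
    ∃ (n : ℕ) (K : Fin n → Subgroup (HQ (R i))) (J : Fin n → Type) (P : ∀ a, J a → Subgroup (K a))
      (m : ∀ a, J a → J a → ℕ), (∀ a, Finite (J a)) ∧ Nonempty (Fin n) ∧ RS V R i j (TT τ) S K J P m ∧
        ∀ a, Opp (normalizer (S.subgroupOf (K a) : Set (K a))) (S.subgroupOf (K a)) (P a) ∧ OneL (K a) (J a) :=
  RealEnum.exists_RSX hks b τ hij h4 l hexc (mcomp_normal b hij hfr l) (exists_mcomp b hij hz l)

end bt

section sit

variable {G : Type u} [Group G] [Finite G] {S : Sylow 2 G} {P : Subgroup G} {g : G} {F : Type} [Field F]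
  [Finite F] [CharP F 2] {N : Subgroup G} {M : NatMod F N} (h : Sit4 S P g M)
include h

/-- **The systems of the moved components**, in the situation of `Same4`. -/
theorem sit_rsx (hks : KSideX.{u}) (hl : LayAll N (pt M) F) {i j : Pt M}
    (hfr : ∀ x ∈ normalizer (pt M i : Set G), ∃ e ∈ EE N (pt M) i j, e * x ∈ normalizer (N : Set G))
    {v : F → F → G} {w1 w2 : F → G} {t : F → G}
    (c : Coord N (pt M) i j v w1 w2) (τ : TorD N (pt M) i j v t)
    (S₁ : Sylow 2 G) (hV : (S₁ : Subgroup G) ≤ normalizer (N : Set G))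
    (hR : (S₁ : Subgroup G) ≤ normalizer (pt M i : Set G))
    (hexc : ∀ K : Subgroup (HQ (pt M i)), MComp N (pt M) i j K →
      ¬ KExc K ((SS (pt M) i S₁).subgroupOf K) (Tact (TT τ) K)) :
    ∃ (n : ℕ) (K : Fin n → Subgroup (HQ (pt M i))) (J : Fin n → Type) (Q : ∀ a, J a → Subgroup (K a))
      (m : ∀ a, J a → J a → ℕ), (∀ a, Finite (J a)) ∧ Nonempty (Fin n) ∧
        RS N (pt M) i j (TT τ) (SS (pt M) i S₁) K J Q m ∧
        ∀ a, Opp (normalizer ((SS (pt M) i S₁).subgroupOf (K a) : Set (K a))) ((SS (pt M) i S₁).subgroupOf (K a))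
          (Q a) ∧ OneL (K a) (J a) :=
  exists_rsx hks h.bt τ c.ne h.four (h.exists_ZZ' c.ne) hfr (hl i j c.ne v w1 w2 t c τ S₁ hV hR) hexc

end sit

end Cfsg.Agent.Omega.HOneQ.SitRS4
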