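import Cfsg.Agent.Omega.HOneQ.NodeQUse
import Cfsg.Agent.Omega.Lie.LemNS

/-!
# II.0h1, split, `q ≥ 4`: the node theorem for a node `P`, without the module (#15939)

* `gamma_reg` : type `γ`: an element of `U_j` fixing a second line of `V^P` is in `D`;
* `node_all` : (α) ∨ (β), (σ) ∨ (γ).
-/

set_option autoImplicit false
set_option linter.unusedSectionVars false

namespace Cfsg.Agent.Omega.HOneQ.NodeQ

open Subgroup Cfsg.Agent.Omega.BTwo Cfsg.Agent.Omega.Lie Cfsg.Agent.Omega.Lie.Quot Cfsg.Agent.Omega.HOne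
  Cfsg.Agent.Omega.HOne.ModZ Cfsg.Agent.Omega.Lie.Nodes

universe u v w

variable {G : Type u} [Group G] {ι : Type w} {V : Subgroup G} {R : ι → Subgroup G} {i j : ι}
  {F : Type v} [Field F] {v : F → F → G} {w1 w2 t : F → G} [Finite G] {P : Subgroup G}

section gam

variable {M : Type u} [AddCommGroup M] [Module F M] [DistribMulAction (HQ (R i)) M] {p : G → M}
  {f : M →ₗ[F] M →ₗ[F] F} {e : F →ₗ[F] M} {ω : M →ₗ[F] F} {σ : HQ (R i) →* RingAut F} {κ : HQ (R i) → F}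

/-- **type `γ`** : an element of `U_j` fixing a second line is in `D` -/
theorem gamma_reg [CharP F 2] (q : Fq V R i v M p f e ω σ κ) (b : BTS V R) (c : Coord V R i j v w1 w2)
    (τ : TorD V R i j v t) (hF : ∃ a : F, a ≠ 0 ∧ a ≠ 1)
    (hodd : Odd ((normalizer (V : Set G)).relIndex (normalizer (R i : Set G)))) (nd : Nd V R i j P)
    (h : ∀ x (_ : x ∈ P) (hN : x ∈ normalizer (R i : Set G)), cj x V ≠ V → ω (π R i hN • e 1) ≠ 0) :
    ∀ a ∈ UU V R j, ∀ y ∈ P, y ∉ normalizer (V : Set G) → y⁻¹ * a * y ∈ normalizer (V : Set G) → a ∈ DD V R := by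
  intro a ha y hy hyV hay
  by_contra haD
  have hyN := nd.P_le_N hy
  have haN : a ∈ normalizer (R i : Set G) := b.cen_le_N i (UU_le_cen j ha)
  have haP := nd.UP ha
  have hne : cj y V ≠ V := fun h1 => hyV (cj_eq_self_iff.1 h1)
  have haH := q.cenV_H0 c haN (UU_le_cen j ha)
  set x := π R i hyN • e 1 with hx
  -- `a x = x`
  have h1 : cj (a * y) V = cj y V := by
    have h2 := cj_eq_self_iff.2 hay
    calc cj (a * y) V = cj (y * (y⁻¹ * a * y)) V := by congr 1; group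
      _ = cj y V := by rw [cj_mul, h2]
  obtain ⟨γ, h2⟩ := (line_iff q c b nd (mul_mem haP hy) hy).1 h1
  have h3 : π R i (nd.P_le_N (mul_mem haP hy)) • e 1 = pr (R i) ⟨a, haN⟩ • x := by
    rw [hx, ← mul_smul]
    congr 1
  have h4 : pr (R i) ⟨a, haN⟩ • x = γ • x := by rw [← h3]; exact h2
  have h5 : pr (R i) ⟨a, haN⟩ • x = x := by
    have h6 := q.cenV_ω c haN (UU_le_cen j ha) x
    rw [h4, map_smul, smul_eq_mul] at h6
    have h7 : γ = 1 := by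
      have h8 : (γ - 1) * ω x = 0 := by rw [sub_mul, one_mul, h6, sub_self]
      exact sub_eq_zero.1 ((mul_eq_zero.1 h8).resolve_right (h y hy hyN hne))
    rw [h4, h7, one_smul]
  obtain ⟨w, hw, ζ, hζ, h6⟩ := LemNS.lemNS b hF c τ hodd ha haD (c.v_mem 0 1)
  have haw : a * w * a⁻¹ ∈ WW V (R i) := conj_mem_of_normalizer (normalizer_le_WW V (R i) haN) hw
  have h7 : w * a * w⁻¹ * a⁻¹ ∈ WW V (R i) := by
    rw [show w * a * w⁻¹ * a⁻¹ = w * (a * w * a⁻¹)⁻¹ by group]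
    exact mul_mem hw (inv_mem haw)
  have h8 : e 1 = p w - pr (R i) ⟨a, haN⟩ • p w := by
    rw [← q.e_eq 0 1, h6, q.p_mul _ h7 _ hζ.1, (q.p_ker _ hζ.1).2 hζ, add_zero,
      show w * a * w⁻¹ * a⁻¹ = w * (a * w * a⁻¹)⁻¹ by group, q.p_mul _ hw _ (inv_mem haw),
      q.toMZ.p_inv haw, q.p_act a haN w hw, sub_eq_add_neg]
  apply h y hy hyN hne
  have h9 : f x (e 1) = ω x * 1 := q.fe x 1
  have h10 : f x (pr (R i) ⟨a, haN⟩ • p w) = f x (p w) := by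
    rw [← q.H0_isom c haH x (p w), h5]
  rw [h8, map_sub, h10, sub_self, mul_one] at h9
  exact h9.symm

end gam

/-- **THE NODE THEOREM (N) in `II.0h1`** without the module -/
theorem node_all [Finite F] [CharP F 2] (b : BTS V R) (c : Coord V R i j v w1 w2) (τ : TorD V R i j v t)
    (hF : ∃ a : F, a ≠ 0 ∧ a ≠ 1)
    (hodd : Odd ((normalizer (V : Set G)).relIndex (normalizer (R i : Set G)))) (nd : Nd V R i j P)
    (tP : ∀ a, a ≠ 0 → t a ∈ normalizer (P : Set G)) {m : G} (sw : Sw V R i j t m) :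
    (∃ p' ∈ P, cj p' V ≠ V ∧ cj p' V ≤ DD V R ∧ ∀ a, a ≠ 0 → t a ∈ normalizer (cj p' V : Set G)) ∨
    (∃ p', Sc V R i j v t P p' ∧ Sc.Lin V R i P v m p' ∧
      (∀ w ∈ WW V (R i), ∀ x ∈ cj p' V, ∃ n ∈ WN V P, ∃ z ∈ ZZ V R i,
        w * (m⁻¹ * x * m) * w⁻¹ * (m⁻¹ * x * m)⁻¹ = n * z) ∧
      (∀ w ∈ W0 V R i P, ∃ ρ : F, ∀ y z r s', Sc.KX V R P v m w (p' * v y z * p'⁻¹) r s' → s' = z * ρ) ∧
      (∀ w ∈ WW V (R i), (∀ x ∈ W0 V R i P, w * x = x * w) → w ∈ WN V P ⊔ ZZ V R i)) ∨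
    ((∀ a ∈ UU V R j, ∀ y ∈ P, y ∉ normalizer (V : Set G) → y⁻¹ * a * y ∈ normalizer (V : Set G) → a ∈ DD V R) ∧
      ∃ x ∈ P, cj x V ≠ V ∧ ∀ a, a ≠ 0 → t a ∈ normalizer (cj x V : Set G)) := by
  obtain ⟨M, _, _, p, mz⟩ := exists_MZ b.toBT i
  obtain ⟨_, f, e, ω, σ, κ, q⟩ := mz.exists_fq hF b.toBT c τ
  obtain ⟨N, _, _, P1, P2, y⟩ := c.exists_yPair b.toBT
  obtain ⟨π', Λ, hpre, -, -⟩ := q.exists_pre b c τ y hF
  obtain ⟨M0, n, s, sh, E⟩ := hpre.exists_eig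
  have hsc : ∀ {k : N}, NQ V R i P (e 1) (n k) (s k) (fun l => sh l k) → (∀ p', Sc V R i j v t P p' →
      (∃ (hN : p' ∈ normalizer (R i : Set G)) (a : F), a ≠ 0 ∧ π R i hN • e 1 = a • n k) →
        Sc.Lin V R i P v m p') → ∃ p', Sc V R i j v t P p' ∧ Sc.Lin V R i P v m p' ∧
      (∀ w ∈ WW V (R i), ∀ x ∈ cj p' V, ∃ n ∈ WN V P, ∃ z ∈ ZZ V R i,
        w * (m⁻¹ * x * m) * w⁻¹ * (m⁻¹ * x * m)⁻¹ = n * z) ∧
      (∀ w ∈ W0 V R i P, ∃ ρ : F, ∀ y z r s', Sc.KX V R P v m w (p' * v y z * p'⁻¹) r s' → s' = z * ρ) ∧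
      (∀ w ∈ WW V (R i), (∀ x ∈ W0 V R i P, w * x = x * w) → w ∈ WN V P ⊔ ZZ V R i) := by
    intro k o hlin
    obtain ⟨p', sc, hN, a, ha, h1⟩ := NQ.exists_sc q b c τ y hF E nd tP o
    have lin := hlin p' sc ⟨hN, a, ha, h1⟩
    exact ⟨p', sc, lin, hK2 q c nd b τ sc sw hF lin, fun w hw => linJ q c nd b τ sc sw hw,
      fun w hw h => dc q c nd hw h⟩
  rcases node_q q b c τ y hF E nd tP with h | ⟨k, o⟩ | ⟨k, o⟩ | ⟨h1, h2⟩
  · exact Or.inl h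
  · right; left
    refine hsc o.toNQ fun p' sc _ => ?_
    obtain ⟨a, ha, ha1⟩ := hF
    obtain ⟨p₀, hp₀, h1, h2⟩ := NSQ.tau q b c τ y ⟨a, ha, ha1⟩ E nd tP o sc ha
    exact sc.lin_of_tau b τ sw c ⟨a, ha, ha1⟩ hp₀ ha ha1 h1 h2
  · right; left
    refine hsc o.toNQ fun p' sc h => ?_
    obtain ⟨hN, a, ha, h1⟩ := h
    exact sc.lin_of_rigid b τ sw c (NBQ.rigid q b c τ y hF E nd tP o sc.mem hN ha h1)
  · right; right
    exact ⟨gamma_reg q b c τ hF hodd nd h1, h2⟩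

end Cfsg.Agent.Omega.HOneQ.NodeQ
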