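import Cfsg.Agent.Omega.Lie.End.SepLone
import Cfsg.Agent.Omega.HOne.EigOf

/-!
# II.0h1, split: lines on `R i` and the torus (`LineHyp` from `Fq`)

`lineHyp_of_fq` : `g ∈ C(R i)`, `V ^ g ≠ V` commutes with `V` and is normalised by `t a` ⟹ `h = g⁻¹ (t a) g (t a)⁻¹` acts
nontrivially on `V / R i`.
-/

set_option autoImplicit false
set_option linter.unusedSectionVars false

namespace Cfsg.Agent.Omega.HOneQ.SepH

open Subgroup Cfsg.Agent.Omega.BTwo Cfsg.Agent.Omega.Lie Cfsg.Agent.Omega.Lie.Quot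
open Cfsg.Agent.Omega.HOne Cfsg.Agent.Omega.HOne.ModZ

universe u v w

section Abs

open Cfsg.Agent.Omega.HOne.EigAbs

variable {F : Type*} [Field F] {M : Type*} [AddCommGroup M] [Module F M] {N : Type*} [AddCommGroup N] [Module F N]
  {f : M →ₗ[F] M →ₗ[F] F} {e : F →ₗ[F] M} {ω : M →ₗ[F] F} {T : Fˣ → M →ₗ[F] M} {D : Submodule F M}
  {N0 : Submodule F N} {π : LinearMap.ker ω →ₗ[F] N ⧸ N0} {Λ : D →ₗ[F] N →ₗ[F] F} {A : N → M →ₗ[F] M}
  {M0 : Submodule F M} {n : N →ₗ[F] M} {s : N →ₗ[F] N →ₗ[F] M} {sh : N → N →ₗ[F] F}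

/-- the eigenvalue `a⁻¹` on `e^⊥` is only on `e` -/
theorem eig_inv (h : Pre f e ω T D N0 π Λ A) (E : Eig f e ω T D N0 π A M0 n s sh) {x : M} (hx : ω x = 0) {a : Fˣ}
    (ha : (a : F) ≠ 1) (hT : T a x = (a : F)⁻¹ • x) : ∃ γ, x = e γ := by
  obtain ⟨γ, d, hd, g, rfl⟩ := (E.mem_P x).1 hx
  rw [map_add, map_add, h.Te, (E.mem_M0 d).1 hd a, E.n_T, smul_add, smul_add] at hT
  have h1 : e 0 + (1 - (a : F)⁻¹) • d + n (((a : F) - (a : F)⁻¹) • g) = 0 := by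
    rw [map_smul, sub_smul, sub_smul, one_smul, map_zero, zero_add]
    have h2 : (a : F)⁻¹ • e γ + d + (a : F) • n g - (a : F)⁻¹ • e γ - (a : F)⁻¹ • d - (a : F)⁻¹ • n g = 0 := by
      rw [hT]; abel
    rw [← h2]
    abel
  obtain ⟨-, h2, h3⟩ := E.indep 0 _ (M0.smul_mem _ hd) _ h1
  have h4 : (1 : F) - (a : F)⁻¹ ≠ 0 := by
    intro h5
    apply ha
    have := sub_eq_zero.1 h5
    rw [← inv_inv (a : F), ← this, inv_one]
  have h5 : d = 0 := (smul_eq_zero.1 h2).resolve_left h4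
  rw [map_smul] at h3
  have h6 : n g = 0 := (smul_eq_zero.1 h3).resolve_left (h.sub_inv_ne a.ne_zero ha)
  exact ⟨γ, by rw [h5, h6, add_zero, add_zero]⟩

end Abs

variable {G : Type u} [Group G] [Finite G] {ι : Type w} {V : Subgroup G} {R : ι → Subgroup G} {i j : ι}
  {F : Type v} [Field F] {v : F → F → G} {w1 w2 t : F → G}
  {M : Type u} [AddCommGroup M] [Module F M] [DistribMulAction (HQ (R i)) M] {p : G → M}
  {f : M →ₗ[F] M →ₗ[F] F} {e : F →ₗ[F] M} {ω : M →ₗ[F] F} {σ : HQ (R i) →* RingAut F} {κ : HQ (R i) → F}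

/-- **`LineHyp` in II.0h1** (`hNE` : `NormE.normE`) -/
theorem lineHyp_of_fq [Finite F] [CharP F 2] (q : Fq V R i v M p f e ω σ κ) (b : BTS V R)
    (c : Coord V R i j v w1 w2) (τ : TorD V R i j v t) (hF : ∃ a : F, a ≠ 0 ∧ a ≠ 1)
    (hNE : ∀ {g : G} (hg : g ∈ normalizer (R i : Set G)), (∃ γ, pr (R i) ⟨g, hg⟩ • e 1 = e γ) →
      g ∈ normalizer (V : Set G)) : Zero.LineHyp V R i v t := by
  intro a ha ha1 g hg hV hc hT
  obtain ⟨N, _, _, P1, P2, y⟩ := c.exists_yPair b.toBT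
  obtain ⟨π, Λ, h, -, -⟩ := q.exists_pre b c τ y hF
  obtain ⟨M0, n, s, sh, E⟩ := h.exists_eig
  have htV : t a ∈ normalizer (V : Set G) := b.toBT.X_le_NV (τ.memX a ha)
  have hgN : g ∈ normalizer (R i : Set G) := Subgroup.centralizer_le_normalizer (R i : Set G) hg
  have h1 : g⁻¹ * t a * g * (t a)⁻¹ ∈ normalizer (V : Set G) := by
    rw [← cj_eq_self_iff]
    have e1 : cj (t a)⁻¹ V = V := cj_eq_self_iff.2 (inv_mem htV)
    have e2 : cj (t a) (cj g V) = cj g V := cj_eq_self_iff.2 hT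
    rw [cj_mul, e1, mul_assoc, cj_mul, cj_mul, e2, cj_inv_cj]
  have h2 : ∀ x ∈ R i, g⁻¹ * t a * g * (t a)⁻¹ * x = x * (g⁻¹ * t a * g * (t a)⁻¹) := by
    intro x hx
    have k1 : (t a)⁻¹ * x * t a ∈ R i := BTwo.conj_inv_mem_of_normalizer (τ.normR ha) hx
    have k2 : g * ((t a)⁻¹ * x * t a) = ((t a)⁻¹ * x * t a) * g := (mem_centralizer_iff.1 hg _ k1).symm
    have k3 : g⁻¹ * x = x * g⁻¹ := (mem_centralizer_iff.1 (inv_mem hg) _ hx).symm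
    calc g⁻¹ * t a * g * (t a)⁻¹ * x = g⁻¹ * t a * (g * ((t a)⁻¹ * x * t a)) * (t a)⁻¹ := by group
      _ = g⁻¹ * t a * (((t a)⁻¹ * x * t a) * g) * (t a)⁻¹ := by rw [k2]
      _ = (g⁻¹ * x) * (t a * g * (t a)⁻¹) := by group
      _ = x * g⁻¹ * (t a * g * (t a)⁻¹) := by rw [k3]
      _ = x * (g⁻¹ * t a * g * (t a)⁻¹) := by group
  refine ⟨h1, h2, ?_⟩
  obtain ⟨p₀, s₀, hps⟩ := (c.mem_V _).1 (BTwo.conj_mem_of_normalizer h1 (c.v_mem 0 1))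
  refine ⟨p₀, s₀, hps.symm, ?_⟩
  rintro rfl
  set a' : Fˣ := Units.mk0 a ha with ha'
  set gb : HQ (R i) := pr (R i) ⟨g, hgN⟩ with hgb
  have hH0 : gb ∈ H0 R i := mem_im.2 ⟨g, hgN, hg, rfl⟩
  have hgW : ∀ b c, g * v b c * g⁻¹ ∈ WW V (R i) := fun b c' =>
    BTwo.conj_mem_of_normalizer (normalizer_le_WW V (R i) hgN) (q.hvW c b c')
  have e0 : ∀ b c, p (g * v b c * g⁻¹) = gb • e c := fun b c' => by
    rw [hgb, ← q.e_eq b c', q.p_act g hgN _ (q.hvW c b c')]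
  have hesm : ∀ x : F, gb • e x = x • (gb • e 1) := by
    intro x
    rw [← q.H0_smul c hH0, ← LinearMap.map_smul e, smul_eq_mul, mul_one]
  -- `e' = g e` is in `e^⊥`
  have hω : ω (gb • e 1) = 0 := by
    rw [← e0 0 1, q.mem_P c (hgW 0 1)]
    refine mem_inf.2 ⟨hgW 0 1, ?_⟩
    rw [mem_centralizer_iff]
    exact fun z hz => (hc _ (c.v_mem 0 1) z hz).symm
  have hact : q.TL c τ a' (gb • e 1) = (a' : F)⁻¹ • (gb • e 1) := by
    rw [q.TL_apply]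
    have k2 : t a * (g * v 0 a * g⁻¹) * (t a)⁻¹ = g * v p₀ 1 * g⁻¹ := by
      have k3 : t a * v 0 a * (t a)⁻¹ = v 0 1 := by rw [τ.act a 0 a ha, mul_zero, inv_mul_cancel₀ ha]
      have k3' : (t a)⁻¹ * v 0 1 * t a = v 0 a := by rw [← k3]; group
      calc t a * (g * v 0 a * g⁻¹) * (t a)⁻¹ = t a * (g * ((t a)⁻¹ * v 0 1 * t a) * g⁻¹) * (t a)⁻¹ := by rw [k3']
        _ = g * (g⁻¹ * t a * g * (t a)⁻¹ * v 0 1 * (g⁻¹ * t a * g * (t a)⁻¹)⁻¹) * g⁻¹ := by group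
        _ = g * v p₀ 1 * g⁻¹ := by rw [← hps]
    have k4 : pr (R i) ⟨t a', τ.normR a'.ne_zero⟩ • (gb • e a) = gb • e 1 := by
      rw [← e0 0 a, ← e0 p₀ 1, q.p_act _ (τ.normR a'.ne_zero) _ (hgW 0 a)]
      exact congrArg p k2
    rw [hesm a, q.t_smul c τ a'] at k4
    calc pr (R i) ⟨t a', τ.normR a'.ne_zero⟩ • (gb • e 1)
        = (a' : F)⁻¹ • (a • (pr (R i) ⟨t a', τ.normR a'.ne_zero⟩ • (gb • e 1))) := by
          rw [smul_smul (a' : F)⁻¹]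
          change _ = (a⁻¹ * a) • _
          rw [inv_mul_cancel₀ ha, one_smul]
      _ = (a' : F)⁻¹ • (gb • e 1) := by rw [k4]
  obtain ⟨γ, hγ⟩ := eig_inv h E hω (a := a') ha1 hact
  have hgV : g ∈ normalizer (V : Set G) := hNE hgN ⟨γ, hγ⟩
  exact hV (cj_eq_self_iff.2 hgV).le

end Cfsg.Agent.Omega.HOneQ.SepH
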