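import Cfsg.Agent.Omega.HOneQ.ResW
import Cfsg.Agent.Omega.Lie.TorS

/-!
# II.0h1, split, `q ≥ 4`: (KEY) of #15939

`W0 = C_{W_i}(W_N)`, `m ∈ X` interchanges `R i`, `R j` and inverts the torus, `V_2' = m⁻¹ V' m ≤ U_j`.
* `HW` : for `g ∈ U_j`, `h, k ∈ U_i`: `h` commutes with `[g, k]` iff `k` commutes with `[g, h]`;
* `Sc.kx` : `[m w m⁻¹, x] ∈ V Ψ` for `w ∈ W0`, `x ∈ V'`;
* `Sc.key` : `[w, V_2'] ≤ R_i Ψ` for `w ∈ W0`, if the `R_i`-part of `[m w m⁻¹, x]` is `F`-linear in `x ∈ V'`.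
-/

set_option autoImplicit false
set_option linter.unusedSectionVars false

namespace Cfsg.Agent.Omega.HOneQ

open Subgroup Cfsg.Agent.Omega.BTwo
open Cfsg.Agent.Omega.Lie (TorD)

universe u v w

variable {G : Type u} [Group G] {ι : Type w} {V : Subgroup G} {R : ι → Subgroup G} {i j : ι} {P : Subgroup G}
  {F : Type v} [Field F] {vv : F → F → G} {t : F → G}

/-- `g ∈ U_j`, `h, k ∈ U_i`: if `h` commutes with `[g, k]`, then `k` commutes with `[g, h]` -/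
theorem HW (b : BT V R) {i j : ι} (hij : i ≠ j) {g h k : G} (hg : g ∈ UU V R j) (hh : h ∈ UU V R i)
    (hk : k ∈ UU V R i) (H : h * (g * k * g⁻¹ * k⁻¹) = (g * k * g⁻¹ * k⁻¹) * h) :
    k * (g * h * g⁻¹ * h⁻¹) = (g * h * g⁻¹ * h⁻¹) * k := by
  have he := b.UU_comm hij.symm hg hh
  have hf := b.UU_comm hij.symm hg hk
  set e := g * h * g⁻¹ * h⁻¹ with hee
  set f := g * k * g⁻¹ * k⁻¹ with hff
  have e1 : g * h * g⁻¹ = e * h := by rw [hee]; group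
  have e2 : g * k * g⁻¹ = f * k := by rw [hff]; group
  have hr : h * k * h⁻¹ * k⁻¹ ∈ R i := b.WU (UU_le_WW i hh) hk
  set r := h * k * h⁻¹ * k⁻¹ with hrr
  have hrV := b.R_le i hr
  have g1 : g * r * g⁻¹ = r := by
    rw [← mem_centralizer_iff.1 (UU_le_cen j hg) r hrV, mul_inv_cancel_right]
  have g2 : (e * h) * (f * k) * (e * h)⁻¹ * (f * k)⁻¹ = r := by
    rw [← e1, ← e2, ← g1, hrr]; group
  have g3 : (e * h) * (f * k) * (e * h)⁻¹ * (f * k)⁻¹ = e * f * r * (k * e⁻¹ * k⁻¹) * f⁻¹ := by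
    calc (e * h) * (f * k) * (e * h)⁻¹ * (f * k)⁻¹ = e * (h * f) * k * h⁻¹ * e⁻¹ * k⁻¹ * f⁻¹ := by group
      _ = e * (f * h) * k * h⁻¹ * e⁻¹ * k⁻¹ * f⁻¹ := by rw [H]
      _ = e * f * r * (k * e⁻¹ * k⁻¹) * f⁻¹ := by rw [hrr]; group
  have hke : k * e⁻¹ * k⁻¹ ∈ DD V R := conj_mem_of_normalizer (b.Y_le_ND (UU_le_YY i hk)) (inv_mem he)
  have c1 : r * (k * e⁻¹ * k⁻¹) = (k * e⁻¹ * k⁻¹) * r := mem_centralizer_iff.1 (b.D_le_cen hke) r hrV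
  have c2 := b.D_comm hf hke
  have c3 : r * f⁻¹ = f⁻¹ * r := mem_centralizer_iff.1 (b.D_le_cen (inv_mem hf)) r hrV
  have g4 : e * (k * e⁻¹ * k⁻¹) * r = r := by
    calc e * (k * e⁻¹ * k⁻¹) * r = e * ((k * e⁻¹ * k⁻¹) * f) * f⁻¹ * r := by group
      _ = e * (f * (k * e⁻¹ * k⁻¹)) * f⁻¹ * r := by rw [c2]
      _ = e * f * (k * e⁻¹ * k⁻¹) * (f⁻¹ * r) := by group
      _ = e * f * (k * e⁻¹ * k⁻¹) * (r * f⁻¹) := by rw [c3]
      _ = e * f * ((k * e⁻¹ * k⁻¹) * r) * f⁻¹ := by group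
      _ = e * f * (r * (k * e⁻¹ * k⁻¹)) * f⁻¹ := by rw [c1]
      _ = e * f * r * (k * e⁻¹ * k⁻¹) * f⁻¹ := by group
      _ = r := by rw [← g3, g2]
  have g5 : e * (k * e⁻¹ * k⁻¹) = 1 := mul_eq_right.1 g4
  have g6 : k * e⁻¹ * k⁻¹ = e⁻¹ := by
    calc k * e⁻¹ * k⁻¹ = e⁻¹ * (e * (k * e⁻¹ * k⁻¹)) := by group
      _ = e⁻¹ := by rw [g5, mul_one]
  calc k * e = (k * e⁻¹ * k⁻¹)⁻¹ * k := by group
    _ = e * k := by rw [g6, inv_inv]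

/-- the elements of `W_i` centralising `W_N` -/
def W0 (V : Subgroup G) (R : ι → Subgroup G) (i : ι) (P : Subgroup G) : Subgroup G :=
  WW V (R i) ⊓ centralizer (WN V P : Set G)

/-- `m ∈ X` interchanges `R i` and `R j` and inverts the torus -/
structure Sw (V : Subgroup G) (R : ι → Subgroup G) (i j : ι) (t : F → G) (m : G) : Prop where
  mX : m ∈ XX V R
  m1 : cj m (R i) = R j
  m2 : cj m (R j) = R i
  mt : ∀ a, a ≠ 0 → m * t a * m⁻¹ = (t a)⁻¹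

theorem W0_le_U : W0 V R i P ≤ UU V R i := fun _ h =>
  mem_inf.2 ⟨h.1, centralizer_le (V_le_WN V P) h.2⟩

theorem W0_comm {w x : G} (hw : w ∈ W0 V R i P) (hx : x ∈ WN V P) : w * x = x * w :=
  (mem_centralizer_iff.1 hw.2 x hx).symm

/-- `V ∩ C(X) = 1` in coordinates -/
theorem coord_unique (b : BT V R) (τ : TorD V R i j vv t) {r s r' s' : F} {ψ ψ' : G} (hψ : ψ ∈ CenX V R)
    (hψ' : ψ' ∈ CenX V R) (h : vv r s * ψ = vv r' s' * ψ') : r = r' ∧ s = s' ∧ ψ = ψ' := by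
  have h1 : vv (r - r') (s - s') * vv r' s' = vv r s := by
    rw [← τ.v_add, sub_add_cancel, sub_add_cancel]
  have h2 : vv (r - r') (s - s') = ψ' * ψ⁻¹ := by
    have h3 := mem_centralizer_iff.1 (BT.CenX_le_cen b hψ') (vv r' s') ((τ.v_mem _).2 ⟨_, _, rfl⟩)
    have h4 : vv (r - r') (s - s') = vv r s * (vv r' s')⁻¹ := by rw [← h1]; group
    rw [h4]
    calc vv r s * (vv r' s')⁻¹ = (vv r s * ψ) * ψ⁻¹ * (vv r' s')⁻¹ := by group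
      _ = (vv r' s' * ψ') * ψ⁻¹ * (vv r' s')⁻¹ := by rw [h]
      _ = vv r' s' * (ψ' * ψ⁻¹) * (vv r' s')⁻¹ := by group
      _ = ψ' * ψ⁻¹ := by
        rw [mem_centralizer_iff.1 (BT.CenX_le_cen b (mul_mem hψ' (inv_mem hψ))) (vv r' s')
          ((τ.v_mem _).2 ⟨_, _, rfl⟩), mul_inv_cancel_right]
  have h5 : vv (r - r') (s - s') = 1 :=
    b.cen_VX ((τ.v_mem _).2 ⟨_, _, rfl⟩) (by rw [h2]; exact mul_mem hψ' (inv_mem hψ))
  obtain ⟨h6, h7⟩ := τ.v_inj _ _ h5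
  refine ⟨sub_eq_zero.1 h6, sub_eq_zero.1 h7, ?_⟩
  rw [h2, mul_inv_eq_one] at h5
  exact h5.symm

theorem Psi_le_CenX : Psi V R P ≤ CenX V R := inf_le_right.trans inf_le_right

theorem Psi_le_D : Psi V R P ≤ DD V R := inf_le_right.trans inf_le_left

namespace Sc

variable {p' : G} (s : Sc V R i j vv t P p') (b : BTS V R) (τ : TorD V R i j vv t) {m : G} (sw : Sw V R i j t m)
include s b τ sw

/-- `[m w m⁻¹, x] = v r s · ψ` -/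
def KX (V : Subgroup G) (R : ι → Subgroup G) (P : Subgroup G) (vv : F → F → G) (m w x : G) (r s' : F) : Prop :=
  ∃ ψ ∈ Psi V R P, (m * w * m⁻¹) * x * (m * w * m⁻¹)⁻¹ * x⁻¹ = vv r s' * ψ

omit s sw in
theorem KX_unique {w x : G} {r s' r₂ s₂ : F} (h : KX V R P vv m w x r s') (h' : KX V R P vv m w x r₂ s₂) :
    r = r₂ ∧ s' = s₂ := by
  obtain ⟨ψ, hψ, e⟩ := h
  obtain ⟨ψ', hψ', e'⟩ := h'
  obtain ⟨h1, h2, -⟩ := coord_unique b.toBT τ (Psi_le_CenX hψ) (Psi_le_CenX hψ') (e.symm.trans e')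
  exact ⟨h1, h2⟩

omit s τ in
theorem conj_U {w : G} (hw : w ∈ UU V R i) : m * w * m⁻¹ ∈ UU V R j :=
  (b.cj_UU (b.X_le_NV sw.mX) sw.m1).le (conj_mem_cj hw)

omit s τ in
theorem conj_U' {w : G} (hw : w ∈ UU V R i) : m⁻¹ * w * m ∈ UU V R j := by
  have h : cj m⁻¹ (R i) = R j := by rw [← sw.m2, cj_inv_cj]
  have := (b.cj_UU (b.X_le_NV (inv_mem sw.mX)) h).le (conj_mem_cj hw)
  rwa [inv_inv] at this

omit τ in
/-- **(K1)**: `[m w m⁻¹, x]` is centralised by `U_i` -/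
theorem kx_comm {w x : G} (hw : w ∈ W0 V R i P) (hx : x ∈ cj p' V) {u : G} (hu : u ∈ UU V R i) :
    ((m * w * m⁻¹) * x * (m * w * m⁻¹)⁻¹ * x⁻¹) * u = u * ((m * w * m⁻¹) * x * (m * w * m⁻¹)⁻¹ * x⁻¹) := by
  have hwU : m * w * m⁻¹ ∈ UU V R j := conj_U b sw (W0_le_U hw)
  have hxU := s.leU hx
  set u' := m * w * m⁻¹ with hu'
  symm
  refine HW b.toBT s.hij hwU hxU hu ?_
  -- `x` commutes with `d' = [u', u]`
  have hd' := b.UU_comm (Ne.symm s.hij) hwU hu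
  set d' := u' * u * u'⁻¹ * u⁻¹ with hdd
  have hx2 : m * x * m⁻¹ ∈ UU V R j := conj_U b sw hxU
  -- `m x m⁻¹` commutes with `d'`
  have h1 : (m * x * m⁻¹) * d' = d' * (m * x * m⁻¹) := by
    have h2 : (m * x * m⁻¹) * (u * u' * u⁻¹ * u'⁻¹) = (u * u' * u⁻¹ * u'⁻¹) * (m * x * m⁻¹) := by
      refine HW b.toBT (Ne.symm s.hij) hu hwU hx2 ?_
      -- `u'` commutes with `[u, m x m⁻¹] = m [m⁻¹ u m, x] m⁻¹`
      have h3 : m⁻¹ * u * m ∈ UU V R j := conj_U' b sw hu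
      have h4 : (m⁻¹ * u * m) * x * (m⁻¹ * u * m)⁻¹ * x⁻¹ ∈ WN V P :=
        mul_mem (conj_mem_of_normalizer (P_norm_WN (s.UP h3)) (line_le_WN s.mem hx))
          (inv_mem (line_le_WN s.mem hx))
      have h5 := W0_comm hw h4
      have e1 : u * (m * x * m⁻¹) * u⁻¹ * (m * x * m⁻¹)⁻¹ =
          m * ((m⁻¹ * u * m) * x * (m⁻¹ * u * m)⁻¹ * x⁻¹) * m⁻¹ := by group
      rw [e1, hu']
      calc m * w * m⁻¹ * (m * ((m⁻¹ * u * m) * x * (m⁻¹ * u * m)⁻¹ * x⁻¹) * m⁻¹)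
          = m * (w * ((m⁻¹ * u * m) * x * (m⁻¹ * u * m)⁻¹ * x⁻¹)) * m⁻¹ := by group
        _ = m * (((m⁻¹ * u * m) * x * (m⁻¹ * u * m)⁻¹ * x⁻¹) * w) * m⁻¹ := by rw [h5]
        _ = _ := by group
    have e2 : u * u' * u⁻¹ * u'⁻¹ = d'⁻¹ := by rw [hdd]; group
    rw [e2] at h2
    calc (m * x * m⁻¹) * d' = d' * (d'⁻¹ * (m * x * m⁻¹)) * d' := by group
      _ = d' * ((m * x * m⁻¹) * d'⁻¹) * d' := by rw [h2]
      _ = d' * (m * x * m⁻¹) := by group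
  -- pull back by `m`
  have h3 := b.XD sw.mX hd'
  have h4 := mem_centralizer_iff.1 (UU_le_cen j hx2) _ h3
  have h5 : (m * x * m⁻¹) * (m * d' * m⁻¹) = (m * d' * m⁻¹) * (m * x * m⁻¹) := by
    have e3 : m * d' * m⁻¹ = (m * d' * m⁻¹ * d'⁻¹) * d' := by group
    rw [e3]
    calc (m * x * m⁻¹) * ((m * d' * m⁻¹ * d'⁻¹) * d') = ((m * x * m⁻¹) * (m * d' * m⁻¹ * d'⁻¹)) * d' := by group
      _ = (m * d' * m⁻¹ * d'⁻¹) * ((m * x * m⁻¹) * d') := by rw [← h4]; group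
      _ = (m * d' * m⁻¹ * d'⁻¹) * d' * (m * x * m⁻¹) := by rw [h1]; group
  calc x * d' = m⁻¹ * ((m * x * m⁻¹) * (m * d' * m⁻¹)) * m := by group
    _ = m⁻¹ * ((m * d' * m⁻¹) * (m * x * m⁻¹)) * m := by rw [h5]
    _ = d' * x := by group

/-- **(K1)**: `[m w m⁻¹, x] ∈ V Ψ` -/
theorem kx {w x : G} (hw : w ∈ W0 V R i P) (hx : x ∈ cj p' V) : ∃ r s', KX V R P vv m w x r s' := by
  have hwU : m * w * m⁻¹ ∈ UU V R j := conj_U b sw (W0_le_U hw)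
  obtain ⟨v, hv, h⟩ := b.cen_DU (i := i) (b.UU_comm (Ne.symm s.hij) hwU (s.leU hx))
    (fun u hu => s.kx_comm b sw hw hx hu)
  obtain ⟨r, s', e⟩ := (τ.v_mem _).1 (inv_mem hv)
  refine ⟨r, s', v * ((m * w * m⁻¹) * x * (m * w * m⁻¹)⁻¹ * x⁻¹), mem_inf.2 ⟨?_, h⟩, ?_⟩
  · exact mul_mem (V_le_WN V P hv) (mul_mem (conj_mem_of_normalizer (P_norm_WN (s.UP hwU)) (line_le_WN s.mem hx))
      (inv_mem (line_le_WN s.mem hx)))
  · rw [e]; group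

/-- `KX` is additive in `w` -/
theorem KX_mul {w w' x : G} {r r₂ s' s₂ : F} (hw : w ∈ W0 V R i P) (h : KX V R P vv m w x r s')
    (h' : KX V R P vv m w' x r₂ s₂) : KX V R P vv m (w * w') x (r + r₂) (s' + s₂) := by
  obtain ⟨ψ, hψ, e⟩ := h
  obtain ⟨ψ', hψ', e'⟩ := h'
  refine ⟨ψ * ψ', mul_mem hψ hψ', ?_⟩
  have hwU : m * w * m⁻¹ ∈ UU V R j := conj_U b sw (W0_le_U hw)
  set g := m * w * m⁻¹ with hg
  set g' := m * w' * m⁻¹ with hg'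
  have e1 : m * (w * w') * m⁻¹ = g * g' := by rw [hg, hg']; group
  have c1 : g * (vv r₂ s₂ * ψ') = (vv r₂ s₂ * ψ') * g := by
    have h1 := mem_centralizer_iff.1 (UU_le_cen j hwU) _ ((τ.v_mem _).2 ⟨r₂, s₂, rfl⟩)
    have h2 := mem_centralizer_iff.1 (Psi_le_CenX hψ') g (YY_le_XX (UU_le_YY j hwU))
    calc g * (vv r₂ s₂ * ψ') = (g * vv r₂ s₂) * ψ' := by group
      _ = vv r₂ s₂ * (g * ψ') := by rw [← h1]; group
      _ = _ := by rw [h2]; group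
  have c2 : (vv r₂ s₂) * ψ = ψ * vv r₂ s₂ :=
    mem_centralizer_iff.1 (BT.CenX_le_cen b.toBT (Psi_le_CenX hψ)) _ ((τ.v_mem _).2 ⟨r₂, s₂, rfl⟩)
  rw [e1]
  calc g * g' * x * (g * g')⁻¹ * x⁻¹ = g * (g' * x * g'⁻¹ * x⁻¹) * g⁻¹ * (g * x * g⁻¹ * x⁻¹) := by group
    _ = g * (vv r₂ s₂ * ψ') * g⁻¹ * (vv r s' * ψ) := by rw [e', e]
    _ = (vv r₂ s₂ * ψ') * (vv r s' * ψ) := by rw [c1, mul_inv_cancel_right]
    _ = (vv r s' * ψ) * (vv r₂ s₂ * ψ') := by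
      refine b.D_comm ?_ ?_
      · exact mul_mem (V_le_D V R ((τ.v_mem _).2 ⟨_, _, rfl⟩)) (Psi_le_D hψ')
      · exact mul_mem (V_le_D V R ((τ.v_mem _).2 ⟨_, _, rfl⟩)) (Psi_le_D hψ)
    _ = vv r s' * (vv r₂ s₂ * ψ) * ψ' := by rw [c2]; group
    _ = _ := by rw [τ.v_add]; group

/-- the torus -/
theorem KX_tor {w x : G} {r s' a : F} (ha : a ≠ 0) (h : KX V R P vv m w x r s') :
    KX V R P vv m ((t a)⁻¹ * w * t a) (t a * x * (t a)⁻¹) (a * r) (a⁻¹ * s') := by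
  obtain ⟨ψ, hψ, e⟩ := h
  have h1 : t a * ψ * (t a)⁻¹ = ψ := by
    rw [mem_centralizer_iff.1 (Psi_le_CenX hψ) (t a) (τ.memX a ha), mul_inv_cancel_right]
  refine ⟨ψ, hψ, ?_⟩
  have h2 := sw.mt a ha
  have h3 : m * (t a)⁻¹ * m⁻¹ = t a := by
    have : m * (t a)⁻¹ * m⁻¹ = (m * t a * m⁻¹)⁻¹ := by group
    rw [this, h2, inv_inv]
  have e1 : m * ((t a)⁻¹ * w * t a) * m⁻¹ = t a * (m * w * m⁻¹) * (t a)⁻¹ := by
    calc m * ((t a)⁻¹ * w * t a) * m⁻¹ = (m * (t a)⁻¹ * m⁻¹) * (m * w * m⁻¹) * (m * t a * m⁻¹) := by group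
      _ = _ := by rw [h2, h3]
  rw [e1]
  calc t a * (m * w * m⁻¹) * (t a)⁻¹ * (t a * x * (t a)⁻¹) * (t a * (m * w * m⁻¹) * (t a)⁻¹)⁻¹ *
      (t a * x * (t a)⁻¹)⁻¹ = t a * (m * w * m⁻¹ * x * (m * w * m⁻¹)⁻¹ * x⁻¹) * (t a)⁻¹ := by group
    _ = (t a * vv r s' * (t a)⁻¹) * (t a * ψ * (t a)⁻¹) := by rw [e]; group
    _ = _ := by rw [h1, τ.act a r s' ha]

omit sw in
theorem W0_tor {w : G} (hw : w ∈ W0 V R i P) {a : F} (ha : a ≠ 0) : t a * w * (t a)⁻¹ ∈ W0 V R i P := by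
  refine mem_inf.2 ⟨conj_mem_of_normalizer (normalizer_le_WW V (R i) (τ.normR ha)) hw.1, ?_⟩
  exact conj_mem_of_normalizer (normalizer_le_normalizer_centralizer _ (s.t_norm_WN b τ ha)) hw.2

/-- the hypothesis of linearity: the `R_i`-part of `[m w m⁻¹, x]` is `F`-linear in `x ∈ V'` -/
def Lin (V : Subgroup G) (R : ι → Subgroup G) (i : ι) (P : Subgroup G) (vv : F → F → G) (m p' : G) : Prop :=
  ∀ w ∈ W0 V R i P, ∃ κ : F, ∀ y z r s', KX V R P vv m w (p' * vv y z * p'⁻¹) r s' → r = z * κ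

/-- **(K2)** -/
theorem key_zero (hF : ∃ a : F, a ≠ 0 ∧ a ≠ 1) (lin : Lin V R i P vv m p') {w x : G} (hw : w ∈ W0 V R i P)
    (hx : x ∈ cj p' V) {r s' : F} (h : KX V R P vv m w x r s') : r = 0 := by
  have h2F : ∀ x : F, x + x = 0 := Cfsg.Agent.Omega.Lie.TorD.two b.toBT τ
  choose κ hκ using lin
  have hx01 : p' * vv 0 1 * p'⁻¹ ∈ cj p' V := (s.mem_line τ).2 ⟨0, 1, rfl⟩
  -- `κ (t w t⁻¹) = κ w`
  have k1 : ∀ w (hw : w ∈ W0 V R i P) a (ha : a ≠ 0), κ _ (s.W0_tor b τ hw ha) = κ w hw := by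
    intro w hw a ha
    obtain ⟨r, s', h⟩ := s.kx b τ sw hw hx01
    have h1 := s.KX_tor b τ sw (inv_ne_zero ha) h
    rw [s.sc _ _ _ (inv_ne_zero ha), τ.inv ha, inv_inv] at h1
    have h2 := hκ _ (s.W0_tor b τ hw ha) _ _ _ _ h1
    have h3 := hκ w hw _ _ _ _ h
    rw [one_mul] at h3
    rw [mul_one] at h2
    rw [← h3]
    exact (mul_left_cancel₀ (inv_ne_zero ha) h2).symm
  have k2 : ∀ w w' (hw : w ∈ W0 V R i P) (hw' : w' ∈ W0 V R i P), κ _ (mul_mem hw hw') = κ w hw + κ w' hw' := by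
    intro w w' hw hw'
    obtain ⟨r, s', h⟩ := s.kx b τ sw hw hx01
    obtain ⟨r₂, s₂, h'⟩ := s.kx b τ sw hw' hx01
    have h1 := hκ _ (mul_mem hw hw') _ _ _ _ (s.KX_mul b τ sw hw h h')
    have h3 := hκ w hw _ _ _ _ h
    have h4 := hκ w' hw' _ _ _ _ h'
    rw [one_mul] at h1 h3 h4
    rw [← h1, h3, h4]
  have k3 : ∀ d (hd : d ∈ W0 V R i P), d ∈ DD V R → κ d hd = 0 := by
    intro d hd hdD
    have h1 : KX V R P vv m d (p' * vv 0 1 * p'⁻¹) 0 0 := by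
      refine ⟨1, one_mem _, ?_⟩
      have h2 := b.XD sw.mX hdD
      set x := p' * vv 0 1 * p'⁻¹ with hx
      have h3 := mem_centralizer_iff.1 (UU_le_cen i (s.leU hx01)) _ h2
      have h4 := W0_comm hd (line_le_WN s.mem hx01)
      have e3 : m * d * m⁻¹ = (m * d * m⁻¹ * d⁻¹) * d := by group
      have h5 : (m * d * m⁻¹) * x = x * (m * d * m⁻¹) := by
        rw [e3]
        calc (m * d * m⁻¹ * d⁻¹) * d * x = (m * d * m⁻¹ * d⁻¹) * (d * x) := by group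
          _ = ((m * d * m⁻¹ * d⁻¹) * x) * d := by rw [h4]; group
          _ = x * ((m * d * m⁻¹ * d⁻¹) * d) := by rw [h3]; group
      rw [h5, v_zero τ]
      group
    have h2 := hκ d hd _ _ _ _ h1
    rw [one_mul] at h2
    exact h2.symm
  -- `κ w = 0`
  obtain ⟨a, ha, ha1⟩ := hF
  have ha1' : a + 1 ≠ 0 := by
    intro h1
    apply ha1
    calc a = a + (1 + 1) := by rw [h2F, add_zero]
      _ = (a + 1) + 1 := by ring
      _ = 1 := by rw [h1, zero_add]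
  have h3 := τ.wU a 1 ha one_ne_zero ha1' w (W0_le_U hw)
  rw [τ.one, one_mul, inv_one, mul_one] at h3
  set d := t (a + 1) * w * (t (a + 1))⁻¹ * (t a * w * (t a)⁻¹ * w)⁻¹ with hd
  have hd0 : d ∈ W0 V R i P := mul_mem (s.W0_tor b τ hw ha1') (inv_mem (mul_mem (s.W0_tor b τ hw ha) hw))
  have h4 := k2 d _ hd0 (mul_mem (s.W0_tor b τ hw ha) hw)
  have h5 := k2 _ _ (s.W0_tor b τ hw ha) hw
  have e1 : d * (t a * w * (t a)⁻¹ * w) = t (a + 1) * w * (t (a + 1))⁻¹ := by rw [hd]; group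
  have h6 : κ _ (mul_mem hd0 (mul_mem (s.W0_tor b τ hw ha) hw)) = κ _ (s.W0_tor b τ hw ha1') := by
    congr 1
  rw [h6, k1 w hw _ ha1', k3 d hd0 h3, h5, k1 w hw _ ha, h2F, add_zero] at h4
  obtain ⟨y, z, rfl⟩ := (s.mem_line τ).1 hx
  rw [hκ w hw _ _ _ _ h, h4, mul_zero]

/-- **(KEY)**: `[w, m⁻¹ x m] ∈ R_i Ψ` for `w ∈ W0`, `x ∈ V'` -/
theorem key (hF : ∃ a : F, a ≠ 0 ∧ a ≠ 1) (lin : Lin V R i P vv m p') {w x : G} (hw : w ∈ W0 V R i P)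
    (hx : x ∈ cj p' V) : ∃ a ∈ R i, ∃ ψ ∈ Psi V R P, w * (m⁻¹ * x * m) * w⁻¹ * (m⁻¹ * x * m)⁻¹ = a * ψ := by
  obtain ⟨r, s', h⟩ := s.kx b τ sw hw hx
  have h0 := s.key_zero b τ sw hF lin hw hx h
  subst h0
  obtain ⟨ψ, hψ, e⟩ := h
  refine ⟨m⁻¹ * vv 0 s' * m, ?_, ψ, hψ, ?_⟩
  · have h1 : cj m⁻¹ (R j) = R i := by rw [← sw.m1, cj_inv_cj]
    have h2 := h1.le (conj_mem_cj ((τ.Rj _).2 ⟨s', rfl⟩))
    rwa [inv_inv] at h2
  · have h1 : m⁻¹ * ψ * m = ψ := by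
      have h2 := mem_centralizer_iff.1 (Psi_le_CenX hψ) m sw.mX
      rw [mul_assoc, ← h2]; group
    calc w * (m⁻¹ * x * m) * w⁻¹ * (m⁻¹ * x * m)⁻¹ =
        m⁻¹ * ((m * w * m⁻¹) * x * (m * w * m⁻¹)⁻¹ * x⁻¹) * m := by group
      _ = (m⁻¹ * vv 0 s' * m) * (m⁻¹ * ψ * m) := by rw [e]; group
      _ = _ := by rw [h1]

end Sc

end Cfsg.Agent.Omega.HOneQ
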