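import Cfsg.Agent.Omega.HOneQ.ResP

/-!
# II.0h1, split, `q ≥ 4`: (L3), (L) of #15939

Input `H4 : p y p⁻¹ y⁻¹ ∈ W_N Z_i` (`p ∈ P_W`, `y ∈ V_2'`; output of ResQ).

`Sh V R P = ⟨Σ^P⟩`, `Σ = S0 V R P = ⟨W_N^X⟩`, is elementary abelian (`Sh_comm`, `Sh_sq`), normalised by `X` and `P`
(`X_norm_Sh`, `P_norm_Sh`, `norm_Sh`), `Sh ≤ Σ C_X` (`Sh_le`, `Sh_fact`), `Sh ∩ C(W_i) = R_i (Sh ∩ C_X)` (`Sh_C`),
`Sh ∩ Q_i = W_N (Sh ∩ C_X)` (`Sh_Q`), `Sh ∩ C_X` is centralised by `⟨U_j^P⟩` (`Sh_cen_U`).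
-/

set_option autoImplicit false
set_option linter.unusedSectionVars false

namespace Cfsg.Agent.Omega.HOneQ

open Subgroup Cfsg.Agent.Omega.BTwo
open Cfsg.Agent.Omega.Lie (TorD)
open scoped Pointwise

universe u v w

variable {G : Type u} [Group G] {ι : Type w} {V : Subgroup G} {R : ι → Subgroup G} {i j : ι} {P : Subgroup G}
  {F : Type v} [Field F] {vv : F → F → G} {t : F → G} {w1 w2 : F → G}

theorem mem_sup_of_norm {A B : Subgroup G} (h : B ≤ normalizer (A : Set G)) {x : G} (hx : x ∈ A ⊔ B) :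
    ∃ a ∈ A, ∃ b ∈ B, x = a * b := by
  have h1 := coe_mul_of_right_le_normalizer_left A B h
  have h2 : x ∈ ((A ⊔ B : Subgroup G) : Set G) := hx
  rw [h1] at h2
  obtain ⟨a, ha, b, hb, e⟩ := h2
  exact ⟨a, ha, b, hb, e.symm⟩

/-- the lift of a commutator condition along the generators of a subgroup -/
theorem comm_sup {A B L : Subgroup G} {p : G} (hBL : B ≤ L) (hAL : ∀ a ∈ A, ∀ b ∈ L, a * b * a⁻¹ ∈ L)
    (h1 : ∀ a ∈ A, p * a * p⁻¹ * a⁻¹ ∈ L) (h2 : ∀ b ∈ B, p * b * p⁻¹ * b⁻¹ ∈ L) {a b : G} (ha : a ∈ A) (hb : b ∈ B) :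
    p * (a * b) * p⁻¹ * (a * b)⁻¹ ∈ L := by
  have _ := hBL
  rw [show p * (a * b) * p⁻¹ * (a * b)⁻¹ = (p * a * p⁻¹ * a⁻¹) * (a * (p * b * p⁻¹ * b⁻¹) * a⁻¹) by group]
  exact mul_mem (h1 a ha) (hAL a ha _ (h2 b hb))

/-- `⟨Σ^P⟩` -/
def Sh (V : Subgroup G) (R : ι → Subgroup G) (P : Subgroup G) : Subgroup G := ⨆ p : P, cj (p : G) (S0 V R P)

/-- `C_** = ⟨(R_i C_X)^P⟩` -/
def Cs (V : Subgroup G) (R : ι → Subgroup G) (i : ι) (P : Subgroup G) : Subgroup G :=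
  ⨆ p : P, cj (p : G) (R i ⊔ CenX V R)

theorem cj_S0_le_Sh {p : G} (hp : p ∈ P) : cj p (S0 V R P) ≤ Sh V R P :=
  le_iSup (fun p : P => cj (p : G) (S0 V R P)) ⟨p, hp⟩

theorem S0_le_Sh : S0 V R P ≤ Sh V R P := by
  have := cj_S0_le_Sh (V := V) (R := R) (one_mem P)
  rwa [cj_one] at this

theorem cj_le_Cs {p : G} (hp : p ∈ P) : cj p (R i ⊔ CenX V R) ≤ Cs V R i P :=
  le_iSup (fun p : P => cj (p : G) (R i ⊔ CenX V R)) ⟨p, hp⟩

theorem le_Cs : R i ⊔ CenX V R ≤ Cs V R i P := by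
  have := cj_le_Cs (V := V) (R := R) (i := i) (one_mem P)
  rwa [cj_one] at this

theorem P_norm_iSup (K : Subgroup G) : P ≤ normalizer ((⨆ p : P, cj (p : G) K : Subgroup G) : Set G) := by
  intro g hg
  have key : ∀ g ∈ P, cj g (⨆ p : P, cj (p : G) K) ≤ ⨆ p : P, cj (p : G) K := by
    intro g hg
    rw [cj_iSup]
    refine iSup_le fun p => ?_
    rw [← cj_mul]
    exact le_iSup (fun p : P => cj (p : G) K) ⟨g * p, mul_mem hg p.2⟩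
  rw [← cj_eq_self_iff]
  apply le_antisymm (key g hg)
  have := cj_mono (g := g) (key g⁻¹ (inv_mem hg))
  rwa [cj_cj_inv] at this

theorem P_norm_Sh : P ≤ normalizer (Sh V R P : Set G) := P_norm_iSup _

theorem P_norm_Cs : P ≤ normalizer (Cs V R i P : Set G) := P_norm_iSup _

/-- the elements of `N(V) ∩ N(P)` normalise `Sh` -/
theorem norm_Sh (b : BT V R) {g : G} (hP : g ∈ normalizer (P : Set G)) (hV : g ∈ normalizer (V : Set G)) :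
    g ∈ normalizer (Sh V R P : Set G) := by
  have key : ∀ g : G, g ∈ normalizer (P : Set G) → g ∈ normalizer (V : Set G) → cj g (Sh V R P) ≤ Sh V R P := by
    intro g hP hV
    rw [Sh, cj_iSup]
    refine iSup_le fun p => ?_
    have e : cj g (cj (p : G) (S0 V R P)) = cj (g * p * g⁻¹) (S0 V R P) := by
      have e1 : g * (p : G) = g * p * g⁻¹ * g := by group
      calc cj g (cj (p : G) (S0 V R P)) = cj (g * p) (S0 V R P) := (cj_mul _ _ _).symm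
        _ = cj (g * p * g⁻¹) (cj g (S0 V R P)) := by rw [← cj_mul, ← e1]
        _ = _ := by rw [cj_eq_self_iff.2 (S0_norm (b.NV_le_NX hV) (norm_WN hP hV))]
    rw [e]
    exact cj_S0_le_Sh (conj_mem_of_normalizer hP p.2)
  rw [← cj_eq_self_iff]
  apply le_antisymm (key g hP hV)
  have := cj_mono (g := g) (key g⁻¹ (inv_mem hP) (inv_mem hV))
  rwa [cj_cj_inv] at this

namespace Nd

variable (n : Nd V R i j P)
include n

theorem Cs_le (b : BT V R) : Cs V R i P ≤ centralizer (WW V (R i) : Set G) := by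
  refine iSup_le fun p => ?_
  rw [← n.cj_W p.2, centralizer_cj]
  exact cj_mono (sup_le (b.R_cen_W i) (cen_X_le i))

/-- `[Z_i, P_W] ≤ C_**` -/
theorem Z_Cs (b : BTS V R) {p z : G} (hp : p ∈ PW V R i P) (hz : z ∈ ZZ V R i) :
    p * z * p⁻¹ * z⁻¹ ∈ Cs V R i P := by
  have hPN := n.P_le_N
  let H : Subgroup G :=
    { carrier := {p | p ∈ P ∧ ∀ x ∈ ZZ V R i, p * x * p⁻¹ * x⁻¹ ∈ Cs V R i P}
      one_mem' := ⟨one_mem _, fun x _ => by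
        rw [show (1 : G) * x * 1⁻¹ * x⁻¹ = 1 by group]; exact one_mem _⟩
      mul_mem' := by
        rintro p p' ⟨hp, h⟩ ⟨hp', h'⟩
        refine ⟨mul_mem hp hp', fun x hx => ?_⟩
        rw [show p * p' * x * (p * p')⁻¹ * x⁻¹ = (p * (p' * x * p'⁻¹ * x⁻¹) * p⁻¹) * (p * x * p⁻¹ * x⁻¹) by group]
        exact mul_mem (conj_mem_of_normalizer (P_norm_Cs hp) (h' x hx)) (h x hx)
      inv_mem' := by
        rintro p ⟨hp, h⟩
        refine ⟨inv_mem hp, fun x hx => ?_⟩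
        rw [show p⁻¹ * x * p⁻¹⁻¹ * x⁻¹ = p⁻¹ * (p * x * p⁻¹ * x⁻¹)⁻¹ * p by group]
        exact conj_inv_mem_of_normalizer (P_norm_Cs hp) (inv_mem (h x hx)) }
  have hH : PW V R i P ≤ H := by
    refine n.PW_ind b.toBT H ?_ ?_
    · rw [b.Y_eq n.hij]
      have h1 : ∀ w ∈ WW V (R i), w ∈ H := fun w hw => ⟨n.QP (b.W_le_Q i hw), fun x hx => by
        rw [← z_comm hx hw, mul_inv_cancel_right, mul_inv_cancel]
        exact one_mem _⟩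
      refine sup_le (sup_le (fun u hu => h1 u (UU_le_WW i hu)) fun u hu => ⟨n.UP hu, fun x hx => ?_⟩) h1
      obtain ⟨a, ha, h2⟩ := BTS.EE_cen b n.hij hx.2 hu
      have h3 : x * u * x⁻¹ * u⁻¹ ∈ Cs V R i P := by
        have e : x * u * x⁻¹ * u⁻¹ = a⁻¹ * (a * (x * u * x⁻¹ * u⁻¹)) := by group
        rw [e]
        exact le_Cs (mul_mem ((le_sup_left : R i ≤ _) (inv_mem ha)) ((le_sup_right : CenX V R ≤ _) h2.2))
      rw [show u * x * u⁻¹ * x⁻¹ = (x * u * x⁻¹ * u⁻¹)⁻¹ by group]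
      exact inv_mem h3
    · rintro q hq h ⟨hh, h1⟩ -
      have hqP := n.PW_le b.toBT hq
      refine ⟨mul_mem (mul_mem hqP hh) (inv_mem hqP), fun x hx => ?_⟩
      have h2 := h1 _ (conj_mem_of_normalizer (N_le_NZ i (hPN (inv_mem hqP))) hx)
      have h3 := conj_mem_of_normalizer (P_norm_Cs hqP) h2
      rwa [show q * (h * (q⁻¹ * x * q⁻¹⁻¹) * h⁻¹ * (q⁻¹ * x * q⁻¹⁻¹)⁻¹) * q⁻¹ =
        q * h * q⁻¹ * x * (q * h * q⁻¹)⁻¹ * x⁻¹ by group] at h3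
  exact (hH hp).2 z hz

/-- `C_** = R_i C_X C_X^{p₀}` -/
theorem Cs_eq (b : BTS V R) {p0 : G} (hp0 : p0 ∈ P) (hne : cj p0 V ≠ V) :
    Cs V R i P ≤ R i ⊔ CenX V R ⊔ cj p0 (CenX V R) := by
  refine iSup_le fun p => ?_
  have hR : cj (p : G) (R i) = R i := n.cj_R p.2
  rw [cj_sup, hR]
  refine sup_le (le_sup_left.trans le_sup_left) ?_
  by_cases hV : cj (p : G) V = V
  · rw [cj_eq_self_iff.2 (BT.NV_le_NCenX b.toBT (cj_eq_self_iff.1 hV))]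
    exact le_sup_right.trans le_sup_left
  obtain ⟨u, hu, e⟩ := n.trans p0 hp0 hne p p.2 hV
  have h1 : (u * p0)⁻¹ * (p : G) ∈ normalizer (V : Set G) := by
    rw [← cj_eq_self_iff, cj_mul, ← e, ← cj_mul u, cj_inv_cj]
  have h2 : cj (p : G) (CenX V R) = cj u (cj p0 (CenX V R)) := by
    have e1 : (p : G) = u * (p0 * ((u * p0)⁻¹ * p)) := by group
    conv_lhs => rw [e1]
    rw [cj_mul, cj_mul, cj_eq_self_iff.2 (BT.NV_le_NCenX b.toBT h1)]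
  rw [h2, cj_le_iff]
  intro k hk
  have hkC : k ∈ centralizer (WW V (R i) : Set G) := by
    rw [← n.cj_W hp0, centralizer_cj]
    exact cj_mono (cen_X_le i) hk
  obtain ⟨a, ha, h3⟩ := BTS.EE_cen b n.hij hkC hu
  have h4 : k * u * k⁻¹ * u⁻¹ ∈ R i ⊔ CenX V R := by
    have e : k * u * k⁻¹ * u⁻¹ = a⁻¹ * (a * (k * u * k⁻¹ * u⁻¹)) := by group
    rw [e]
    exact mul_mem ((le_sup_left : R i ≤ _) (inv_mem ha)) ((le_sup_right : CenX V R ≤ _) h3.2)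
  have e : u * k * u⁻¹ = (k * u * k⁻¹ * u⁻¹)⁻¹ * k := by group
  rw [e]
  exact mul_mem ((le_sup_left : R i ⊔ CenX V R ≤ _) (inv_mem h4)) ((le_sup_right : cj p0 (CenX V R) ≤ _) hk)

/-- an element of `P_W` interchanging two lines -/
theorem exists_swap (b : BT V R) {p' : G} (hp' : p' ∈ P) :
    ∃ g ∈ PW V R i P, cj g V = cj p' V ∧ cj g (cj p' V) = V := by
  obtain ⟨c, hc, h1, h2⟩ : ∃ c ∈ P, cj c V ≠ V ∧ cj p' V ≠ cj c V := by
    obtain ⟨a, ha, a', ha', -, -, h1, h2, -, h12, -, -⟩ := n.four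
    by_cases h : cj p' V = cj a V
    · exact ⟨a', ha', h2, by rw [h]; exact h12⟩
    · exact ⟨a, ha, h1, h⟩
  obtain ⟨u, hu, e⟩ := n.trans' (one_mem P) hp' hc (by rw [cj_one]; exact Ne.symm h1) h2
  rw [cj_one] at e
  have hg : c * u * c⁻¹ ∈ PW V R i P := cj_YW_le hc (conj_mem_cj ((le_sup_left : YY V R ≤ _) (UU_le_YY j hu)))
  refine ⟨_, hg, e, ?_⟩
  rw [← e, ← cj_mul, cj_eq_self_iff]
  have h3 : c * u * c⁻¹ * (c * u * c⁻¹) ∈ WW V (R i) := by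
    have h4 : c * u * c⁻¹ * (c * u * c⁻¹) = c * (u * u) * c⁻¹ := by group
    rw [h4]
    exact n.line_le hc (conj_mem_cj (b.R_le j (b.W_sq j (UU_le_WW j hu))))
  exact b.W_le_NV i h3

end Nd

namespace Sc

variable {p' : G} (s : Sc V R i j vv t P p') (b : BTS V R) (τ : TorD V R i j vv t) {m : G} (sw : Sw V R i j t m)
  (c : Coord V R i j vv w1 w2) {E : Type u} [AddCommGroup E] [Module F E] {P1 P2 : G → E}
  (y : YPair V R i j w1 w2 E P1 P2)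
include s b τ

theorem t_line {a : F} (ha : a ≠ 0) : cj (t a) (cj p' V) = cj p' V := by
  have key : ∀ a, a ≠ 0 → cj (t a) (cj p' V) ≤ cj p' V := by
    intro a ha
    rw [cj_le_iff]
    intro x hx
    obtain ⟨y1, y2, rfl⟩ := (s.mem_line τ).1 hx
    rw [s.sc a _ _ ha]
    exact (s.mem_line τ).2 ⟨_, _, rfl⟩
  apply le_antisymm (key a ha)
  have h := cj_mono (g := t a) (key a⁻¹ (inv_ne_zero ha))
  rwa [τ.inv ha, cj_cj_inv] at h

include sw c y in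
/-- **(E1)**: `[y, P_W] ≤ W_N C_**`, `y ∈ V_2'` -/
theorem e1 (hF : ∃ a : F, a ≠ 0 ∧ a ≠ 1) (hXV : XX V R ⊓ centralizer (V : Set G) ≤ YY V R)
    (hK2 : ∀ w ∈ WW V (R i), ∀ x ∈ cj p' V, ∃ n ∈ WN V P, ∃ z ∈ ZZ V R i,
      w * (m⁻¹ * x * m) * w⁻¹ * (m⁻¹ * x * m)⁻¹ = n * z)
    (H4 : ∀ p ∈ PW V R i P, ∀ x ∈ cj p' V, ∃ n ∈ WN V P, ∃ z ∈ ZZ V R i,
      p * (m⁻¹ * x * m) * p⁻¹ * (m⁻¹ * x * m)⁻¹ = n * z)
    {p x : G} (hp : p ∈ PW V R i P) (hx : x ∈ cj p' V) :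
    p * (m⁻¹ * x * m) * p⁻¹ * (m⁻¹ * x * m)⁻¹ ∈ WN V P ⊔ Cs V R i P := by
  have hPWP := s.PW_le b.toBT
  have hWC : ∀ w ∈ WW V (R i), ∀ k ∈ Cs V R i P, w * k = k * w := fun w hw k hk =>
    mem_centralizer_iff.1 (s.Cs_le b.toBT hk) w hw
  -- `W_i` normalises `L`
  have hWL : ∀ w ∈ WW V (R i), w ∈ normalizer ((WN V P ⊔ Cs V R i P : Subgroup G) : Set G) := by
    intro w hw
    rw [← cj_eq_self_iff, cj_sup, cj_eq_self_iff.2 (P_norm_WN (s.QP (b.W_le_Q i hw))),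
      cj_eq_self_iff.2 (P_norm_Cs (s.QP (b.W_le_Q i hw)))]
  have hPL : ∀ p ∈ P, p ∈ normalizer ((WN V P ⊔ Cs V R i P : Subgroup G) : Set G) := by
    intro p hp
    rw [← cj_eq_self_iff, cj_sup, cj_eq_self_iff.2 (P_norm_WN hp), cj_eq_self_iff.2 (P_norm_Cs hp)]
  have hKW : WN V P ⊔ ZZ V R i ≤ WW V (R i) := sup_le s.WN_le_W inf_le_left
  have hZW : ZZ V R i ≤ normalizer (WN V P : Set G) := fun z hz => P_norm_WN (s.QP (b.W_le_Q i hz.1))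
  have hy := conj_U' b sw (s.leU hx)
  refine kernel (K := WN V P ⊔ ZZ V R i) (s.PW_ind b.toBT) YW_le_PW (fun p hp => hPL p (hPWP hp))
    (fun k hk => hWL k (hKW hk)) ?_ ?_ ?_ p hp
  · intro p hp k hk
    obtain ⟨n, hn, z, hz, rfl⟩ := mem_sup_of_norm hZW hk
    rw [show p * (n * z) * p⁻¹ * (n * z)⁻¹ = (p * n * p⁻¹ * n⁻¹) * (n * (p * z * p⁻¹ * z⁻¹) * n⁻¹) by group]
    refine mul_mem ((le_sup_left : WN V P ≤ _) (mul_mem (conj_mem_of_normalizer (P_norm_WN (hPWP hp)) hn)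
      (inv_mem hn))) ?_
    exact conj_mem_of_normalizer (hWL n (s.WN_le_W hn)) ((le_sup_right : Cs V R i P ≤ _) (s.Z_Cs b hp hz))
  · intro p hp
    obtain ⟨n, hn, z, hz, e⟩ := H4 p hp x hx
    rw [e]
    exact mul_mem ((le_sup_left : WN V P ≤ _) hn) ((le_sup_right : ZZ V R i ≤ _) hz)
  · intro g hg
    have hgX : g ∈ XX V R := (sup_le YY_le_XX (W_le_X V R i) : YY V R ⊔ WW V (R i) ≤ _) hg
    have hyS : m⁻¹ * x * m ∈ S0 V R P := by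
      have h := cj_WN_le_S0 (V := V) (R := R) (P := P) (inv_mem sw.mX) (conj_mem_cj (line_le_WN s.mem hx))
      rwa [inv_inv] at h
    have h1 : g * (m⁻¹ * x * m) * g⁻¹ * (m⁻¹ * x * m)⁻¹ ∈ S0 V R P :=
      mul_mem (conj_mem_of_normalizer (X_norm_S0 hgX) hyS) (inv_mem hyS)
    obtain ⟨n, hn, z, hz, e⟩ := H4 g (YW_le_PW hg) x hx
    have h2 : g * (m⁻¹ * x * m) * g⁻¹ * (m⁻¹ * x * m)⁻¹ ∈ QQ (R i) := by
      rw [e]
      exact b.W_le_Q i (mul_mem (s.WN_le_W hn) hz.1)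
    obtain ⟨n', hn', ψ, hψ, e'⟩ := s.S0_Q b τ sw c y hF hXV hK2 h1 h2
    rw [e']
    exact mul_mem ((le_sup_left : WN V P ≤ _) hn') ((le_sup_right : Cs V R i P ≤ _)
      (le_Cs ((le_sup_right : CenX V R ≤ _) hψ.2.2)))

include sw c y in
/-- **(L3)**: `Σ^p ≤ Σ C_X` -/
theorem cj_S0_le (hF : ∃ a : F, a ≠ 0 ∧ a ≠ 1) (hXV : XX V R ⊓ centralizer (V : Set G) ≤ YY V R)
    (hK2 : ∀ w ∈ WW V (R i), ∀ x ∈ cj p' V, ∃ n ∈ WN V P, ∃ z ∈ ZZ V R i,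
      w * (m⁻¹ * x * m) * w⁻¹ * (m⁻¹ * x * m)⁻¹ = n * z)
    (H4 : ∀ p ∈ PW V R i P, ∀ x ∈ cj p' V, ∃ n ∈ WN V P, ∃ z ∈ ZZ V R i,
      p * (m⁻¹ * x * m) * p⁻¹ * (m⁻¹ * x * m)⁻¹ = n * z)
    {p : G} (hp : p ∈ P) : cj p (S0 V R P) ≤ S0 V R P ⊔ CenX V R := by
  have hXA : ∀ x ∈ XX V R, x ∈ normalizer ((S0 V R P ⊔ CenX V R : Subgroup G) : Set G) := by
    intro x hx
    rw [← cj_eq_self_iff, cj_sup, cj_eq_self_iff.2 (X_norm_S0 hx),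
      cj_eq_self_iff.2 (BT.NV_le_NCenX b.toBT (b.X_le_NV hx))]
  by_cases hV : cj p V = V
  · rw [cj_eq_self_iff.2 (S0_norm (b.NV_le_NX (cj_eq_self_iff.1 hV)) (P_norm_WN hp))]
    exact le_sup_left
  obtain ⟨p0, hp0, e1, e2⟩ := s.exists_swap b.toBT s.mem
  have hp0P := s.PW_le b.toBT hp0
  have hne : cj p0 V ≠ V := by rw [e1]; exact s.ne
  -- `V_2'^{p₀} ≤ Σ C_X`
  have key : ∀ x ∈ cj p' V, p0 * (m⁻¹ * x * m) * p0⁻¹ ∈ S0 V R P ⊔ CenX V R := by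
    intro x hx
    obtain ⟨y1, y2, rfl⟩ := (s.mem_line τ).1 hx
    obtain ⟨a, ha, ha1⟩ := hF
    have hF : ∃ a : F, a ≠ 0 ∧ a ≠ 1 := ⟨a, ha, ha1⟩
    -- `x = [x', ·]`
    have hr : a⁻¹ - 1 ≠ 0 := fun h => ha1 (inv_eq_one.1 (sub_eq_zero.1 h))
    set x' := p' * vv ((a⁻¹ - 1)⁻¹ * y1) ((a⁻¹ - 1)⁻¹ * y2) * p'⁻¹ with hx'
    have hx'L : x' ∈ cj p' V := (s.mem_line τ).2 ⟨_, _, rfl⟩
    have h1 := s.e1 b τ sw c y hF hXV hK2 H4 hp0 hx'L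
    -- `p₀ y' p₀⁻¹ ∈ Σ C_X C_X'`
    have hCN : cj p0 (CenX V R) ≤ normalizer ((S0 V R P ⊔ CenX V R : Subgroup G) : Set G) := by
      intro k hk
      have hkC : k ∈ centralizer (WW V (R i) : Set G) := by
        rw [← s.cj_W hp0P, centralizer_cj]
        exact cj_mono (cen_X_le i) hk
      have hkV : k ∈ normalizer (V : Set G) := cen_le_NV V (cen_W_le V (R i) hkC)
      have hkW : k ∈ normalizer (WN V P : Set G) := by
        have h3 : k ∈ centralizer (WN V P : Set G) := centralizer_le s.WN_le_W hkC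
        exact centralizer_le_normalizer _ h3
      rw [← cj_eq_self_iff, cj_sup, cj_eq_self_iff.2 (S0_norm (b.NV_le_NX hkV) hkW),
        cj_eq_self_iff.2 (BT.NV_le_NCenX b.toBT hkV)]
    have hyS : m⁻¹ * x' * m ∈ S0 V R P := by
      have h := cj_WN_le_S0 (V := V) (R := R) (P := P) (inv_mem sw.mX) (conj_mem_cj (line_le_WN s.mem hx'L))
      rwa [inv_inv] at h
    have h2 : p0 * (m⁻¹ * x' * m) * p0⁻¹ ∈ (S0 V R P ⊔ CenX V R) ⊔ cj p0 (CenX V R) := by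
      have e : p0 * (m⁻¹ * x' * m) * p0⁻¹ =
          (p0 * (m⁻¹ * x' * m) * p0⁻¹ * (m⁻¹ * x' * m)⁻¹) * (m⁻¹ * x' * m) := by group
      rw [e]
      refine mul_mem ?_ ((le_sup_left.trans le_sup_left : S0 V R P ≤ _) hyS)
      refine (sup_le (WN_le_S0.trans (le_sup_left.trans le_sup_left)) ?_ :
        WN V P ⊔ Cs V R i P ≤ (S0 V R P ⊔ CenX V R) ⊔ cj p0 (CenX V R)) h1
      refine (s.Cs_eq b hp0P hne).trans (sup_le_sup_right (sup_le_sup_right ?_ _) _)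
      exact (b.R_le i).trans ((V_le_WN V P).trans WN_le_S0)
    obtain ⟨k1, hk1, k2, hk2, e3⟩ := mem_sup_of_norm hCN h2
    -- the torus `p₀ t p₀⁻¹`
    set τ' := p0 * t a * p0⁻¹ with hτ'
    have hτV : τ' ∈ normalizer (V : Set G) := by
      have h3 : cj p0⁻¹ V = cj p' V := by
        conv_lhs => rw [← e2]
        rw [cj_inv_cj]
      rw [← cj_eq_self_iff]
      calc cj τ' V = cj p0 (cj (t a) (cj p0⁻¹ V)) := by rw [hτ', cj_mul, cj_mul]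
        _ = cj p0 (cj (t a) (cj p' V)) := by rw [h3]
        _ = V := by rw [s.t_line b τ ha, e2]
    have hτP : τ' ∈ normalizer (P : Set G) :=
      mul_mem (mul_mem (le_normalizer hp0P) (s.tP a ha)) (inv_mem (le_normalizer hp0P))
    have hτA : τ' ∈ normalizer ((S0 V R P ⊔ CenX V R : Subgroup G) : Set G) := by
      rw [← cj_eq_self_iff, cj_sup, cj_eq_self_iff.2 (S0_norm (b.NV_le_NX hτV) (norm_WN hτP hτV)),
        cj_eq_self_iff.2 (BT.NV_le_NCenX b.toBT hτV)]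
    have hτk : τ' * k2 = k2 * τ' := by
      obtain ⟨k, hk, rfl⟩ := hk2
      have h3 := mem_centralizer_iff.1 hk (t a) (τ.memX a ha)
      change τ' * (p0 * k * p0⁻¹) = (p0 * k * p0⁻¹) * τ'
      rw [hτ']
      calc p0 * t a * p0⁻¹ * (p0 * k * p0⁻¹) = p0 * (t a * k) * p0⁻¹ := by group
        _ = p0 * (k * t a) * p0⁻¹ := by rw [h3]
        _ = _ := by group
    have h3 : τ' * (k1 * k2) * τ'⁻¹ * (k1 * k2)⁻¹ ∈ S0 V R P ⊔ CenX V R := by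
      have e : τ' * (k1 * k2) * τ'⁻¹ * (k1 * k2)⁻¹ = (τ' * k1 * τ'⁻¹) * k1⁻¹ := by
        calc τ' * (k1 * k2) * τ'⁻¹ * (k1 * k2)⁻¹ = τ' * k1 * τ'⁻¹ * (τ' * k2) * τ'⁻¹ * k2⁻¹ * k1⁻¹ := by group
          _ = _ := by rw [hτk]; group
      rw [e]
      exact mul_mem (conj_mem_of_normalizer hτA hk1) (inv_mem hk1)
    rw [← e3] at h3
    have e4 : τ' * (p0 * (m⁻¹ * x' * m) * p0⁻¹) * τ'⁻¹ * (p0 * (m⁻¹ * x' * m) * p0⁻¹)⁻¹ =
        p0 * (m⁻¹ * ((t a)⁻¹ * x' * t a * x'⁻¹) * m) * p0⁻¹ := by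
      have h5 := m_tor sw ha
      have h6 : t a * m⁻¹ = m⁻¹ * (t a)⁻¹ := h5.symm
      have h7 : m * (t a)⁻¹ = t a * m := by
        calc m * (t a)⁻¹ = (t a * m⁻¹)⁻¹ := by group
          _ = (m⁻¹ * (t a)⁻¹)⁻¹ := by rw [h6]
          _ = _ := by group
      rw [hτ']
      calc p0 * t a * p0⁻¹ * (p0 * (m⁻¹ * x' * m) * p0⁻¹) * (p0 * t a * p0⁻¹)⁻¹ * (p0 * (m⁻¹ * x' * m) * p0⁻¹)⁻¹
          = p0 * ((t a * m⁻¹) * x' * (m * (t a)⁻¹) * (m⁻¹ * x'⁻¹ * m)) * p0⁻¹ := by group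
        _ = p0 * ((m⁻¹ * (t a)⁻¹) * x' * (t a * m) * (m⁻¹ * x'⁻¹ * m)) * p0⁻¹ := by rw [h6, h7]
        _ = _ := by group
    have e5 : (t a)⁻¹ * x' * t a * x'⁻¹ = p' * vv y1 y2 * p'⁻¹ := by
      have h5 := s.sc a⁻¹ ((a⁻¹ - 1)⁻¹ * y1) ((a⁻¹ - 1)⁻¹ * y2) (inv_ne_zero ha)
      rw [τ.inv ha, inv_inv] at h5
      have h6 := s.line_add τ y1 y2 ((a⁻¹ - 1)⁻¹ * y1) ((a⁻¹ - 1)⁻¹ * y2)
      have h7 : ∀ z : F, z + (a⁻¹ - 1)⁻¹ * z = a⁻¹ * ((a⁻¹ - 1)⁻¹ * z) := by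
        intro z
        field_simp
        ring
      rw [h7, h7, ← h5, ← hx'] at h6
      rw [h6]; group
    rw [e4, e5] at h3
    have e6 : p0 * (m⁻¹ * (p' * vv y1 y2 * p'⁻¹) * m) * p0⁻¹ = p0 * (m⁻¹ * (p' * vv y1 y2 * p'⁻¹) * m) * p0⁻¹ := rfl
    exact h3
  -- `Σ^{p₀} ≤ Σ C_X`
  have h0 : cj p0 (S0 V R P) ≤ S0 V R P ⊔ CenX V R := by
    have h1 : S0 V R P ≤ cj p0⁻¹ (S0 V R P ⊔ CenX V R) := by
      refine s.S0_le b τ sw c hXV ?_ ?_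
      · have h2 : WN V P = cj p0⁻¹ (WN V P) := (cj_eq_self_iff.2 (P_norm_WN (inv_mem hp0P))).symm
        rw [h2]
        exact cj_mono (WN_le_S0.trans le_sup_left)
      · intro w hw x hx
        rw [mem_cj, inv_inv]
        have hw' : p0 * w * p0⁻¹ ∈ WW V (R i) :=
          conj_mem_of_normalizer (normalizer_le_WW V (R i) (s.P_le_N hp0P)) hw
        have e : p0 * (w * (m⁻¹ * x * m) * w⁻¹) * p0⁻¹ =
            (p0 * w * p0⁻¹) * (p0 * (m⁻¹ * x * m) * p0⁻¹) * (p0 * w * p0⁻¹)⁻¹ := by group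
        rw [e]
        exact conj_mem_of_normalizer (hXA _ (W_le_X V R i hw')) (key x hx)
    have h2 := cj_mono (g := p0) h1
    rwa [cj_cj_inv] at h2
  obtain ⟨u, hu, e⟩ := s.trans p0 hp0P hne p hp hV
  have h1 : (u * p0)⁻¹ * p ∈ normalizer (V : Set G) := by
    rw [← cj_eq_self_iff, cj_mul, ← e, ← cj_mul u, cj_inv_cj]
  have h2 : (u * p0)⁻¹ * p ∈ P := mul_mem (inv_mem (mul_mem (s.UP hu) hp0P)) hp
  have h3 : cj p (S0 V R P) = cj u (cj p0 (S0 V R P)) := by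
    have e1 : p = u * (p0 * ((u * p0)⁻¹ * p)) := by group
    conv_lhs => rw [e1]
    rw [cj_mul, cj_mul, cj_eq_self_iff.2 (S0_norm (b.NV_le_NX h1) (P_norm_WN h2))]
  rw [h3, ← cj_eq_self_iff.2 (hXA u (YY_le_XX (UU_le_YY j hu)))]
  exact cj_mono h0

end Sc

/-! ### (L): the group `Sh` -/

/-- the facts on `Σ = S0` which give `Sh` -/
structure SigL (V : Subgroup G) (R : ι → Subgroup G) (i j : ι) (P : Subgroup G) : Prop extends Nd V R i j P where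
  le_Y : S0 V R P ≤ YY V R
  comm : ∀ x ∈ S0 V R P, ∀ y ∈ S0 V R P, x * y = y * x
  sq : ∀ x ∈ S0 V R P, x * x = 1
  l3 : ∀ p ∈ P, cj p (S0 V R P) ≤ S0 V R P ⊔ CenX V R
  q : ∀ x ∈ S0 V R P, x ∈ QQ (R i) → ∃ n ∈ WN V P, ∃ ψ ∈ Psi' V R P, x = n * ψ
  z : ∀ x ∈ S0 V R P, x ∈ centralizer (WW V (R i) : Set G) → ∃ a ∈ R i, a * x ∈ Psi' V R P
  dz : ∀ x ∈ S0 V R P, x ∈ Sc.DZ V R i → x ∈ DD V R

theorem Sc.sigL [Finite G] {p' : G} (s : Sc V R i j vv t P p') (b : BTS V R) (τ : TorD V R i j vv t) {m : G}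
    (sw : Sw V R i j t m) (c : Coord V R i j vv w1 w2) {E : Type u} [AddCommGroup E] [Module F E] {P1 P2 : G → E}
    (y : YPair V R i j w1 w2 E P1 P2) (hF : ∃ a : F, a ≠ 0 ∧ a ≠ 1) (lin : Lin V R i P vv m p')
    (hXV : XX V R ⊓ centralizer (V : Set G) ≤ YY V R)
    (hK2 : ∀ w ∈ WW V (R i), ∀ x ∈ cj p' V, ∃ n ∈ WN V P, ∃ z ∈ ZZ V R i,
      w * (m⁻¹ * x * m) * w⁻¹ * (m⁻¹ * x * m)⁻¹ = n * z)
    (H4 : ∀ p ∈ PW V R i P, ∀ x ∈ cj p' V, ∃ n ∈ WN V P, ∃ z ∈ ZZ V R i,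
      p * (m⁻¹ * x * m) * p⁻¹ * (m⁻¹ * x * m)⁻¹ = n * z) : SigL V R i j P where
  toNd := s.toNd
  le_Y := s.S0_le_Y b
  comm := fun _ hx _ hy => s.S0_comm b τ sw c hF lin hXV hx hy
  sq := fun _ hx => s.S0_sq b τ sw c hF lin hXV hx
  l3 := fun _ hp => s.cj_S0_le b τ sw c y hF hXV hK2 H4 hp
  q := fun _ hx hQ => s.S0_Q b τ sw c y hF hXV hK2 hx hQ
  z := fun _ hx hC => s.S0_C b τ sw c y hF hXV hK2 hx hC
  dz := fun _ hx hz => s.S0_DZ b τ c y hF hx hz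

namespace SigL

variable (L : SigL V R i j P)
include L

theorem le_X : S0 V R P ≤ XX V R := L.le_Y.trans YY_le_XX

/-- `Sh ≤ Σ C_X` -/
theorem Sh_le : Sh V R P ≤ S0 V R P ⊔ CenX V R := iSup_le fun p => L.l3 p p.2

theorem Sh_fact {x : G} (hx : x ∈ Sh V R P) : ∃ σ ∈ S0 V R P, ∃ k ∈ Sh V R P ⊓ CenX V R, x = σ * k := by
  have hN : CenX V R ≤ normalizer (S0 V R P : Set G) :=
    (centralizer_le L.le_X).trans (centralizer_le_normalizer _)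
  obtain ⟨σ, hσ, k, hk, rfl⟩ := mem_sup_of_norm hN (L.Sh_le hx)
  have hσ' : σ⁻¹ ∈ Sh V R P := inv_mem (S0_le_Sh hσ)
  have h1 : k ∈ Sh V R P := by
    have e : k = σ⁻¹ * (σ * k) := by group
    rw [e]
    exact mul_mem hσ' hx
  exact ⟨σ, hσ, k, mem_inf.2 ⟨h1, hk⟩, rfl⟩

/-- `X` normalises `Sh` -/
theorem X_norm : XX V R ≤ normalizer (Sh V R P : Set G) := by
  refine le_normalizer_of fun x hx g hg => ?_
  obtain ⟨σ, hσ, k, hk, rfl⟩ := L.Sh_fact hg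
  have h1 := mem_centralizer_iff.1 hk.2 x hx
  have e : x * (σ * k) * x⁻¹ = (x * σ * x⁻¹) * k := by
    calc x * (σ * k) * x⁻¹ = x * σ * x⁻¹ * (x * k) * x⁻¹ := by group
      _ = _ := by rw [h1]; group
  rw [e]
  exact mul_mem (S0_le_Sh (conj_mem_of_normalizer (X_norm_S0 hx) hσ)) hk.1

/-- `Σ` is centralised by `Sh` -/
theorem comm1 {x g : G} (hx : x ∈ S0 V R P) (hg : g ∈ Sh V R P) : x * g = g * x := by
  obtain ⟨σ, hσ, k, hk, rfl⟩ := L.Sh_fact hg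
  have h1 := mem_centralizer_iff.1 hk.2 x (L.le_X hx)
  have h2 := L.comm x hx σ hσ
  calc x * (σ * k) = (x * σ) * k := by group
    _ = σ * (x * k) := by rw [h2]; group
    _ = _ := by rw [h1]; group

/-- `Sh` is abelian -/
theorem Sh_comm {x g : G} (hx : x ∈ Sh V R P) (hg : g ∈ Sh V R P) : x * g = g * x := by
  have h1 : Sh V R P ≤ centralizer (Sh V R P : Set G) := by
    refine iSup_le fun p => ?_
    rw [cj_le_iff]
    intro y hy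
    rw [mem_centralizer_iff]
    intro z hz
    have h2 : (p : G)⁻¹ * z * p ∈ Sh V R P := conj_inv_mem_of_normalizer (P_norm_Sh p.2) hz
    have h3 := L.comm1 hy h2
    calc z * ((p : G) * y * (p : G)⁻¹) = p * (((p : G)⁻¹ * z * p) * y) * (p : G)⁻¹ := by group
      _ = p * (y * ((p : G)⁻¹ * z * p)) * (p : G)⁻¹ := by rw [h3]
      _ = _ := by group
  exact (mem_centralizer_iff.1 (h1 hx) g hg).symm

/-- `Sh` has exponent 2 -/
theorem Sh_sq {x : G} (hx : x ∈ Sh V R P) : x * x = 1 := by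
  let T : Subgroup G :=
    { carrier := {x | x ∈ Sh V R P ∧ x * x = 1}
      one_mem' := ⟨one_mem _, by rw [one_mul]⟩
      mul_mem' := by
        rintro x y ⟨hx, hx'⟩ ⟨hy, hy'⟩
        refine ⟨mul_mem hx hy, ?_⟩
        have h1 := L.Sh_comm hy hx
        calc x * y * (x * y) = x * (y * x) * y := by group
          _ = (x * x) * (y * y) := by rw [h1]; group
          _ = 1 := by rw [hx', hy', one_mul]
      inv_mem' := by
        rintro x ⟨hx, hx'⟩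
        exact ⟨inv_mem hx, by rw [← mul_inv_rev, hx', inv_one]⟩ }
  have hT : Sh V R P ≤ T := iSup_le fun p => by
    rw [cj_le_iff]
    intro y hy
    refine ⟨cj_S0_le_Sh p.2 (conj_mem_cj hy), ?_⟩
    have h1 := L.sq y hy
    calc (p : G) * y * (p : G)⁻¹ * ((p : G) * y * (p : G)⁻¹) = p * (y * y) * (p : G)⁻¹ := by group
      _ = 1 := by rw [h1]; group
  exact (hT hx).2

/-- `Sh ∩ C(W_i) = R_i (Sh ∩ C_X)` -/
theorem Sh_C {x : G} (hx : x ∈ Sh V R P) (hC : x ∈ centralizer (WW V (R i) : Set G)) :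
    ∃ a ∈ R i, a * x ∈ Sh V R P ⊓ CenX V R := by
  obtain ⟨σ, hσ, k, hk, rfl⟩ := L.Sh_fact hx
  have h1 : σ ∈ centralizer (WW V (R i) : Set G) := by
    have e : σ = (σ * k) * k⁻¹ := by group
    rw [e]
    exact mul_mem hC (inv_mem (cen_X_le i hk.2))
  obtain ⟨a, ha, h2⟩ := L.z σ hσ h1
  refine ⟨a, ha, ?_⟩
  rw [← mul_assoc]
  exact mul_mem (mem_inf.2 ⟨S0_le_Sh h2.1, h2.2.2⟩) hk

/-- `Sh ∩ Q_i = W_N (Sh ∩ C_X)` -/
theorem Sh_Q [Finite G] (b : BTS V R) {x : G} (hx : x ∈ Sh V R P) (hQ : x ∈ QQ (R i)) :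
    ∃ n ∈ WN V P, ∃ k ∈ Sh V R P ⊓ CenX V R, x = n * k := by
  obtain ⟨σ, hσ, k, hk, rfl⟩ := L.Sh_fact hx
  have h1 : σ ∈ QQ (R i) := by
    have e : σ = (σ * k) * k⁻¹ := by group
    rw [e]
    exact mul_mem hQ (inv_mem (b.cen_W_le_Q i (cen_X_le i hk.2)))
  obtain ⟨n, hn, ψ, hψ, e⟩ := L.q σ hσ h1
  refine ⟨n, hn, ψ * k, mul_mem (mem_inf.2 ⟨S0_le_Sh hψ.1, hψ.2.2⟩) hk, ?_⟩
  rw [e]; group

/-- `Sh ∩ C_X` is centralised by `⟨U_j^P⟩` -/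
theorem Sh_cen_U (b : BT V R) {k p u : G} (hk : k ∈ Sh V R P ⊓ CenX V R) (hp : p ∈ P) (hu : u ∈ UU V R j) :
    (p * u * p⁻¹) * k = k * (p * u * p⁻¹) := by
  have h1 : p⁻¹ * k * p ∈ Sh V R P := conj_inv_mem_of_normalizer (P_norm_Sh hp) hk.1
  have h2 : p⁻¹ * k * p ∈ centralizer (WW V (R i) : Set G) := by
    have h3 := conj_mem_cj (g := p⁻¹) (cen_X_le i hk.2)
    rwa [← centralizer_cj, L.cj_W (inv_mem hp), inv_inv] at h3
  obtain ⟨a, ha, h3⟩ := L.Sh_C h1 h2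
  have h4 : u * (p⁻¹ * k * p) = (p⁻¹ * k * p) * u := by
    have h5 := mem_centralizer_iff.1 h3.2 u (YY_le_XX (UU_le_YY j hu))
    have h6 := mem_centralizer_iff.1 (UU_le_cen j hu) a (b.R_le i ha)
    calc u * (p⁻¹ * k * p) = a⁻¹ * (a * u) * (p⁻¹ * k * p) := by group
      _ = a⁻¹ * (u * (a * (p⁻¹ * k * p))) := by rw [h6]; group
      _ = a⁻¹ * ((a * (p⁻¹ * k * p)) * u) := by rw [h5]
      _ = _ := by group
  calc (p * u * p⁻¹) * k = p * (u * (p⁻¹ * k * p)) * p⁻¹ := by group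
    _ = p * ((p⁻¹ * k * p) * u) * p⁻¹ := by rw [h4]
    _ = _ := by group

end SigL

end Cfsg.Agent.Omega.HOneQ
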