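import Cfsg.Agent.Omega.HOneQ.KerOAbs
import Cfsg.Agent.Omega.HOneQ.ResE

/-!
# II.0h1, split, `q ≥ 4`: `z z^{m₀}` is trivial on `W_N / (W_N ∩ Z_i)`

`Sc V R i j vv t P p'`, `m0 ∈ P` interchanges `V` and `V' = V^{p'}`, `z = t a`.

* `SN` : `W_N ∩ Z_i`; `Sc.SN_eq` : `SN = R i ⊔ Ψ`;
* `Sc.zeta_V`, `Sc.zeta_V'` : `z^{m₀}` on `V` and `V'`;
* `Sc.tt_V`, `Sc.tt_line` : `z z^{m₀}` is trivial on `V / R i` and `V' / R i`;
* `Sc.tt_cmod` : **`z z^{m₀} ∈ cmod SN W_N`**.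
-/

set_option autoImplicit false
set_option linter.unusedSectionVars false

namespace Cfsg.Agent.Omega.HOneQ

open Subgroup Cfsg.Agent.Omega.BTwo
open Cfsg.Agent.Omega.Lie (TorD)
open Cfsg.Agent.Omega.Lie.Nodes (cmod)

universe u v w

variable {G : Type u} [Group G] {ι : Type w} {V : Subgroup G} {R : ι → Subgroup G} {i j : ι} {P : Subgroup G}
  {F : Type v} [Field F] {vv : F → F → G} {t : F → G} {w1 w2 : F → G}

/-- `W_N ∩ Z_i` -/
def SN (V : Subgroup G) (R : ι → Subgroup G) (i : ι) (P : Subgroup G) : Subgroup G := WN V P ⊓ ZZ V R i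

theorem R_le_SN (b : BT V R) : R i ≤ SN V R i P :=
  le_inf ((b.R_le i).trans (V_le_WN V P)) (BT.R_le_Z b i)

theorem Nd.P_norm_SN (n : Nd V R i j P) : P ≤ normalizer (SN V R i P : Set G) := by
  intro p hp
  rw [← cj_eq_self_iff, SN, cj_inf, cj_eq_self_iff.2 (P_norm_WN hp), n.cj_Z hp]

/-- the elements of `N(P) ∩ N(V) ∩ N(R i)` normalise `SN` -/
theorem norm_SN {g : G} (hP : g ∈ normalizer (P : Set G)) (hV : g ∈ normalizer (V : Set G))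
    (hR : g ∈ normalizer (R i : Set G)) : g ∈ normalizer (SN V R i P : Set G) := by
  rw [← cj_eq_self_iff, SN, cj_inf, cj_eq_self_iff.2 (norm_WN hP hV), cj_eq_self_iff.2 (N_le_NZ i hR)]

/-- an element centralising `C(R i)` acts on a point -/
theorem conj_of_cen {g x : G} (hg : g ∈ centralizer (R i : Set G)) (hx : x ∈ R i) : g * x * g⁻¹ = x := by
  rw [← mem_centralizer_iff.1 hg x hx, mul_inv_cancel_right]

namespace Sc

variable {p' : G} (s : Sc V R i j vv t P p') (b : BTS V R) (τ : TorD V R i j vv t)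
include s b τ

theorem SN_le_D (hF : ∃ a : F, a ≠ 0 ∧ a ≠ 1) : SN V R i P ≤ DD V R := fun x hx =>
  s.WN_DZ b τ hF hx.1 ⟨1, one_mem _, x, hx.2, by rw [one_mul]⟩

/-- `W_N ∩ Z_i = R_i Ψ` -/
theorem SN_eq (hF : ∃ a : F, a ≠ 0 ∧ a ≠ 1) : SN V R i P = R i ⊔ Psi V R P := by
  apply le_antisymm
  · intro x hx
    obtain ⟨a, ha, h⟩ := s.WN_Z b τ hF hx.1 hx.2
    have e : x = a⁻¹ * (a * x) := by group
    rw [e]
    exact mul_mem ((le_sup_left : R i ≤ _) (inv_mem ha)) ((le_sup_right : Psi V R P ≤ _) h)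
  · refine sup_le (R_le_SN b.toBT) fun x hx => mem_inf.2 ⟨hx.1, ?_⟩
    exact BT.EE_mem_Z b.toBT ⟨1, one_mem _, by rw [one_mul]; exact hx.2⟩

theorem t_norm_SN {a : F} (ha : a ≠ 0) : t a ∈ normalizer (SN V R i P : Set G) :=
  norm_SN (s.tP a ha) (s.t_norm_V b τ ha) (τ.normR ha)

variable (c : Coord V R i j vv w1 w2) {m0 : G} (hm : m0 ∈ P) (h1 : cj m0 V = cj p' V) (h2 : cj m0 (cj p' V) = V)
include c hm

omit s b τ c hm in
theorem v_sub (τ : TorD V R i j vv t) (x y x' y' : F) : vv x y * (vv x' y')⁻¹ = vv (x - x') (y - y') := by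
  have h := τ.v_add (x - x') (y - y') x' y'
  rw [sub_add_cancel, sub_add_cancel] at h
  rw [h]; group

include h2 in
/-- `z^{m₀}` is the scalar `a` on `V` -/
theorem zeta_V {a : F} (ha : a ≠ 0) (x y : F) :
    (m0 * t a * m0⁻¹) * vv x y * (m0 * t a * m0⁻¹)⁻¹ = vv (a * x) (a * y) := by
  have hgV : m0 * p' ∈ normalizer (V : Set G) := by rw [← cj_eq_self_iff, cj_mul]; exact h2
  have hgR : m0 * p' ∈ centralizer (R i : Set G) := mul_mem (s.PR hm) (s.PR s.mem)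
  obtain ⟨β, γ, hγ, h⟩ := act_lin b.toBT c hgV hgR
  have e1 : vv x y = (m0 * p') * vv (x - β * (γ⁻¹ * y)) (γ⁻¹ * y) * (m0 * p')⁻¹ := by
    rw [h, sub_add_cancel, mul_inv_cancel_left₀ hγ]
  have e2 : (m0 * t a * m0⁻¹) * vv x y * (m0 * t a * m0⁻¹)⁻¹ =
      m0 * (t a * (p' * vv (x - β * (γ⁻¹ * y)) (γ⁻¹ * y) * p'⁻¹) * (t a)⁻¹) * m0⁻¹ := by
    rw [e1]; group
  rw [e2, s.sc a _ _ ha]
  have e3 : m0 * (p' * vv (a * (x - β * (γ⁻¹ * y))) (a * (γ⁻¹ * y)) * p'⁻¹) * m0⁻¹ =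
      (m0 * p') * vv (a * (x - β * (γ⁻¹ * y))) (a * (γ⁻¹ * y)) * (m0 * p')⁻¹ := by group
  rw [e3, h]
  congr 1
  · ring
  · field_simp

include h1 in
/-- `z^{m₀}` has the weights `1`, `-1` on `V'` -/
theorem zeta_V' {a : F} (ha : a ≠ 0) (x y : F) : ∃ x' : F,
    (m0 * t a * m0⁻¹) * (p' * vv x y * p'⁻¹) * (m0 * t a * m0⁻¹)⁻¹ = p' * vv x' (a⁻¹ * y) * p'⁻¹ := by
  have hgV : p'⁻¹ * m0 ∈ normalizer (V : Set G) := by rw [← cj_eq_self_iff, cj_mul, h1, cj_inv_cj]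
  have hgR : p'⁻¹ * m0 ∈ centralizer (R i : Set G) := mul_mem (inv_mem (s.PR s.mem)) (s.PR hm)
  obtain ⟨β, γ, hγ, h⟩ := act_lin b.toBT c hgV hgR
  have e1 : vv x y = (p'⁻¹ * m0) * vv (x - β * (γ⁻¹ * y)) (γ⁻¹ * y) * (p'⁻¹ * m0)⁻¹ := by
    rw [h, sub_add_cancel, mul_inv_cancel_left₀ hγ]
  have e2 : (m0 * t a * m0⁻¹) * (p' * vv x y * p'⁻¹) * (m0 * t a * m0⁻¹)⁻¹ =
      m0 * (t a * vv (x - β * (γ⁻¹ * y)) (γ⁻¹ * y) * (t a)⁻¹) * m0⁻¹ := by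
    rw [e1]; group
  rw [e2, τ.act a _ _ ha]
  refine ⟨a * (x - β * (γ⁻¹ * y)) + β * (a⁻¹ * (γ⁻¹ * y)), ?_⟩
  have e3 : m0 * vv (a * (x - β * (γ⁻¹ * y))) (a⁻¹ * (γ⁻¹ * y)) * m0⁻¹ =
      p' * ((p'⁻¹ * m0) * vv (a * (x - β * (γ⁻¹ * y))) (a⁻¹ * (γ⁻¹ * y)) * (p'⁻¹ * m0)⁻¹) * p'⁻¹ := by group
  have e4 : γ * (a⁻¹ * (γ⁻¹ * y)) = a⁻¹ * y := by field_simp
  rw [e3, h, e4]

include h2 in
/-- `z z^{m₀}` on `V` -/
theorem tt_vv {a : F} (ha : a ≠ 0) (x y : F) :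
    (t a * (m0 * t a * m0⁻¹)) * vv x y * (t a * (m0 * t a * m0⁻¹))⁻¹ = vv (a * (a * x)) y := by
  have e : (t a * (m0 * t a * m0⁻¹)) * vv x y * (t a * (m0 * t a * m0⁻¹))⁻¹ =
      t a * ((m0 * t a * m0⁻¹) * vv x y * (m0 * t a * m0⁻¹)⁻¹) * (t a)⁻¹ := by group
  rw [e, s.zeta_V b τ c hm h2 ha, τ.act a _ _ ha, inv_mul_cancel_left₀ ha]

include h2 in
/-- `z z^{m₀}` is trivial on `V / R i` -/
theorem tt_V {a : F} (ha : a ≠ 0) {x : G} (hx : x ∈ V) :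
    (t a * (m0 * t a * m0⁻¹)) * x * (t a * (m0 * t a * m0⁻¹))⁻¹ * x⁻¹ ∈ R i := by
  obtain ⟨r, q, rfl⟩ := (τ.v_mem x).1 hx
  rw [s.tt_vv b τ c hm h2 ha, v_sub τ, sub_self]
  exact (τ.Ri _).2 ⟨_, rfl⟩

include h1 in
/-- `z z^{m₀}` is trivial on `V' / R i` -/
theorem tt_line {a : F} (ha : a ≠ 0) {x : G} (hx : x ∈ cj p' V) :
    (t a * (m0 * t a * m0⁻¹)) * x * (t a * (m0 * t a * m0⁻¹))⁻¹ * x⁻¹ ∈ R i := by
  obtain ⟨r, q, rfl⟩ := (s.mem_line τ).1 hx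
  obtain ⟨x', h⟩ := s.zeta_V' b τ c hm h1 ha r q
  have e : (t a * (m0 * t a * m0⁻¹)) * (p' * vv r q * p'⁻¹) * (t a * (m0 * t a * m0⁻¹))⁻¹ =
      t a * ((m0 * t a * m0⁻¹) * (p' * vv r q * p'⁻¹) * (m0 * t a * m0⁻¹)⁻¹) * (t a)⁻¹ := by group
  rw [e, h, s.sc a _ _ ha, mul_inv_cancel_left₀ ha]
  have e2 : p' * vv (a * x') q * p'⁻¹ * (p' * vv r q * p'⁻¹)⁻¹ = p' * (vv (a * x') q * (vv r q)⁻¹) * p'⁻¹ := by
    group
  rw [e2, v_sub τ, sub_self, s.line_R τ]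
  exact (τ.Ri _).2 ⟨_, rfl⟩

omit c in
include h2 in
theorem zeta_norm_V {a : F} (ha : a ≠ 0) : m0 * t a * m0⁻¹ ∈ normalizer (V : Set G) := by
  have h3 : cj m0⁻¹ V = cj p' V := by
    conv_lhs => rw [← h2]
    rw [cj_inv_cj]
  rw [← cj_eq_self_iff]
  calc cj (m0 * t a * m0⁻¹) V = cj m0 (cj (t a) (cj m0⁻¹ V)) := by rw [cj_mul, cj_mul]
    _ = cj m0 (cj (t a) (cj p' V)) := by rw [h3]
    _ = V := by rw [s.t_line b τ ha, h2]

omit c in
theorem zeta_norm_P {a : F} (ha : a ≠ 0) : m0 * t a * m0⁻¹ ∈ normalizer (P : Set G) :=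
  mul_mem (mul_mem (le_normalizer hm) (s.tP a ha)) (inv_mem (le_normalizer hm))

include h1 h2 in
/-- the abstract data -/
theorem wt {a : F} (ha : a ≠ 0) (ha1 : a ≠ 1) :
    KerO.Wt (WN V P) (SN V R i P) V (cj p' V) (WN V P ⊓ DD V R) (t a) m0 := by
  have hF : ∃ a : F, a ≠ 0 ∧ a ≠ 1 := ⟨a, ha, ha1⟩
  have ha1' : a - 1 ≠ 0 := sub_ne_zero.2 ha1
  have hai : a⁻¹ - 1 ≠ 0 := fun h => ha1 (inv_eq_one.1 (sub_eq_zero.1 h))
  have hRS : R i ≤ SN V R i P := R_le_SN b.toBT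
  have hzW := s.t_norm_WN b τ ha
  have hzS := s.t_norm_SN b τ ha
  have hVR : ∀ {y z : F}, vv y z ∈ R i → z = 0 := by
    intro y z h
    obtain ⟨x, hx⟩ := (τ.Ri _).1 h
    have h3 := v_sub τ y z x 0
    rw [hx, mul_inv_cancel] at h3
    have h4 := (τ.v_inj _ _ h3.symm).2
    rwa [sub_zero] at h4
  exact
    { comm := fun x hx y hy => s.WN_comm b hx hy
      SD := fun x hx => mem_inf.2 ⟨hx.1, s.SN_le_D b τ hF hx⟩
      VD := le_inf (V_le_WN V P) (V_le_D V R)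
      DA := inf_le_left
      V'A := line_le_WN s.mem
      fact := fun x hx => by
        obtain ⟨l, hl, d, hd, hd', e⟩ := s.WN_fact b hx
        exact ⟨l, hl, d, mem_inf.2 ⟨hd', hd⟩, e⟩
      cap := fun x hx hd => hRS (s.cap b τ hF hx ⟨x, hd.2, 1, one_mem _, by rw [mul_one]⟩)
      zA := fun x hx => BTwo.conj_mem_of_normalizer hzW hx
      zS := fun x hx => BTwo.conj_mem_of_normalizer hzS hx
      zV' := fun x hx => by
        have h := conj_mem_cj (g := t a) hx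
        rwa [s.t_line b τ ha] at h
      zD := fun d hd => b.XD (τ.memX a ha) hd.2
      z_inj := fun x hx h => by
        obtain ⟨r, q, rfl⟩ := (τ.v_mem x).1 hx
        rw [τ.act a _ _ ha, v_sub τ] at h
        have h3 : vv (a * r - r) (a⁻¹ * q - q) ∈ R i := BT.cen_VW b.toBT ((τ.v_mem _).2 ⟨_, _, rfl⟩) h.2.2
        have h4 : (a⁻¹ - 1) * q = 0 := by
          have := hVR h3
          linear_combination this
        have h5 := (mul_eq_zero.1 h4).resolve_left hai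
        rw [h5]
        exact hRS ((τ.Ri _).2 ⟨_, rfl⟩)
      z_inj' := fun x hx h => by
        obtain ⟨r, q, rfl⟩ := (s.mem_line τ).1 hx
        have h3 := s.toNd.line_inf_Z b.toBT s.mem (x := t a * (p' * vv r q * p'⁻¹) * (t a)⁻¹ * (p' * vv r q * p'⁻¹)⁻¹)
          (by
            have h4 := conj_mem_cj (g := t a) hx
            rw [s.t_line b τ ha] at h4
            exact mul_mem h4 (inv_mem hx)) h.2
        rw [s.sc a _ _ ha] at h3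
        have e2 : p' * vv (a * r) (a * q) * p'⁻¹ * (p' * vv r q * p'⁻¹)⁻¹ =
            p' * (vv (a * r) (a * q) * (vv r q)⁻¹) * p'⁻¹ := by group
        rw [e2, v_sub τ, s.line_mem_R τ] at h3
        have h4 : (a - 1) * q = 0 := by linear_combination h3
        have h5 := (mul_eq_zero.1 h4).resolve_left ha1'
        rw [h5, s.line_R τ]
        exact hRS ((τ.Ri _).2 ⟨_, rfl⟩)
      z_sur := fun x hx => by
        obtain ⟨r, q, rfl⟩ := (τ.v_mem x).1 hx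
        refine ⟨vv 0 (-((a⁻¹ - 1)⁻¹ * q)), (τ.v_mem _).2 ⟨_, _, rfl⟩, ?_⟩
        rw [τ.act a _ _ ha, v_sub τ, ← τ.v_add]
        have e : a⁻¹ * -((a⁻¹ - 1)⁻¹ * q) - -((a⁻¹ - 1)⁻¹ * q) + q = 0 := by
          have e3 : (a⁻¹ - 1) * ((a⁻¹ - 1)⁻¹ * q) = q := mul_inv_cancel_left₀ hai q
          linear_combination -e3
        rw [e]
        exact hRS ((τ.Ri _).2 ⟨_, rfl⟩)
      z_sur' := fun x hx => by
        obtain ⟨r, q, rfl⟩ := (s.mem_line τ).1 hx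
        refine ⟨p' * vv 0 (-((a - 1)⁻¹ * q)) * p'⁻¹, (s.mem_line τ).2 ⟨_, _, rfl⟩, ?_⟩
        rw [s.sc a _ _ ha]
        have e2 : p' * vv (a * 0) (a * -((a - 1)⁻¹ * q)) * p'⁻¹ * (p' * vv 0 (-((a - 1)⁻¹ * q)) * p'⁻¹)⁻¹ *
            (p' * vv r q * p'⁻¹) =
            p' * (vv (a * 0) (a * -((a - 1)⁻¹ * q)) * (vv 0 (-((a - 1)⁻¹ * q)))⁻¹ * vv r q) * p'⁻¹ := by group
        rw [e2, v_sub τ, ← τ.v_add]
        have e : a * -((a - 1)⁻¹ * q) - -((a - 1)⁻¹ * q) + q = 0 := by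
          have e3 : (a - 1) * ((a - 1)⁻¹ * q) = q := mul_inv_cancel_left₀ ha1' q
          linear_combination -e3
        rw [e, s.line_R τ]
        exact hRS ((τ.Ri _).2 ⟨_, rfl⟩)
      mA := P_norm_WN hm
      mS := s.toNd.P_norm_SN hm
      mV := fun x => by
        rw [← h1]
        exact ⟨fun h => conj_mem_cj h, fun h => by
          have := mem_cj.1 h
          rwa [show m0⁻¹ * (m0 * x * m0⁻¹) * m0 = x by group] at this⟩
      mV' := fun x => by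
        constructor
        · intro h
          rw [← h2]
          exact conj_mem_cj h
        · intro h
          rw [← h2, mem_cj] at h
          rwa [show m0⁻¹ * (m0 * x * m0⁻¹) * m0 = x by group] at h
      mD := fun d hd => by
        have hζV := s.zeta_norm_V b τ hm h2 ha
        have hζP := s.zeta_norm_P b τ hm ha
        exact mem_inf.2 ⟨BTwo.conj_mem_of_normalizer (norm_WN hζP hζV) hd.1,
          BTwo.conj_mem_of_normalizer (b.NV_le_ND hζV) hd.2⟩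
      mD' := fun d hd => by
        have hζV : m0⁻¹ * t a * m0 ∈ normalizer (V : Set G) := by
          rw [← cj_eq_self_iff]
          calc cj (m0⁻¹ * t a * m0) V = cj m0⁻¹ (cj (t a) (cj m0 V)) := by rw [cj_mul, cj_mul]
            _ = V := by rw [h1, s.t_line b τ ha, ← h1, cj_inv_cj]
        have hζP : m0⁻¹ * t a * m0 ∈ normalizer (P : Set G) :=
          mul_mem (mul_mem (inv_mem (le_normalizer hm)) (s.tP a ha)) (le_normalizer hm)
        exact mem_inf.2 ⟨BTwo.conj_mem_of_normalizer (norm_WN hζP hζV) hd.1,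
          BTwo.conj_mem_of_normalizer (b.NV_le_ND hζV) hd.2⟩ }

include h1 h2 in
/-- **`z z^{m₀}` is trivial on `W_N / (W_N ∩ Z_i)`** -/
theorem tt_cmod {a : F} (ha : a ≠ 0) : t a * (m0 * t a * m0⁻¹) ∈ cmod (SN V R i P) (WN V P) := by
  refine ⟨mul_mem (s.t_norm_SN b τ ha) (mul_mem (mul_mem (s.toNd.P_norm_SN hm) (s.t_norm_SN b τ ha))
    (inv_mem (s.toNd.P_norm_SN hm))), fun x hx => ?_⟩
  by_cases ha1 : a = 1
  · rw [ha1, τ.one]
    rw [show (1 : G) * (m0 * 1 * m0⁻¹) * x * (1 * (m0 * 1 * m0⁻¹))⁻¹ * x⁻¹ = 1 by group]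
    exact one_mem _
  · have hRS : R i ≤ SN V R i P := R_le_SN b.toBT
    exact (s.wt b τ c hm h1 h2 ha ha1).diag (fun x hx => hRS (s.tt_V b τ c hm h2 ha hx))
      (fun x hx => hRS (s.tt_line b τ c hm h1 ha hx)) hx

end Sc

end Cfsg.Agent.Omega.HOneQ
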