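import Cfsg.Agent.Omega.HOneQ.AptAbs
import Cfsg.Agent.Omega.HOneQ.KerODiag

/-!
# II.0h1, split, `q ≥ 4`, residues `(0, x)`, types `(sigma)` and `(beta)`: the hypotheses `AptH`

`Sc V R i j vv t P p'`, `SigL V R i j P`, `m` inverting the torus, `m0 ∈ P_W` interchanging `V` and `V' = V^{p'}`.

* `tor_fix_bt` : `t a` fixes only the points `R i`, `R j`;
* `Sc.line_act`, `Sc.line_comm` : `W_i` on `V'`;
* `Sc.exists_d` : `D` acts on `V'` as `W_i` does (`d = (w z)^o`, `o` the order of `z`);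
* `Sc.dg_WN` : `z z^{m₀}` is trivial on `W_N / R i`;
* `SigL.PW_comm` : `P_W` centralises `Sh ∩ C_X`;
* `Sc.aptH` : **`AptH`** for `P := P_W`, `S := W_N (Sh ∩ C_X)`, `T := Sh`, `z := t a`, `ρ := m`.
-/

set_option autoImplicit false
set_option linter.unusedSectionVars false

namespace Cfsg.Agent.Omega.HOneQ

open Subgroup Cfsg.Agent.Omega.BTwo
open Cfsg.Agent.Omega.Lie (TorD)
open Cfsg.Agent.Omega.Lie.Nodes (cmod mem_cmod)

universe u v w

variable {G : Type u} [Group G] {ι : Type w} {V : Subgroup G} {R : ι → Subgroup G} {i j : ι} {P : Subgroup G}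
  {F : Type v} [Field F] {vv : F → F → G} {t : F → G} {w1 w2 : F → G}

/-- `W_N (Sh ∩ C_X)` -/
abbrev SK (V : Subgroup G) (R : ι → Subgroup G) (P : Subgroup G) : Subgroup G := WN V P ⊔ (Sh V R P ⊓ CenX V R)

/-! ### the torus -/

section torus

variable (b : BT V R) (τ : TorD V R i j vv t)
include b τ

theorem mul_self_ne_one {a : F} (ha1 : a ≠ 1) : a * a ≠ 1 := by
  intro h
  have h2 := Cfsg.Agent.Omega.Lie.TorD.two b τ a
  have h3 := Cfsg.Agent.Omega.Lie.TorD.two b τ (1 : F)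
  have h4 : (a - 1) * (a - 1) = 0 := by linear_combination h - h2 + h3
  exact ha1 (sub_eq_zero.1 (mul_self_eq_zero.1 h4))

theorem add_one_ne {a : F} (ha1 : a ≠ 1) : a + 1 ≠ 0 := by
  intro h
  have h3 := Cfsg.Agent.Omega.Lie.TorD.two b τ (1 : F)
  exact ha1 (by linear_combination h - h3)

/-- the torus element fixes only the points `R i`, `R j` -/
theorem tor_fix_bt (c : Coord V R i j vv w1 w2) {a : F} (ha : a ≠ 0) (ha1 : a ≠ 1) {l : ι} (hl : l ≠ i)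
    (hfix : cj (t a) (R l) = R l) : l = j := by
  by_contra hlj
  obtain ⟨w, hw, e⟩ := b.trans i c.ne.symm hl
  obtain ⟨x, hx⟩ := c.W1_act w hw
  have hR : ∀ g, g ∈ R l ↔ ∃ y, vv (x * y) y = g := by
    intro g
    rw [← e, mem_cj, c.mem_R2]
    constructor
    · rintro ⟨y, hy⟩
      refine ⟨y, ?_⟩
      have h1 := hx 0 y
      rw [zero_add] at h1
      rw [← h1, hy]; group
    · rintro ⟨y, rfl⟩
      refine ⟨y, ?_⟩
      have h1 := hx 0 y
      rw [zero_add] at h1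
      rw [← h1]; group
  have h1 : vv x 1 ∈ R l := (hR _).2 ⟨1, by rw [mul_one]⟩
  have h2 : t a * vv x 1 * (t a)⁻¹ ∈ R l := by
    rw [← hfix]
    exact conj_mem_cj h1
  rw [τ.act a x 1 ha, mul_one, hR] at h2
  obtain ⟨y, hy⟩ := h2
  obtain ⟨h3, h4⟩ := c.v_inj hy
  rw [h4] at h3
  have hne : a - a⁻¹ ≠ 0 := by
    intro h0
    apply mul_self_ne_one b τ ha1
    have h6 : a * (a - a⁻¹) = 0 := by rw [h0, mul_zero]
    rw [mul_sub, mul_inv_cancel₀ ha] at h6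
    linear_combination h6
  have h5 : x * (a - a⁻¹) = 0 := by linear_combination -h3
  have h6 : x = 0 := (mul_eq_zero.1 h5).resolve_right hne
  rw [h6] at h1
  have h7 : vv 0 1 ∈ R j := (c.mem_R2 _).2 ⟨1, rfl⟩
  have h8 := b.eq_one hlj h1 h7
  exact one_ne_zero (c.v_one 0 1 h8).2

/-- `t a` normalises `U_i` -/
theorem t_norm_Ui {a : F} (ha : a ≠ 0) : t a ∈ normalizer (UU V R i : Set G) := by
  have h1 := cj_eq_self_iff.2 (normalizer_le_WW V (R i) (τ.normR ha))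
  have h2 := cj_eq_self_iff.2 (normalizer_le_normalizer_centralizer V (b.X_le_NV (τ.memX a ha)))
  rw [← cj_eq_self_iff]
  change cj (t a) (WW V (R i) ⊓ centralizer (V : Set G)) = WW V (R i) ⊓ centralizer (V : Set G)
  rw [cj_inf, h1, h2]

omit τ in
/-- squares of elements of `W_i` are in `D` -/
theorem sq_mem_D {w : G} (hw : w ∈ WW V (R i)) : w * w ∈ DD V R := V_le_D V R (b.R_le i (b.W_sq i hw))

/-- an element of `W_i` fixed by `t a` modulo `U_i` is in `U_i` -/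
theorem W_fix {a : F} (ha : a ≠ 0) (ha1 : a ≠ 1) {w : G} (hw : w ∈ WW V (R i))
    (h : t a * w * (t a)⁻¹ * w⁻¹ ∈ UU V R i) : w ∈ UU V R i := by
  have ha2 := add_one_ne b τ ha1
  have h1 := τ.wW a 1 ha one_ne_zero ha2 w hw
  have hww : w * w ∈ UU V R i := b.D_le_U i (sq_mem_D b hw)
  rw [τ.one, one_mul, inv_one, mul_one] at h1
  have h2 : t (a + 1) * w * (t (a + 1))⁻¹ ∈ UU V R i := by
    have h3 := mul_mem h1 (mul_mem h hww)
    have e : t (a + 1) * w * (t (a + 1))⁻¹ * (t a * w * (t a)⁻¹ * w)⁻¹ * (t a * w * (t a)⁻¹ * w⁻¹ * (w * w)) =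
      t (a + 1) * w * (t (a + 1))⁻¹ := by group
    rwa [e] at h3
  have h3 := conj_inv_mem_of_normalizer (t_norm_Ui b τ ha2) h2
  rwa [show (t (a + 1))⁻¹ * (t (a + 1) * w * (t (a + 1))⁻¹) * t (a + 1) = w by group] at h3

/-- an element of `U_i` fixed by `t a` modulo `D` is in `D` -/
theorem U_fix {a : F} (ha : a ≠ 0) (ha1 : a ≠ 1) {u : G} (hu : u ∈ UU V R i)
    (h : t a * u * (t a)⁻¹ * u⁻¹ ∈ DD V R) : u ∈ DD V R := by
  have ha2 := add_one_ne b τ ha1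
  have h1 := τ.wU a 1 ha one_ne_zero ha2 u hu
  have huu : u * u ∈ DD V R := sq_mem_D b (UU_le_WW i hu)
  rw [τ.one, one_mul, inv_one, mul_one] at h1
  have h2 : t (a + 1) * u * (t (a + 1))⁻¹ ∈ DD V R := by
    have h3 := mul_mem h1 (mul_mem h huu)
    have e : t (a + 1) * u * (t (a + 1))⁻¹ * (t a * u * (t a)⁻¹ * u)⁻¹ * (t a * u * (t a)⁻¹ * u⁻¹ * (u * u)) =
      t (a + 1) * u * (t (a + 1))⁻¹ := by group
    rwa [e] at h3
  have h3 := conj_inv_mem_of_normalizer (b.NV_le_ND (b.X_le_NV (τ.memX _ ha2))) h2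
  rwa [show (t (a + 1))⁻¹ * (t (a + 1) * u * (t (a + 1))⁻¹) * t (a + 1) = u by group] at h3

omit b in
theorem t_pow {a : F} (ha : a ≠ 0) (r : ℕ) : (t a) ^ r = t (a ^ r) := by
  induction r with
  | zero => rw [pow_zero, pow_zero, τ.one]
  | succ r ih => rw [pow_succ, pow_succ, τ.mul _ _ (pow_ne_zero r ha) ha, ih]

omit b in
theorem pow_order {a : F} (ha : a ≠ 0) : a ^ orderOf (t a) = 1 := by
  have h1 := t_pow τ ha (orderOf (t a))
  rw [pow_orderOf_eq_one] at h1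
  have h2 := τ.act (a ^ orderOf (t a)) 1 0 (pow_ne_zero _ ha)
  rw [← h1, one_mul, inv_one, mul_one, mul_one, mul_zero] at h2
  have h3 := Sc.v_sub τ 1 0 (a ^ orderOf (t a)) 0
  rw [← h2, mul_inv_cancel] at h3
  exact (sub_eq_zero.1 (τ.v_inj _ _ h3.symm).1).symm

theorem cast_order {a : F} (ha : a ≠ 0) : ((orderOf (t a) : ℕ) : F) = 1 := by
  obtain ⟨k, hk⟩ := τ.odd a ha
  rw [hk]
  have h3 := Cfsg.Agent.Omega.Lie.TorD.two b τ (k : F)
  push_cast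
  linear_combination h3

end torus

/-! ### `W_i` on the line `V'` -/

namespace Sc

variable {p' : G} (s : Sc V R i j vv t P p') (b : BTS V R) (τ : TorD V R i j vv t) (c : Coord V R i j vv w1 w2)
include s c

/-- `w ∈ W_i` acts on `V'` as a transvection -/
theorem line_act {w : G} (hw : w ∈ WW V (R i)) : ∃ σ : F, ∀ x y,
    w * (p' * vv x y * p'⁻¹) * w⁻¹ = p' * vv (x + σ * y) y * p'⁻¹ := by
  have hw' : p'⁻¹ * w * p' ∈ WW V (R i) :=
    conj_inv_mem_of_normalizer (normalizer_le_WW V (R i) (s.P_le_N s.mem)) hw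
  obtain ⟨σ, hσ⟩ := c.W1_act _ hw'
  refine ⟨σ, fun x y => ?_⟩
  rw [← hσ]; group

include τ

theorem line_comm {w : G} {σ : F} (h : ∀ x y, w * (p' * vv x y * p'⁻¹) * w⁻¹ = p' * vv (x + σ * y) y * p'⁻¹)
    (x y : F) : w * (p' * vv x y * p'⁻¹) * w⁻¹ * (p' * vv x y * p'⁻¹)⁻¹ = vv (σ * y) 0 := by
  rw [h]
  have e2 : p' * vv (x + σ * y) y * p'⁻¹ * (p' * vv x y * p'⁻¹)⁻¹ = p' * (vv (x + σ * y) y * (vv x y)⁻¹) * p'⁻¹ := by
    group
  rw [e2, v_sub τ, add_sub_cancel_left, sub_self, s.line_R τ]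

/-- the field `lin` -/
theorem lin_line {a : F} (ha : a ≠ 0) {w y : G} (hw : w ∈ WW V (R i)) (hy : y ∈ cj p' V) :
    w * (t a * y * (t a)⁻¹) * w⁻¹ * (t a * y * (t a)⁻¹)⁻¹ = t a * (w * y * w⁻¹ * y⁻¹) * (t a)⁻¹ := by
  obtain ⟨σ, hσ⟩ := s.line_act c hw
  obtain ⟨r, q, rfl⟩ := (s.mem_line τ).1 hy
  rw [s.sc a _ _ ha, s.line_comm τ c hσ, s.line_comm τ c hσ, τ.act a _ _ ha, mul_zero]
  congr 1
  ring

omit s in
/-- the field `linV` -/
theorem lin_V {a : F} (ha : a ≠ 0) {w y : G} (hw : w ∈ WW V (R i)) (hy : y ∈ V) :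
    w * (t a * y * (t a)⁻¹) * w⁻¹ * (t a * y * (t a)⁻¹)⁻¹ = (t a)⁻¹ * (w * y * w⁻¹ * y⁻¹) * t a := by
  obtain ⟨σ, hσ⟩ := c.W1_act w hw
  obtain ⟨r, q, rfl⟩ := (τ.v_mem y).1 hy
  have key : ∀ x y, w * vv x y * w⁻¹ * (vv x y)⁻¹ = vv (σ * y) 0 := fun x y => by
    rw [hσ, v_sub τ, add_sub_cancel_left, sub_self]
  have h1 := τ.act a⁻¹ (σ * q) 0 (inv_ne_zero ha)
  rw [τ.inv ha, inv_inv] at h1
  rw [τ.act a _ _ ha, key, key, h1, mul_zero]
  congr 1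
  ring

include b in
/-- **the field `dd`**: `D` acts on `V'` as `W_i` does -/
theorem exists_d {a : F} (ha : a ≠ 0) (ha1 : a ≠ 1) {w : G} (hw : w ∈ WW V (R i)) :
    ∃ d ∈ DD V R, ∀ y ∈ cj p' V, d * y * d⁻¹ = w * y * w⁻¹ := by
  obtain ⟨σ, hσ⟩ := s.line_act c hw
  set z := t a with hz
  set o := orderOf z with ho
  have hzW : z ∈ normalizer (WW V (R i) : Set G) := normalizer_le_WW V (R i) (τ.normR ha)
  -- `d ∈ W_i`
  have h1 : ∀ r : ℕ, ∃ u ∈ WW V (R i), (w * z) ^ r = u * z ^ r := by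
    intro r
    induction r with
    | zero => exact ⟨1, one_mem _, by rw [pow_zero, pow_zero, one_mul]⟩
    | succ r ih =>
      obtain ⟨u, hu, e⟩ := ih
      refine ⟨w * (z * u * z⁻¹), mul_mem hw (conj_mem_of_normalizer hzW hu), ?_⟩
      rw [pow_succ', e, pow_succ']
      group
  obtain ⟨u, hu, e⟩ := h1 o
  rw [ho, pow_orderOf_eq_one, mul_one] at e
  set d := (w * z) ^ o with hd
  have hdW : d ∈ WW V (R i) := by rw [e]; exact hu
  -- `d` is fixed by `z` modulo `R i`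
  have h2 : z * d * z⁻¹ * d⁻¹ ∈ R i := by
    have h3 : w * z * d = d * (w * z) := by rw [hd, ← pow_succ', ← pow_succ]
    have h4 : z * d * z⁻¹ = w⁻¹ * d * w := by
      calc z * d * z⁻¹ = w⁻¹ * (w * z * d) * z⁻¹ := by group
        _ = w⁻¹ * (d * (w * z)) * z⁻¹ := by rw [h3]
        _ = _ := by group
    rw [h4]
    have h5 := b.WW_comm i (inv_mem hw) hdW
    rwa [inv_inv] at h5
  have hRD : R i ≤ DD V R := fun x hx => V_le_D V R (b.R_le i hx)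
  have hdU : d ∈ UU V R i := W_fix b.toBT τ ha ha1 hdW (b.D_le_U i (hRD h2))
  refine ⟨d, U_fix b.toBT τ ha ha1 hdU (hRD h2), ?_⟩
  -- the action on `V'`
  have h3 : ∀ (r : ℕ) (x y : F), (w * z) ^ r * (p' * vv x y * p'⁻¹) * ((w * z) ^ r)⁻¹ =
      p' * vv (a ^ r * (x + r * (σ * y))) (a ^ r * y) * p'⁻¹ := by
    intro r
    induction r with
    | zero =>
      intro x y
      simp
    | succ r ih =>
      intro x y
      have e1 : (w * z) ^ (r + 1) * (p' * vv x y * p'⁻¹) * ((w * z) ^ (r + 1))⁻¹ =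
          w * (z * ((w * z) ^ r * (p' * vv x y * p'⁻¹) * ((w * z) ^ r)⁻¹) * z⁻¹) * w⁻¹ := by
        rw [pow_succ']
        generalize (w * z) ^ r = g
        group
      rw [e1, ih, s.sc a _ _ ha, hσ]
      congr 3
      · push_cast; ring
      · ring
  intro y hy
  obtain ⟨r, q, rfl⟩ := (s.mem_line τ).1 hy
  have h4 := h3 o r q
  rw [ho, pow_order τ ha, cast_order b.toBT τ ha, one_mul, one_mul, one_mul] at h4
  rw [hσ, hd, ho, h4]

/-! ### the field `dg` -/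

section dg

variable {m0 : G} (hm : m0 ∈ P) (h1 : cj m0 V = cj p' V) (h2 : cj m0 (cj p' V) = V)
include b hm h1 h2

/-- **`z z^{m₀}` is trivial on `W_N / R i`** -/
theorem dg_WN {a : F} (ha : a ≠ 0) (hF : ∃ a : F, a ≠ 0 ∧ a ≠ 1) {x : G} (hx : x ∈ WN V P) :
    t a * (m0 * t a * m0⁻¹) * x * (t a * (m0 * t a * m0⁻¹))⁻¹ * x⁻¹ ∈ R i := by
  set z := t a with hz
  set ξ := m0 * z * m0⁻¹ with hξ
  have hmR := s.P_le_N hm
  have hzX : z ∈ XX V R := τ.memX a ha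
  have hzR : z ∈ normalizer (R i : Set G) := τ.normR ha
  have hξR : ξ ∈ normalizer (R i : Set G) := mul_mem (mul_mem hmR hzR) (inv_mem hmR)
  have hζR : z * ξ ∈ normalizer (R i : Set G) := mul_mem hzR hξR
  -- the elements fixed modulo `R i`
  have hWN : ∀ r ∈ R i, ∀ x ∈ WN V P, x * r * x⁻¹ ∈ R i := by
    intro r hr x hx
    have h3 := UU_le_cen i (s.WN_le_U b hx)
    rw [← mem_centralizer_iff.1 h3 r (b.R_le i hr), mul_inv_cancel_right]
    exact hr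
  have hmul : ∀ x ∈ WN V P, ∀ y, z * ξ * x * (z * ξ)⁻¹ * x⁻¹ ∈ R i → z * ξ * y * (z * ξ)⁻¹ * y⁻¹ ∈ R i →
      z * ξ * (x * y) * (z * ξ)⁻¹ * (x * y)⁻¹ ∈ R i := by
    intro x hx y h3 h4
    rw [show z * ξ * (x * y) * (z * ξ)⁻¹ * (x * y)⁻¹ =
      (z * ξ * x * (z * ξ)⁻¹ * x⁻¹) * (x * (z * ξ * y * (z * ξ)⁻¹ * y⁻¹) * x⁻¹) by group]
    exact mul_mem h3 (hWN _ h4 x hx)
  have hζV : ξ ∈ normalizer (V : Set G) := s.zeta_norm_V b τ hm h2 ha
  have hζV' : m0⁻¹ * z * m0 ∈ normalizer (V : Set G) := by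
    rw [← cj_eq_self_iff]
    calc cj (m0⁻¹ * z * m0) V = cj m0⁻¹ (cj z (cj m0 V)) := by rw [cj_mul, cj_mul]
      _ = V := by rw [h1, s.t_line b τ ha, ← h1, cj_inv_cj]
  -- decomposition
  obtain ⟨l, hl, d, hd, hdW, rfl⟩ := s.WN_fact b hx
  have hdW' : m0⁻¹ * d * m0 ∈ WN V P := conj_inv_mem_of_normalizer (P_norm_WN hm) hdW
  obtain ⟨l', hl', d', hd', hd'W, e⟩ := s.WN_fact b hdW'
  have hv : m0 * l' * m0⁻¹ ∈ V := by
    rw [← h2]
    exact conj_mem_cj hl'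
  have e2 : d = (m0 * l' * m0⁻¹) * (m0 * d' * m0⁻¹) := by
    have e3 : d = m0 * (m0⁻¹ * d * m0) * m0⁻¹ := by group
    rw [e3, e]; group
  set v := m0 * l' * m0⁻¹ with hv'
  set f := m0 * d' * m0⁻¹ with hf
  have hfD : f ∈ DD V R := by
    have e3 : f = v⁻¹ * d := by rw [e2]; group
    rw [e3]
    exact mul_mem (inv_mem (V_le_D V R hv)) hd
  have hd'e : m0⁻¹ * f * m0 = d' := by rw [hf]; group
  -- `[z, f] ∈ R i`
  have h3 : z * f * z⁻¹ * f⁻¹ ∈ R i := by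
    have h4 := b.XD hzX hfD
    have h5 : m0⁻¹ * (z * f * z⁻¹ * f⁻¹) * m0 ∈ cj p' V := by
      rw [← h2, mem_cj] at h4
      exact h4
    have h6 : m0⁻¹ * (z * f * z⁻¹ * f⁻¹) * m0 ∈ DD V R := by
      have e3 : m0⁻¹ * (z * f * z⁻¹ * f⁻¹) * m0 = ((m0⁻¹ * z * m0) * d' * (m0⁻¹ * z * m0)⁻¹) * d'⁻¹ := by
        rw [← hd'e]; group
      rw [e3]
      exact mul_mem (conj_mem_of_normalizer (b.NV_le_ND hζV') hd') (inv_mem hd')
    have h7 := s.cap b τ hF h5 ⟨_, h6, 1, one_mem _, by rw [mul_one]⟩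
    have h8 := conj_mem_of_normalizer hmR h7
    rwa [show m0 * (m0⁻¹ * (z * f * z⁻¹ * f⁻¹) * m0) * m0⁻¹ = z * f * z⁻¹ * f⁻¹ by group] at h8
  -- `[ξ, f] ∈ R i`
  have h4 : ξ * f * ξ⁻¹ * f⁻¹ ∈ R i := by
    have h5 : z * d' * z⁻¹ * d'⁻¹ ∈ V := b.XD hzX hd'
    have e3 : ξ * f * ξ⁻¹ * f⁻¹ = m0 * (z * d' * z⁻¹ * d'⁻¹) * m0⁻¹ := by rw [hξ, hf]; group
    have h6 : ξ * f * ξ⁻¹ * f⁻¹ ∈ cj p' V := by
      rw [e3, ← h1]
      exact conj_mem_cj h5
    have h7 : ξ * f * ξ⁻¹ * f⁻¹ ∈ DD V R :=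
      mul_mem (conj_mem_of_normalizer (b.NV_le_ND hζV) hfD) (inv_mem hfD)
    exact s.cap b τ hF h6 ⟨_, h7, 1, one_mem _, by rw [mul_one]⟩
  have h5 : z * ξ * f * (z * ξ)⁻¹ * f⁻¹ ∈ R i := by
    rw [show z * ξ * f * (z * ξ)⁻¹ * f⁻¹ = (z * (ξ * f * ξ⁻¹ * f⁻¹) * z⁻¹) * (z * f * z⁻¹ * f⁻¹) by group]
    exact mul_mem (conj_mem_of_normalizer hzR h4) h3
  rw [e2]
  refine hmul l (line_le_WN s.mem hl) _ (s.tt_line b τ c hm h1 ha hl) (hmul v (V_le_WN V P hv) _ ?_ h5)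
  exact s.tt_V b τ c hm h2 ha hv

end dg

end Sc

/-! ### `P_W` centralises `Sh ∩ C_X` -/

namespace SigL

variable (L : SigL V R i j P)
include L

theorem PW_comm (b : BT V R) {p k : G} (hp : p ∈ PW V R i P) (hk : k ∈ Sh V R P ⊓ CenX V R) : p * k = k * p := by
  have h1 : k ∈ centralizer (PW V R i P : Set G) := by
    refine L.PW_cen b fun q hq => ?_
    have h1 : q * k * q⁻¹ ∈ Sh V R P := conj_mem_of_normalizer (P_norm_Sh hq) hk.1
    have h2 : q * k * q⁻¹ ∈ centralizer (WW V (R i) : Set G) := by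
      have h3 := conj_mem_cj (g := q) (cen_X_le i hk.2)
      rwa [← centralizer_cj, L.cj_W hq] at h3
    obtain ⟨a, ha, h3⟩ := L.Sh_C h1 h2
    refine mem_inf.2 ⟨?_, h2⟩
    have e : q * k * q⁻¹ = a⁻¹ * (a * (q * k * q⁻¹)) := by group
    rw [e]
    refine mul_mem (inv_mem ?_) ((centralizer_le YY_le_XX) h3.2)
    rw [mem_centralizer_iff]
    intro y hy
    exact (mem_centralizer_iff.1 (YY_le_cen hy) a (b.R_le i ha)).symm
  exact mem_centralizer_iff.1 h1 p hp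

end SigL

theorem CenX_norm_WN (n : Nd V R i j P) : Sh V R P ⊓ CenX V R ≤ normalizer (WN V P : Set G) :=
  (inf_le_right.trans ((cen_X_le i).trans (centralizer_le n.WN_le_W))).trans (centralizer_le_normalizer _)

theorem mem_SK (n : Nd V R i j P) {x : G} (hx : x ∈ SK V R P) : ∃ w ∈ WN V P, ∃ k ∈ Sh V R P ⊓ CenX V R, x = w * k :=
  mem_sup_of_norm (CenX_norm_WN n) hx

/-- `Y ∩ C_X ≤ D` -/
theorem Y_CenX (b : BT V R) {E : Type u} [AddCommGroup E] [Module F E] {P1 P2 : G → E}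
    (y : YPair V R i j w1 w2 E P1 P2) (c : Coord V R i j vv w1 w2) {k : G} (hk : k ∈ YY V R) (hC : k ∈ CenX V R) :
    k ∈ DD V R := by
  have _ := b
  have e1 : w1 1 * k * (w1 1)⁻¹ = k := by
    rw [mem_centralizer_iff.1 hC _ (W_le_X V R i (c.w1_mem 1)), mul_inv_cancel_right]
  have e2 : w2 1 * k * (w2 1)⁻¹ = k := by
    rw [mem_centralizer_iff.1 hC _ (W_le_X V R j (c.w2_mem 1)), mul_inv_cancel_right]
  have h1 := y.w11 1 k hk
  have h2 := y.w22 1 k hk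
  rw [e1, one_smul] at h1
  rw [e2, one_smul] at h2
  exact (y.mem_D k hk).2 ⟨left_eq_add.1 h2, left_eq_add.1 h1⟩

namespace Sc

variable {p' : G} (s : Sc V R i j vv t P p') (b : BTS V R) (τ : TorD V R i j vv t) (c : Coord V R i j vv w1 w2)
include s b

/-- the field `SD` -/
theorem SK_D {E : Type u} [AddCommGroup E] [Module F E] {P1 P2 : G → E} (y : YPair V R i j w1 w2 E P1 P2)
    (c : Coord V R i j vv w1 w2) : SK V R P ⊓ WW V (R j) ≤ DD V R := by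
  rintro x ⟨hx, hxW⟩
  obtain ⟨n, hn, k, hk, rfl⟩ := mem_SK s.toNd hx
  have hnU := s.WN_le_U b hn
  have hxU : n * k ∈ UU V R j := mem_inf.2 ⟨hxW, mul_mem (UU_le_cen i hnU) (BT.CenX_le_cen b.toBT hk.2)⟩
  have hkY : k ∈ YY V R := by
    have e : k = n⁻¹ * (n * k) := by group
    rw [e]
    exact mul_mem (inv_mem (UU_le_YY i hnU)) (UU_le_YY j hxU)
  have hkD := Y_CenX b.toBT y c hkY hk.2
  refine mul_mem ?_ hkD
  rw [b.D_eq' s.hij]
  refine mem_inf.2 ⟨UU_le_WW i hnU, ?_⟩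
  have e : n = (n * k) * k⁻¹ := by group
  rw [e]
  exact mul_mem hxW (inv_mem (D_le_W V R j hkD))

include τ c

/-- the field `triv` -/
theorem PW_Sh [Finite G] {m : G} (sw : Sw V R i j t m) {E : Type u} [AddCommGroup E] [Module F E] {P1 P2 : G → E}
    (y : YPair V R i j w1 w2 E P1 P2) (L : SigL V R i j P) (hF : ∃ a : F, a ≠ 0 ∧ a ≠ 1)
    (hXV : XX V R ⊓ centralizer (V : Set G) ≤ YY V R)
    (hK2 : ∀ w ∈ WW V (R i), ∀ x ∈ cj p' V, ∃ n ∈ WN V P, ∃ z ∈ ZZ V R i,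
      w * (m⁻¹ * x * m) * w⁻¹ * (m⁻¹ * x * m)⁻¹ = n * z)
    (H4 : ∀ p ∈ PW V R i P, ∀ x ∈ cj p' V, ∃ n ∈ WN V P, ∃ z ∈ ZZ V R i,
      p * (m⁻¹ * x * m) * p⁻¹ * (m⁻¹ * x * m)⁻¹ = n * z) {p x : G} (hp : p ∈ PW V R i P) (hx : x ∈ Sh V R P) :
    p * x * p⁻¹ * x⁻¹ ∈ SK V R P := by
  have hpP := s.PW_le b.toBT hp
  have h1 : p * x * p⁻¹ * x⁻¹ ∈ Sh V R P := mul_mem (conj_mem_of_normalizer (P_norm_Sh hpP) hx) (inv_mem hx)
  have h2 : p * x * p⁻¹ * x⁻¹ ∈ QQ (R i) := by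
    obtain ⟨σ, hσ, k, hk, rfl⟩ := L.Sh_fact hx
    obtain ⟨l, hl, n, hn, ψ, hψ, rfl⟩ := s.S0_fact b τ sw c y hF hXV hK2 hσ
    have hψ' : ψ ∈ Sh V R P ⊓ CenX V R := mem_inf.2 ⟨S0_le_Sh hψ.1, hψ.2.2⟩
    have hkψ : ψ * k ∈ Sh V R P ⊓ CenX V R := mul_mem hψ' hk
    have e3 := L.PW_comm b.toBT hp hkψ
    obtain ⟨n', hn', z', hz', e4⟩ := H4 p hp l hl
    set u := m⁻¹ * l * m with hu
    have huP : u ∈ P := s.UP (conj_U' b sw (s.leU hl))
    have e5 : p * (u * n * ψ * k) * p⁻¹ * (u * n * ψ * k)⁻¹ = (p * u * p⁻¹ * u⁻¹) * (u * (p * n * p⁻¹ * n⁻¹) * u⁻¹) := by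
      calc p * (u * n * ψ * k) * p⁻¹ * (u * n * ψ * k)⁻¹
          = p * u * n * ((ψ * k) * p⁻¹) * (ψ * k)⁻¹ * n⁻¹ * u⁻¹ := by group
        _ = p * u * n * (p⁻¹ * (p * (ψ * k)) * p⁻¹) * (ψ * k)⁻¹ * n⁻¹ * u⁻¹ := by group
        _ = p * u * n * (p⁻¹ * ((ψ * k) * p) * p⁻¹) * (ψ * k)⁻¹ * n⁻¹ * u⁻¹ := by rw [e3]
        _ = _ := by group
    rw [e5, e4]
    have hWQ : ∀ g ∈ WN V P, g ∈ QQ (R i) := fun g hg => b.W_le_Q i (s.WN_le_W hg)
    refine mul_mem (mul_mem (hWQ _ hn') (b.W_le_Q i hz'.1)) (hWQ _ ?_)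
    exact conj_mem_of_normalizer (P_norm_WN huP) (mul_mem (conj_mem_of_normalizer (P_norm_WN hpP) hn) (inv_mem hn))
  obtain ⟨n, hn, k, hk, e⟩ := L.Sh_Q b h1 h2
  rw [e]
  exact mul_mem ((le_sup_left : WN V P ≤ _) hn) ((le_sup_right : Sh V R P ⊓ CenX V R ≤ _) hk)

/-- **`AptH`** -/
theorem aptH [Finite G] {m : G} (sw : Sw V R i j t m) {E : Type u} [AddCommGroup E] [Module F E] {P1 P2 : G → E}
    (y : YPair V R i j w1 w2 E P1 P2) (lin : Lin V R i P vv m p')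
    (hXV : XX V R ⊓ centralizer (V : Set G) ≤ YY V R)
    (hK2 : ∀ w ∈ WW V (R i), ∀ x ∈ cj p' V, ∃ n ∈ WN V P, ∃ z ∈ ZZ V R i,
      w * (m⁻¹ * x * m) * w⁻¹ * (m⁻¹ * x * m)⁻¹ = n * z)
    (H4 : ∀ p ∈ PW V R i P, ∀ x ∈ cj p' V, ∃ n ∈ WN V P, ∃ z ∈ ZZ V R i,
      p * (m⁻¹ * x * m) * p⁻¹ * (m⁻¹ * x * m)⁻¹ = n * z)
    {O : Subgroup G} (OP : O ≤ PW V R i P) (OK : O ≤ cmod (R i) (WN V P))
    (PO : PW V R i P ≤ normalizer (O : Set G)) (OT : ∀ a, a ≠ 0 → t a ∈ normalizer (O : Set G))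
    (two : IsPGroup 2 O) (perf : PW V R i P ≤ ⁅PW V R i P, PW V R i P⁆ ⊔ O)
    (lift : ∀ g : G, g ∈ normalizer (PW V R i P : Set G) → g ∈ normalizer (O : Set G) →
      (∀ x ∈ PW V R i P, g * x * g⁻¹ * x⁻¹ ∈ cmod (SN V R i P) (WN V P)) → ∀ x ∈ PW V R i P, g * x * g⁻¹ * x⁻¹ ∈ O)
    {m0 : G} (hm : m0 ∈ PW V R i P) (h1 : cj m0 V = cj p' V) (h2 : cj m0 (cj p' V) = V) {a : F} (ha : a ≠ 0)
    (ha1 : a ≠ 1) :
    AptH V R i j (PW V R i P) O (SK V R P) (Sh V R P) (cj p' V) (t a) m m0 := by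
  have hF : ∃ a : F, a ≠ 0 ∧ a ≠ 1 := ⟨a, ha, ha1⟩
  have L := s.sigL b τ sw c y hF lin hXV hK2 H4
  have hPWP := s.PW_le b.toBT
  have hmP := hPWP hm
  have hzX : t a ∈ XX V R := τ.memX a ha
  have hzV : t a ∈ normalizer (V : Set G) := b.X_le_NV hzX
  have hWNS : WN V P ≤ SK V R P := le_sup_left
  have hzK : ∀ k ∈ Sh V R P ⊓ CenX V R, t a * k = k * t a := fun k hk => mem_centralizer_iff.1 hk.2 _ hzX
  have hSN : SN V R i P ≤ WN V P := inf_le_left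
  exact
    { ne := s.hij
      zX := hzX
      zi := τ.normR ha
      zj := τ.normR' ha
      zo := τ.odd a ha
      tf := fun l hl h => tor_fix_bt b.toBT τ c ha ha1 hl h
      zR := fun r hr h => by
        obtain ⟨x, rfl⟩ := (τ.Ri r).1 hr
        have e : t a * t a * vv x 0 * (t a * t a)⁻¹ = t a * (t a * vv x 0 * (t a)⁻¹) * (t a)⁻¹ := by group
        rw [e, τ.act a _ _ ha, τ.act a _ _ ha, mul_zero, mul_zero] at h
        have h3 := (c.v_inj h).1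
        have h4 : (a * a - 1) * x = 0 := by linear_combination h3
        have h5 := (mul_eq_zero.1 h4).resolve_left (sub_ne_zero.2 (mul_self_ne_one b.toBT τ ha1))
        rw [h5, c.v_zero]
      ρX := sw.mX
      ρi := sw.m1
      ρj := sw.m2
      ρz := by
        have h3 := sw.mt a⁻¹ (inv_ne_zero ha)
        rw [τ.inv ha, inv_inv] at h3
        calc m⁻¹ * t a * m = m⁻¹ * (m * (t a)⁻¹ * m⁻¹) * m := by rw [h3]
          _ = (t a)⁻¹ := by group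
      PR := hPWP.trans s.PR
      zP := norm_PW (s.tP a ha) (b.NV_le_NY hzV) (normalizer_le_WW V (R i) (τ.normR ha))
      OP := OP
      OK := fun g hg => by
        obtain ⟨h3, h4⟩ := OK hg
        refine ⟨h3, fun x hx => ?_⟩
        obtain ⟨n, hn, k, hk, rfl⟩ := mem_SK s.toNd hx
        have e := L.PW_comm b.toBT (OP hg) hk
        have e2 : g * (n * k) * g⁻¹ * (n * k)⁻¹ = g * n * g⁻¹ * n⁻¹ := by
          calc g * (n * k) * g⁻¹ * (n * k)⁻¹ = g * n * (g⁻¹ * (g * k) * g⁻¹) * k⁻¹ * n⁻¹ := by group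
            _ = g * n * (g⁻¹ * (k * g) * g⁻¹) * k⁻¹ * n⁻¹ := by rw [e]
            _ = _ := by group
        rw [e2]
        exact h4 n hn
      PO := PO
      zO := OT a ha
      two := two
      perf := perf
      lift := fun g h3 h4 h5 => by
        refine lift g h3 h4 fun x hx => ?_
        obtain ⟨h6, h7⟩ := h5 x hx
        have h8 : ∀ n ∈ WN V P, g * x * g⁻¹ * x⁻¹ * n * (g * x * g⁻¹ * x⁻¹)⁻¹ * n⁻¹ ∈ SN V R i P := fun n hn =>
          R_le_SN b.toBT (h7 n (hWNS hn))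
        refine ⟨?_, h8⟩
        apply mem_normalizer_of_conj
        intro n hn
        have h9 := mul_mem (h8 n (hSN hn)) hn
        rwa [inv_mul_cancel_right] at h9
      XT := L.X_norm
      PT := hPWP.trans P_norm_Sh
      PS := fun g hg => by
        rw [← cj_eq_self_iff, cj_sup, cj_eq_self_iff.2 (P_norm_WN (hPWP hg))]
        congr 1
        have h3 : ∀ k ∈ Sh V R P ⊓ CenX V R, g * k * g⁻¹ = k := fun k hk => by
          rw [L.PW_comm b.toBT hg hk, mul_inv_cancel_right]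
        ext k
        rw [mem_cj]
        constructor
        · intro hk
          have h4 := h3 _ hk
          rw [show g * (g⁻¹ * k * g) * g⁻¹ = k by group] at h4
          rw [h4]
          exact hk
        · intro hk
          have h4 := h3 _ hk
          have h5 : g⁻¹ * k * g = k := by
            nth_rw 1 [← h4]
            group
          rw [h5]
          exact hk
      zS := by
        rw [← cj_eq_self_iff, cj_sup, cj_eq_self_iff.2 (s.t_norm_WN b τ ha), cj_inf,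
          cj_eq_self_iff.2 (L.X_norm hzX), cj_eq_self_iff.2 (BT.NV_le_NCenX b.toBT hzV)]
      com := fun _ hx _ hy => L.Sh_comm hx hy
      ST := sup_le (WN_le_S0.trans S0_le_Sh) inf_le_left
      VS := (V_le_WN V P).trans hWNS
      VS' := (line_le_WN s.mem).trans hWNS
      triv := fun x hx g hg => s.PW_Sh b τ c sw y L hF hXV hK2 H4 hx hg
      m0P := hm
      m0V := h1
      m0V' := h2
      zV' := cj_eq_self_iff.1 (s.t_line b τ ha)
      dg := fun x hx => by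
        obtain ⟨n, hn, k, hk, rfl⟩ := mem_SK s.toNd hx
        have e1 := L.PW_comm b.toBT hm hk
        have e2 := hzK k hk
        have e3 : t a * (m0 * t a * m0⁻¹) * k = k * (t a * (m0 * t a * m0⁻¹)) := by
          have e4 : m0⁻¹ * k = k * m0⁻¹ := by
            calc m0⁻¹ * k = m0⁻¹ * (k * m0) * m0⁻¹ := by group
              _ = m0⁻¹ * (m0 * k) * m0⁻¹ := by rw [e1]
              _ = _ := by group
          calc t a * (m0 * t a * m0⁻¹) * k = t a * m0 * t a * (m0⁻¹ * k) := by group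
            _ = t a * m0 * (t a * k) * m0⁻¹ := by rw [e4]; group
            _ = t a * (m0 * k) * t a * m0⁻¹ := by rw [e2]; group
            _ = (t a * k) * m0 * t a * m0⁻¹ := by rw [e1]; group
            _ = _ := by rw [e2]; group
        have e5 : t a * (m0 * t a * m0⁻¹) * (n * k) * (t a * (m0 * t a * m0⁻¹))⁻¹ * (n * k)⁻¹ =
            t a * (m0 * t a * m0⁻¹) * n * (t a * (m0 * t a * m0⁻¹))⁻¹ * n⁻¹ := by
          set ζ := t a * (m0 * t a * m0⁻¹) with hζ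
          calc ζ * (n * k) * ζ⁻¹ * (n * k)⁻¹ = ζ * n * (ζ⁻¹ * (ζ * k) * ζ⁻¹) * k⁻¹ * n⁻¹ := by group
            _ = ζ * n * (ζ⁻¹ * (k * ζ) * ζ⁻¹) * k⁻¹ * n⁻¹ := by rw [e3]
            _ = _ := by group
        rw [e5]
        exact s.dg_WN b τ c hmP h1 h2 ha hF hn
      SD := s.SK_D b y c
      lin := fun w hw y hy => s.lin_line τ c ha hw hy
      linV := fun w hw y hy => lin_V τ c ha hw hy
      VD := fun x hx => s.cap b τ hF hx.1 ⟨x, hx.2, 1, one_mem _, by rw [mul_one]⟩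
      dd := fun w hw => s.exists_d b τ c ha ha1 hw }

end Sc

end Cfsg.Agent.Omega.HOneQ
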