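import Cfsg.Agent.Omega.HOneQ.KerODiag
import Cfsg.Agent.Omega.Lie.Nodes.KerO

/-!
# II.0h1, split, `q ≥ 4`: the kernel of `P_W` on the node is central modulo `O = P_W ∩ U ∩ Q_x`

`K : QPx V R i B U Px P`, `P` the group of the node (`P = Px ∩ C(R i)`), `Q = PW V R i P`, `O = Q ⊓ (U ⊓ Qk B Px)`.

* `QGn`: `Q` is generated by the conjugates of `U0 ≤ U` under `Px`; `lift`, `perf` in this generality;
* `Sc.qpx_PW`, `Nd.qgn_PW`;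
* `Sc.OKH` : all facts together: `OP, OK, PO, PxO, OT, two, perf, lift`.
-/

set_option autoImplicit false
set_option linter.unusedSectionVars false

namespace Cfsg.Agent.Omega.HOneQ

open Subgroup Cfsg.Agent.Omega.BTwo Cfsg.Agent.ParSys
open Cfsg.Agent.Omega.Lie (TorD)
open Cfsg.Agent.Omega.Lie.Nodes (cmod NodeX QPx comm_of_sq_O)
open Cfsg.Agent.Omega.Lie.End

universe u v w

namespace KerO

variable {G : Type u} [Group G] {ι : Type w} {V : Subgroup G} {R : ι → Subgroup G} {i j : ι} {B U U0 Px Q : Subgroup G}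

/-- `Q` is generated by the conjugates of `U0 ≤ U` under `Px` -/
structure QGn (U0 U Px Q : Subgroup G) : Prop where
  U0U : U0 ≤ U
  U0Q : U0 ≤ Q
  gen : ∀ H : Subgroup G, (∀ g ∈ Px, ∀ u ∈ U0, g * u * g⁻¹ ∈ H) → Q ≤ H

variable (K : QPx V R i B U Px Q) (hg : QGn U0 U Px Q)
include K

/-- `O = Q ∩ U ∩ Q_x` -/
theorem PxO [Finite G] : Px ≤ normalizer ((Q ⊓ (U ⊓ Qk B Px) : Subgroup G) : Set G) := by
  intro g hg'
  rw [← cj_eq_self_iff, cj_inf, cj_eq_self_iff.2 (K.PnQ hg'), cj_eq_self_iff.2 (K.O_norm hg')]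

theorem O_two : IsPGroup 2 (Q ⊓ (U ⊓ Qk B Px) : Subgroup G) := K.O_two.to_le inf_le_right

include hg

/-- `[Qk B Px, Q] ≤ O` -/
theorem cen [Finite G] {z x : G} (hz : z ∈ Qk B Px) (hx : x ∈ Q) : z * x * z⁻¹ * x⁻¹ ∈ U ⊓ Qk B Px := by
  have hO := K.O_norm
  let H : Subgroup G :=
    { carrier := {x | x ∈ Px ∧ ∀ z ∈ Qk B Px, z * x * z⁻¹ * x⁻¹ ∈ U ⊓ Qk B Px}
      one_mem' := ⟨one_mem _, fun z _ => by
        rw [mul_one, mul_inv_cancel, one_mul, inv_one]; exact one_mem _⟩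
      mul_mem' := by
        rintro x x' ⟨hx, h1⟩ ⟨hx', h2⟩
        refine ⟨mul_mem hx hx', fun z hz => ?_⟩
        have e : z * (x * x') * z⁻¹ * (x * x')⁻¹ = (z * x * z⁻¹ * x⁻¹) * (x * (z * x' * z⁻¹ * x'⁻¹) * x⁻¹) := by group
        rw [e]
        exact mul_mem (h1 z hz) (BTwo.conj_mem_of_normalizer (hO hx) (h2 z hz))
      inv_mem' := by
        rintro x ⟨hx, h1⟩
        refine ⟨inv_mem hx, fun z hz => ?_⟩
        have e : z * x⁻¹ * z⁻¹ * x⁻¹⁻¹ = x⁻¹ * (z * x * z⁻¹ * x⁻¹)⁻¹ * x := by group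
        rw [e]
        exact BTwo.conj_inv_mem_of_normalizer (hO hx) (inv_mem (h1 z hz)) }
  have h1 : Q ≤ H := by
    refine hg.gen H fun g hg' u hu => ⟨mul_mem (mul_mem hg' (K.X.le (K.dat.UB (hg.U0U hu)))) (inv_mem hg'),
      fun z hz => ?_⟩
    have e : z * (g * u * g⁻¹) * z⁻¹ * (g * u * g⁻¹)⁻¹ =
        g * ((g⁻¹ * z * g) * u * (g⁻¹ * z * g)⁻¹ * u⁻¹) * g⁻¹ := by group
    rw [e]
    exact BTwo.conj_mem_of_normalizer (hO hg') (K.comm_U (Qk_conj hz hg') (hg.U0U hu))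
  exact (h1 hx).2 z hz

/-- `[τ, Q] ≤ Qk B Px` implies `[τ, Q] ≤ U ⊓ Qk B Px` -/
theorem hom [Finite G] {τ : G} (hτ : ∀ x ∈ Q, τ * x * τ⁻¹ * x⁻¹ ∈ Qk B Px) :
    ∀ x ∈ Q, τ * x * τ⁻¹ * x⁻¹ ∈ U ⊓ Qk B Px := by
  have hO := K.O_norm
  have hQO : Q ≤ normalizer ((U ⊓ Qk B Px : Subgroup G) : Set G) := K.QP.trans hO
  let H : Subgroup G :=
    { carrier := {x | x ∈ Q ∧ τ * x * τ⁻¹ * x⁻¹ ∈ U ⊓ Qk B Px}
      one_mem' := ⟨one_mem _, by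
        rw [mul_one, mul_inv_cancel, one_mul, inv_one]; exact one_mem _⟩
      mul_mem' := by
        rintro x x' ⟨hx, h1⟩ ⟨hx', h2⟩
        refine ⟨mul_mem hx hx', ?_⟩
        have e : τ * (x * x') * τ⁻¹ * (x * x')⁻¹ = (τ * x * τ⁻¹ * x⁻¹) * (x * (τ * x' * τ⁻¹ * x'⁻¹) * x⁻¹) := by group
        rw [e]
        exact mul_mem h1 (BTwo.conj_mem_of_normalizer (hQO hx) h2)
      inv_mem' := by
        rintro x ⟨hx, h1⟩
        refine ⟨inv_mem hx, ?_⟩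
        have e : τ * x⁻¹ * τ⁻¹ * x⁻¹⁻¹ = x⁻¹ * (τ * x * τ⁻¹ * x⁻¹)⁻¹ * x := by group
        rw [e]
        exact BTwo.conj_inv_mem_of_normalizer (hQO hx) (inv_mem h1) }
  have h1 : Q ≤ H := by
    refine hg.gen H fun g hg' u hu => ?_
    set x := g * u * g⁻¹ with hx
    have hxQ : x ∈ Q := BTwo.conj_mem_of_normalizer (K.PnQ hg') (hg.U0Q hu)
    refine ⟨hxQ, ?_⟩
    set κ := τ * x * τ⁻¹ * x⁻¹ with hκ
    have hκQ : κ ∈ Qk B Px := hτ x hxQ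
    -- `τ x^n τ⁻¹ ∈ O κ^n x^n`
    have hpow : ∀ n : ℕ, τ * x ^ n * τ⁻¹ * (κ ^ n * x ^ n)⁻¹ ∈ U ⊓ Qk B Px := by
      intro n
      induction n with
      | zero => simp
      | succ n ih =>
        have h2 : κ⁻¹ * x ^ n * κ⁻¹⁻¹ * (x ^ n)⁻¹ ∈ U ⊓ Qk B Px := cen K hg (inv_mem hκQ) (pow_mem hxQ n)
        have e : τ * x ^ (n + 1) * τ⁻¹ * (κ ^ (n + 1) * x ^ (n + 1))⁻¹ =
            (τ * x ^ n * τ⁻¹ * (κ ^ n * x ^ n)⁻¹) * (κ ^ n * κ * (κ⁻¹ * x ^ n * κ⁻¹⁻¹ * (x ^ n)⁻¹) *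
              (κ ^ n * κ)⁻¹) := by
          rw [pow_succ, pow_succ, hκ]
          group
        rw [e]
        exact mul_mem ih (BTwo.conj_mem_of_normalizer (hO (K.Qk_le_B.trans K.X.le (mul_mem (pow_mem hκQ n) hκQ))) h2)
    obtain ⟨m, hm⟩ := K.X.isP ⟨u, hg.U0U hu⟩
    have hm' : u ^ 2 ^ m = 1 := by simpa using congrArg Subtype.val hm
    have hxm : x ^ 2 ^ m = 1 := by rw [hx, conj_pow, hm', mul_one, mul_inv_cancel]
    have h3 := hpow (2 ^ m)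
    rw [hxm, mul_one, mul_one, mul_inv_cancel, one_mul] at h3
    have h4 : κ ^ 2 ^ m ∈ U := (mem_inf.1 (inv_mem_iff.1 h3)).1
    exact mem_inf.2 ⟨Lie.Zero.mem_U_of_two K.X.norm K.X.index (K.Qk_le_B hκQ) h4, hκQ⟩
  exact fun x hx => (h1 hx).2

/-- **lift** -/
theorem lift [Finite G] {c : G} (hcQ : c ∈ normalizer (Q : Set G)) (hc : ∀ x ∈ Q, c * x * c⁻¹ * x⁻¹ ∈ Qk B Px) :
    ∀ x ∈ Q, c * x * c⁻¹ * x⁻¹ ∈ Q ⊓ (U ⊓ Qk B Px) := fun x hx =>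
  mem_inf.2 ⟨mul_mem (BTwo.conj_mem_of_normalizer hcQ hx) (inv_mem hx), hom K hg hc x hx⟩

/-- `Q ≤ Q' O` from `U0 ≤ Q' (Q ⊓ Qk B Px)` -/
theorem perf_O [Finite G] (h : U0 ≤ ⁅Q, Q⁆ ⊔ (Q ⊓ Qk B Px)) : Q ≤ ⁅Q, Q⁆ ⊔ (Q ⊓ (U ⊓ Qk B Px)) := by
  have hO := PxO K
  have hPQ := K.PnQ
  have hPC : Px ≤ normalizer ((⁅Q, Q⁆ : Subgroup G) : Set G) := by
    intro x hx
    rw [← cj_eq_self_iff]
    have h1 := cj_eq_self_iff.2 (hPQ hx)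
    conv_rhs => rw [← h1]
    exact map_commutator Q Q _
  have hPn : Px ≤ normalizer ((⁅Q, Q⁆ ⊔ (Q ⊓ (U ⊓ Qk B Px)) : Subgroup G) : Set G) := by
    intro x hx
    rw [← cj_eq_self_iff, cj_sup, cj_eq_self_iff.2 (hPC hx), cj_eq_self_iff.2 (hO hx)]
  refine hg.gen _ fun g hg' u hu => BTwo.conj_mem_of_normalizer (hPn hg') ?_
  -- `u = c κ`
  have h1 : u ∈ ((⁅Q, Q⁆ ⊔ (Q ⊓ Qk B Px) : Subgroup G) : Set G) := h hu
  rw [coe_mul_of_right_le_normalizer_left _ _ (inf_le_left.trans (K.QP.trans hPC))] at h1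
  obtain ⟨c, hc, κ, hκ, e⟩ := h1
  have e' : c * κ = u := e
  have hκQ : κ ∈ Qk B Px := (mem_inf.1 hκ).2
  have hκQ' : κ ∈ Q := (mem_inf.1 hκ).1
  set n := U.relIndex B with hn
  have hκn : κ ^ n ∈ Q ⊓ (U ⊓ Qk B Px) :=
    mem_inf.2 ⟨pow_mem hκQ' n, mem_inf.2 ⟨Hall.pow_relIndex_mem K.X.norm (K.Qk_le_B hκQ), pow_mem hκQ n⟩⟩
  have hCn : Q ≤ normalizer ((⁅Q, Q⁆ : Subgroup G) : Set G) := K.QP.trans hPC
  have hun : ∀ n : ℕ, (κ ^ n)⁻¹ * u ^ n ∈ ⁅Q, Q⁆ := by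
    intro n
    refine Lie.Nodes.Apt.pow_coset (hCn hκQ') ?_ n
    rw [← e', ← mul_assoc]
    exact BTwo.conj_inv_mem_of_normalizer (hCn hκQ') hc
  have h2 : u ^ n ∈ ⁅Q, Q⁆ ⊔ (Q ⊓ (U ⊓ Qk B Px)) := by
    have h3 := mul_mem ((le_sup_right : _ ≤ ⁅Q, Q⁆ ⊔ (Q ⊓ (U ⊓ Qk B Px))) hκn)
      ((le_sup_left : _ ≤ ⁅Q, Q⁆ ⊔ (Q ⊓ (U ⊓ Qk B Px))) (hun n))
    rwa [mul_inv_cancel_left] at h3
  obtain ⟨m, hm⟩ := K.X.isP ⟨u, hg.U0U hu⟩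
  have hm' : u ^ 2 ^ m = 1 := by simpa using congrArg Subtype.val hm
  have hco : Nat.Coprime n (2 ^ m) := (K.X.index.symm).pow_right m
  exact Hall.mem_of_pow_mem_of_coprime (a := n) (b := 2 ^ m) h2 (by rw [hm']; exact one_mem _) hco

omit hg in
/-- `[z², u] ∈ Q' (Q ∩ Q_x)` if `z z^m` centralises `Q` modulo the kernel of the panel, `m ∈ Q` -/
theorem sq_comm {z m : G} (hz : z ∈ Px) (hm : m ∈ Q)
    (hc : ∀ x ∈ Q, (z * (m * z * m⁻¹)) * x * (z * (m * z * m⁻¹))⁻¹ * x⁻¹ ∈ Qk B Px) {u : G} (hu : u ∈ Q) :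
    z * z * u * (z * z)⁻¹ * u⁻¹ ∈ ⁅Q, Q⁆ ⊔ (Q ⊓ Qk B Px) := by
  have hzQ := K.PnQ hz
  have hC : ∀ x ∈ Q, ∀ x' ∈ Q, x * x' * x⁻¹ * x'⁻¹ ∈ ⁅Q, Q⁆ := fun x hx x' hx' =>
    commutator_mem_commutator hx hx'
  have hzC : ∀ x ∈ ⁅Q, Q⁆, z * x * z⁻¹ ∈ ⁅Q, Q⁆ := by
    intro x hx
    have h1 := cj_eq_self_iff.2 hzQ
    have h2 : cj z ⁅Q, Q⁆ = ⁅Q, Q⁆ := by
      conv_rhs => rw [← h1]
      exact map_commutator Q Q _
    rw [← h2]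
    exact conj_mem_cj hx
  have hzK : ∀ x ∈ Q ⊓ Qk B Px, z * x * z⁻¹ ∈ Q ⊓ Qk B Px := fun x hx =>
    mem_inf.2 ⟨BTwo.conj_mem_of_normalizer hzQ (mem_inf.1 hx).1, Qk_conj' (mem_inf.1 hx).2 hz⟩
  set w := z⁻¹ * u * z with hw
  have hwQ : w ∈ Q := BTwo.conj_inv_mem_of_normalizer hzQ hu
  set x0 := m * u * m⁻¹ with hx0
  have hx0Q : x0 ∈ Q := mul_mem (mul_mem hm hu) (inv_mem hm)
  have hmwQ : m * w * m⁻¹ ∈ Q := mul_mem (mul_mem hm hwQ) (inv_mem hm)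
  have h1 : z * x0 * z⁻¹ * (m * w * m⁻¹)⁻¹ ∈ Q ⊓ Qk B Px := by
    have h2 := hc _ hmwQ
    have e1 : (z * (m * z * m⁻¹)) * (m * w * m⁻¹) * (z * (m * z * m⁻¹))⁻¹ * (m * w * m⁻¹)⁻¹ =
        z * x0 * z⁻¹ * (m * w * m⁻¹)⁻¹ := by
      rw [hw, hx0]
      group
    rw [e1] at h2
    exact mem_inf.2 ⟨mul_mem (BTwo.conj_mem_of_normalizer hzQ hx0Q) (inv_mem hmwQ), h2⟩
  have h2 : z * (x0 * u⁻¹)⁻¹ * z⁻¹ ∈ ⁅Q, Q⁆ := hzC _ (inv_mem (hC _ hm _ hu))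
  have h3 : m * w * m⁻¹ * w⁻¹ ∈ ⁅Q, Q⁆ := hC _ hm _ hwQ
  have e2 : z * z * u * (z * z)⁻¹ * u⁻¹ =
      (z * (z * (x0 * u⁻¹)⁻¹ * z⁻¹) * z⁻¹) * (z * (z * x0 * z⁻¹ * (m * w * m⁻¹)⁻¹) * z⁻¹) *
        (z * (m * w * m⁻¹ * w⁻¹) * z⁻¹) := by
    rw [hw]
    group
  rw [e2]
  exact mul_mem (mul_mem ((le_sup_left : _ ≤ ⁅Q, Q⁆ ⊔ (Q ⊓ Qk B Px)) (hzC _ h2))
    ((le_sup_right : _ ≤ ⁅Q, Q⁆ ⊔ (Q ⊓ Qk B Px)) (hzK _ h1)))
    ((le_sup_left : _ ≤ ⁅Q, Q⁆ ⊔ (Q ⊓ Qk B Px)) (hzC _ h3))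

end KerO

variable {G : Type u} [Group G] {ι : Type w} {V : Subgroup G} {R : ι → Subgroup G} {i j : ι} {P B U Px : Subgroup G}
  {F : Type v} [Field F] {vv : F → F → G} {t : F → G} {w1 w2 : F → G}

/-- `[w, v] ∈ R i` for `w ∈ U`, `v ∈ V` -/
theorem U_V (b : BT V R) (hd : Lie.Zero.Dat V R i B U) {u x : G} (hu : u ∈ U) (hx : x ∈ V) :
    u * x * u⁻¹ * x⁻¹ ∈ R i := by
  obtain ⟨w, hw, hc⟩ := hd.UC u hu
  have h1 := mem_centralizer_iff.1 hc x hx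
  have e : u * x * u⁻¹ * x⁻¹ = w * x * w⁻¹ * x⁻¹ := by
    have e1 : u * x * u⁻¹ * x⁻¹ = w * ((w⁻¹ * u) * x) * (w⁻¹ * u)⁻¹ * w⁻¹ * x⁻¹ := by group
    rw [e1, ← h1]; group
  rw [e]
  exact b.WW_comm i hw (V_le_WW V (R i) hx)

namespace Nd

variable [Finite G] (n : Nd V R i j P) (b : BTS V R) (K : QPx V R i B U Px P)
include n b K

/-- `QPx` for `P_W` -/
theorem qpx_PW : QPx V R i B U Px (PW V R i P) where
  dat := K.dat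
  X := K.X
  QP := (n.PW_le b.toBT).trans K.QP
  BQ := fun x hx => norm_PW (K.BQ hx) (b.toBT.NV_le_NY (K.dat.BV hx)) (normalizer_le_WW V (R i) (K.dat.BR hx))
  PQ := by
    have hB : B ≤ normalizer (PW V R i P : Set G) := fun x hx =>
      norm_PW (K.BQ hx) (b.toBT.NV_le_NY (K.dat.BV hx)) (normalizer_le_WW V (R i) (K.dat.BR hx))
    intro x hx
    obtain ⟨z, hz, hzx⟩ := K.exists_mul hx
    obtain ⟨q, hq, e⟩ := n.exists_PW hz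
    have h1 : q⁻¹ * z ∈ B := by
      refine K.X.PV (mem_inf.2 ⟨mul_mem (inv_mem (K.QP (n.PW_le b.toBT hq))) (K.QP hz), ?_⟩)
      rw [← cj_eq_self_iff, cj_mul, ← e, cj_inv_cj]
    have e2 : x = q * ((q⁻¹ * z) * (z⁻¹ * x)) := by group
    rw [e2]
    exact mul_mem (mem_sup_left hq) (mem_sup_right (mul_mem h1 hzx))

theorem qgn_PW : KerO.QGn (YY V R ⊔ WW V (R i)) U Px (PW V R i P) where
  U0U := sup_le K.X.YU K.dat.WU
  U0Q := YW_le_PW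
  gen := fun H hH => by
    have _ := n
    have _ := b
    refine iSup_le fun p => ?_
    rw [cj_le_iff]
    exact fun u hu => hH p (K.QP p.2) u hu

/-- the kernel of `P_W` on `W_N / (W_N ∩ Z_i)` is in the kernel of the panel -/
theorem KN_le_Qk {x : G} (hx : x ∈ PW V R i P) (hxc : ∀ y ∈ WN V P, x * y * x⁻¹ * y⁻¹ ∈ ZZ V R i) :
    x ∈ Qk B Px := by
  have hPW := n.PW_le b.toBT
  have K' := n.qpx_PW b K
  rw [mem_Qk]
  intro g hg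
  obtain ⟨q, hq, hqg⟩ := K'.exists_mul hg
  have h1 : cj (x * q) V = cj q V := by
    refine n.inj b (mul_mem (hPW hx) (hPW hq)) (hPW hq) ?_
    rw [cj_mul, cj_le_iff]
    intro y hy
    have e : x * y * x⁻¹ = (x * y * x⁻¹ * y⁻¹) * y := by group
    rw [e]
    exact mul_mem ((le_sup_right : ZZ V R i ≤ _) (hxc y (line_le_WN (hPW hq) hy))) ((le_sup_left : cj q V ≤ _) hy)
  have h2 : q⁻¹ * x * q ∈ B := by
    refine K.X.PV (mem_inf.2 ⟨?_, ?_⟩)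
    · exact mul_mem (mul_mem (inv_mem (K'.QP hq)) (K'.QP hx)) (K'.QP hq)
    · rw [← cj_eq_self_iff, show q⁻¹ * x * q = q⁻¹ * (x * q) by group, cj_mul, h1, cj_inv_cj]
  have e : g⁻¹ * x * g = (q⁻¹ * g)⁻¹ * (q⁻¹ * x * q) * (q⁻¹ * g) := by group
  rw [e]
  exact mul_mem (mul_mem (inv_mem hqg) h2) hqg

/-- `U ∩ Q_x` is trivial on `W_N / R i` -/
theorem O_le_cmod (hcomm : ∀ x ∈ WN V P, ∀ y ∈ WN V P, x * y = y * x) :
    PW V R i P ⊓ (U ⊓ Qk B Px) ≤ cmod (R i) (WN V P) := by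
  intro o ho
  have hoP : o ∈ P := n.PW_le b.toBT ho.1
  have hoN : o ∈ normalizer (R i : Set G) := n.P_le_N hoP
  refine ⟨hoN, ?_⟩
  have hA : ∀ x ∈ WN V P, o * x * o⁻¹ ∈ WN V P := fun x hx => BTwo.conj_mem_of_normalizer (P_norm_WN hoP) hx
  have h1 : WN V P ≤ KerO.fx (WN V P) (R i) hcomm o hA := by
    refine WN_le fun p hp => ?_
    rw [cj_le_iff]
    intro x hx
    refine ⟨line_le_WN hp (conj_mem_cj hx), ?_⟩
    have h2 : p⁻¹ * o * p ∈ U ⊓ Qk B Px := BTwo.conj_inv_mem_of_normalizer (K.O_norm (K.QP hp)) ho.2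
    have h3 := U_V b.toBT K.dat h2.1 hx
    have h4 := n.conj_R hp h3
    have e : o * (p * x * p⁻¹) * o⁻¹ * (p * x * p⁻¹)⁻¹ =
        p * ((p⁻¹ * o * p) * x * (p⁻¹ * o * p)⁻¹ * x⁻¹) * p⁻¹ := by group
    rw [e, h4]
    exact h3
  exact fun y hy => (h1 hy).2

end Nd

/-- **the facts on `O = P_W ∩ U ∩ Q_x`** -/
structure OKH (V : Subgroup G) (R : ι → Subgroup G) (i : ι) (P B U Px : Subgroup G) (t : F → G) : Prop where
  OP : PW V R i P ⊓ (U ⊓ Qk B Px) ≤ PW V R i P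
  OK : PW V R i P ⊓ (U ⊓ Qk B Px) ≤ cmod (R i) (WN V P)
  PO : PW V R i P ≤ normalizer ((PW V R i P ⊓ (U ⊓ Qk B Px) : Subgroup G) : Set G)
  PxO : Px ≤ normalizer ((PW V R i P ⊓ (U ⊓ Qk B Px) : Subgroup G) : Set G)
  OT : ∀ a : F, a ≠ 0 → t a ∈ normalizer ((PW V R i P ⊓ (U ⊓ Qk B Px) : Subgroup G) : Set G)
  two : IsPGroup 2 (PW V R i P ⊓ (U ⊓ Qk B Px) : Subgroup G)
  perf : PW V R i P ≤ ⁅PW V R i P, PW V R i P⁆ ⊔ (PW V R i P ⊓ (U ⊓ Qk B Px))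
  lift : ∀ c : G, c ∈ normalizer (PW V R i P : Set G) → (∀ x ∈ PW V R i P, c * x * c⁻¹ * x⁻¹ ∈ cmod (SN V R i P) (WN V P)) →
    ∀ x ∈ PW V R i P, c * x * c⁻¹ * x⁻¹ ∈ PW V R i P ⊓ (U ⊓ Qk B Px)

namespace Sc

variable {p' : G} (s : Sc V R i j vv t P p') (b : BTS V R) (τ : TorD V R i j vv t) (c : Coord V R i j vv w1 w2)
  (K : QPx V R i B U Px P)
include s b

theorem sc_lift [Finite G] (K : QPx V R i B U Px P) {g : G} (hgQ : g ∈ normalizer (PW V R i P : Set G))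
    (hg : ∀ x ∈ PW V R i P, g * x * g⁻¹ * x⁻¹ ∈ cmod (SN V R i P) (WN V P)) :
    ∀ x ∈ PW V R i P, g * x * g⁻¹ * x⁻¹ ∈ PW V R i P ⊓ (U ⊓ Qk B Px) := by
  refine KerO.lift (s.toNd.qpx_PW b K) (s.toNd.qgn_PW b K) hgQ fun x hx => ?_
  exact s.toNd.KN_le_Qk b K (mul_mem (BTwo.conj_mem_of_normalizer hgQ hx) (inv_mem hx)) fun y hy => ((hg x hx).2 y hy).2

include τ c K

/-- **the facts on `O`** -/
theorem okh [Finite G] [CharP F 2] (hF : ∃ a : F, a ≠ 0 ∧ a ≠ 1) : OKH V R i P B U Px t := by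
  have K' := s.toNd.qpx_PW b K
  have hgn := s.toNd.qgn_PW b K
  have hPxO := KerO.PxO K'
  have htP : ∀ a, a ≠ 0 → t a ∈ Px := fun a ha => K.X.le (Lie.Zero.t_mem_B b.toBT K.dat τ ha)
  refine
    { OP := inf_le_left
      OK := s.toNd.O_le_cmod b K fun x hx y hy => s.WN_comm b hx hy
      PO := K'.QP.trans hPxO
      PxO := hPxO
      OT := fun a ha => hPxO (htP a ha)
      two := KerO.O_two K'
      perf := ?_
      lift := fun g hgQ hg => s.sc_lift b K hgQ hg }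
  refine KerO.perf_O K' hgn ?_
  obtain ⟨m0, hm0, h1, h2⟩ := s.toNd.exists_swap b.toBT s.mem
  have hm0P := s.PW_le b.toBT hm0
  have hWQ : WW V (R i) ≤ PW V R i P ⊓ Qk B Px :=
    le_inf WW_le_PW (Lie.Nodes.W_le_Qx (P := fun _ : Unit => Px) (x := ()) K.dat K.X)
  -- `U_j ≤ Q' (Q ∩ Q_x)`
  have hUj : UU V R j ≤ ⁅PW V R i P, PW V R i P⁆ ⊔ (PW V R i P ⊓ Qk B Px) := by
    obtain ⟨a, ha, ha1⟩ := hF
    have ha' : a⁻¹ ≠ 0 := inv_ne_zero ha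
    set z := t a⁻¹ with hz
    have hzPx := htP _ ha'
    have hzP : z ∈ normalizer (P : Set G) := s.tP _ ha'
    have hzN : z ∈ normalizer (PW V R i P : Set G) := K'.PnQ hzPx
    -- `z z^{m₀}` centralises `P_W` modulo the kernel
    have hc : ∀ x ∈ PW V R i P, (z * (m0 * z * m0⁻¹)) * x * (z * (m0 * z * m0⁻¹))⁻¹ * x⁻¹ ∈ Qk B Px := by
      intro x hx
      have hcm := s.tt_cmod b τ c hm0P h1 h2 ha'
      rw [← hz] at hcm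
      have hxP := s.PW_le b.toBT hx
      have hgN : z * (m0 * z * m0⁻¹) ∈ normalizer (PW V R i P : Set G) :=
        mul_mem hzN (mul_mem (mul_mem (le_normalizer hm0) hzN) (inv_mem (le_normalizer hm0)))
      refine s.toNd.KN_le_Qk b K (mul_mem (BTwo.conj_mem_of_normalizer hgN hx) (inv_mem hx)) ?_
      -- `cmod` is normalised by `x`
      have h3 : x * (z * (m0 * z * m0⁻¹))⁻¹ * x⁻¹ ∈ cmod (SN V R i P) (WN V P) :=
        BTwo.conj_mem_of_normalizer (Lie.Nodes.norm_cmod (s.toNd.P_norm_SN hxP) (P_norm_WN hxP)) (inv_mem hcm)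
      intro y hy
      have h4 := mul_mem hcm h3
      have e : (z * (m0 * z * m0⁻¹)) * x * (z * (m0 * z * m0⁻¹))⁻¹ * x⁻¹ =
          (z * (m0 * z * m0⁻¹)) * (x * (z * (m0 * z * m0⁻¹))⁻¹ * x⁻¹) := by group
      rw [e]
      exact (h4.2 y hy).2
    intro u' hu'
    -- `c = a² + 1`
    have hc2 : a * a + 1 ≠ 0 := by
      intro h
      have h3 : (a + 1) * (a + 1) = 0 := by
        have : (2 : F) = 0 := CharP.cast_eq_zero F 2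
        linear_combination h + a * this
      have h4 := mul_self_eq_zero.1 h3
      exact ha1 (by
        have h5 : a = -1 := eq_neg_of_add_eq_zero_left h4
        rw [h5, CharTwo.neg_eq])
    set u := t (a * a + 1) * u' * (t (a * a + 1))⁻¹ with hu
    have hNU : ∀ a, a ≠ 0 → ∀ x ∈ UU V R j, t a * x * (t a)⁻¹ ∈ UU V R j := by
      intro a ha x hx
      rw [← b.toBT.cj_UU (b.toBT.X_le_NV (τ.memX a ha)) (cj_eq_self_iff.2 (τ.normR' ha))]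
      exact conj_mem_cj hx
    have huU : u ∈ UU V R j := hNU _ hc2 u' hu'
    have h3 := τ.wU' (a * a) 1 (mul_ne_zero ha ha) one_ne_zero hc2 u huU
    have e1 : (t (a * a + 1))⁻¹ * u * t (a * a + 1) = u' := by rw [hu]; group
    have e2 : (t (a * a))⁻¹ = z * z := by
      rw [τ.mul a a ha ha, hz, τ.inv ha]; group
    have e3 : t (a * a) = (z * z)⁻¹ := by rw [← e2, inv_inv]
    rw [e1, e2, e3, τ.one, inv_one, one_mul, mul_one] at h3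
    -- `h3 : u' (z z u (z z)⁻¹ u)⁻¹ ∈ D`
    have huQ : u ∈ PW V R i P := UU_le_PW j huU
    have h4 := KerO.sq_comm K' hzPx hm0 hc huQ
    have hDW : DD V R ≤ ⁅PW V R i P, PW V R i P⁆ ⊔ (PW V R i P ⊓ Qk B Px) :=
      (D_le_W V R i).trans (hWQ.trans le_sup_right)
    have hu2 : u * u ∈ DD V R := V_le_D V R (b.R_le j (b.W_sq j (UU_le_WW j huU)))
    have e4 : u' = (u' * (z * z * u * (z * z)⁻¹ * u)⁻¹) * ((z * z * u * (z * z)⁻¹ * u⁻¹) * (u * u)) := by group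
    rw [e4]
    exact mul_mem (hDW h3) (mul_mem h4 (hDW hu2))
  rw [b.toBT.Y_eq s.hij]
  exact sup_le (sup_le ((UU_le_WW i).trans (hWQ.trans le_sup_right)) hUj) (hWQ.trans le_sup_right)

end Sc

end Cfsg.Agent.Omega.HOneQ
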