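import Cfsg.Agent.Omega.HOneQ.ResP
import Cfsg.Agent.Omega.HOne.FqFacts

/-!
# II.0h1, split, `q ≥ 4`: (L2) of #15939

Given (S') (`[V_2', P_W] ≤ W_i`), the double centraliser `C_{W_i}(W⁰) ≤ W_N Z_i`, and the `F`-structure `Fq` of
`W_i / Z_i`: `p y p⁻¹ y⁻¹ ∈ W_N Z_i` for `p ∈ P_W`, `y ∈ V_2'` (`Sc.l2`).
-/

set_option autoImplicit false
set_option linter.unusedSectionVars false

namespace Cfsg.Agent.Omega.HOneQ

open Subgroup Cfsg.Agent.Omega.BTwo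
open Cfsg.Agent.Omega.Lie (TorD)
open Cfsg.Agent.Omega.Lie.Quot Cfsg.Agent.Omega.HOne.ModZ
open scoped Pointwise

universe u v w

variable {G : Type u} [Group G] {ι : Type w} {V : Subgroup G} {R : ι → Subgroup G} {i j : ι} {P : Subgroup G}
  {F : Type v} [Field F] {vv : F → F → G} {t : F → G} {w1 w2 : F → G}

/-- `P` normalises `W⁰` -/
theorem Nd.P_W0 (n : Nd V R i j P) {p w : G} (hp : p ∈ P) (hw : w ∈ W0 V R i P) : p * w * p⁻¹ ∈ W0 V R i P :=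
  mem_inf.2 ⟨conj_mem_of_normalizer (normalizer_le_WW V (R i) (n.P_le_N hp)) hw.1,
    conj_mem_of_normalizer (normalizer_le_normalizer_centralizer _ (P_norm_WN hp)) hw.2⟩

namespace Sc

section grp

variable {p' : G} (s : Sc V R i j vv t P p') (b : BTS V R) (τ : TorD V R i j vv t) {m : G} (sw : Sw V R i j t m)
  (c : Coord V R i j vv w1 w2)
include s b τ

/-- `P_W` centralises `R_i Psi` -/
theorem PW_RPsi (hF : ∃ a : F, a ≠ 0 ∧ a ≠ 1) {p a ψ : G} (hp : p ∈ PW V R i P) (ha : a ∈ R i)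
    (hψ : ψ ∈ Psi V R P) : p * (a * ψ) = a * ψ * p := by
  have h := s.PW_cen b.toBT (z := a * ψ) (fun x hx => ?_)
  · exact mem_centralizer_iff.1 h p hp
  have h1 : x * (a * ψ) * x⁻¹ ∈ WN V P :=
    conj_mem_of_normalizer (P_norm_WN hx) (mul_mem (V_le_WN V P (b.R_le i ha)) hψ.1)
  have h2 : x * (a * ψ) * x⁻¹ ∈ ZZ V R i := by
    refine conj_mem_of_normalizer (N_le_NZ i (s.P_le_N hx)) (mul_mem (BT.R_le_Z b.toBT i ha) ?_)
    exact mem_inf.2 ⟨D_le_W V R i (Psi_le_D hψ), cen_X_le i (Psi_le_CenX hψ)⟩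
  obtain ⟨a', ha', h3⟩ := s.WN_Z b τ hF h1 h2
  refine mem_inf.2 ⟨?_, h2.2⟩
  have e : x * (a * ψ) * x⁻¹ = a'⁻¹ * (a' * (x * (a * ψ) * x⁻¹)) := by group
  rw [e]
  refine mul_mem ?_ (centralizer_le YY_le_XX (Psi_le_CenX h3))
  exact centralizer_le YY_le_cen (le_centralizer_iff.1 le_rfl (b.R_le i (inv_mem ha')))

include sw in
theorem y2_S0 {x : G} (hx : x ∈ cj p' V) : m⁻¹ * x * m ∈ S0 V R P := by
  have h := cj_WN_le_S0 (V := V) (R := R) (P := P) (inv_mem sw.mX) (conj_mem_cj (line_le_WN s.mem hx))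
  rwa [inv_inv] at h

include sw c in
/-- `[h⁻¹ w h, y] = [w, y]` for `h ∈ N(V) ∩ P_W` -/
theorem K_inv (hF : ∃ a : F, a ≠ 0 ∧ a ≠ 1) (lin : Lin V R i P vv m p')
    (hXV : XX V R ⊓ centralizer (V : Set G) ≤ YY V R)
    (hK2 : ∀ w ∈ WW V (R i), ∀ x ∈ cj p' V, ∃ n ∈ WN V P, ∃ z ∈ ZZ V R i,
      w * (m⁻¹ * x * m) * w⁻¹ * (m⁻¹ * x * m)⁻¹ = n * z)
    {E : Type u} [AddCommGroup E] [Module F E] {P1 P2 : G → E} (y : YPair V R i j w1 w2 E P1 P2)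
    {x h w : G} (hx : x ∈ cj p' V) (hh : h ∈ PW V R i P) (hV : h ∈ normalizer (V : Set G)) (hw : w ∈ W0 V R i P)
    (hS : h * (m⁻¹ * x * m) * h⁻¹ * (m⁻¹ * x * m)⁻¹ ∈ WW V (R i)) :
    (h⁻¹ * w * h) * (m⁻¹ * x * m) * (h⁻¹ * w * h)⁻¹ * (m⁻¹ * x * m)⁻¹ =
      w * (m⁻¹ * x * m) * w⁻¹ * (m⁻¹ * x * m)⁻¹ := by
  have hhP := s.PW_le b.toBT hh
  have hy := s.y2_S0 b τ sw hx
  obtain ⟨a, ha, ψ, hψ, e1⟩ := s.key b τ sw hF lin hw hx
  have hw' : h⁻¹ * w * h ∈ W0 V R i P := by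
    have := s.P_W0 (inv_mem hhP) hw
    rwa [inv_inv] at this
  obtain ⟨a', ha', ψ', hψ', e2⟩ := s.key b τ sw hF lin hw' hx
  set y2 := m⁻¹ * x * m with hy2
  have hN : h ∈ normalizer (S0 V R P : Set G) := S0_norm (b.NV_le_NX hV) (P_norm_WN hhP)
  have hs0 : h * y2 * h⁻¹ * y2⁻¹ ∈ S0 V R P := mul_mem (conj_mem_of_normalizer hN hy) (inv_mem hy)
  obtain ⟨n, hn, χ, hχ, e3⟩ := s.S0_Q b τ sw c y hF hXV hK2 hs0 (b.W_le_Q i hS)
  set sh := h * y2 * h⁻¹ * y2⁻¹ with hsh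
  have c1 : w * sh = sh * w := by
    have k1 := W0_comm hw hn
    have k2 := mem_centralizer_iff.1 hχ.2.2 w (W_le_X V R i hw.1)
    rw [e3]
    calc w * (n * χ) = (w * n) * χ := by group
      _ = n * (w * χ) := by rw [k1]; group
      _ = _ := by rw [k2]; group
  have hz : a * ψ ∈ ZZ V R i := mul_mem (BT.R_le_Z b.toBT i ha)
    (mem_inf.2 ⟨D_le_W V R i (Psi_le_D hψ), cen_X_le i (Psi_le_CenX hψ)⟩)
  have c2 : a * ψ * sh = sh * (a * ψ) := z_comm hz hS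
  have c3 := s.PW_RPsi b τ hF hh ha' hψ'
  rw [e1, e2]
  have e4 : h * (a' * ψ') * h⁻¹ = a' * ψ' := by rw [c3, mul_inv_cancel_right]
  rw [← e4, ← e2]
  calc h * (h⁻¹ * w * h * y2 * (h⁻¹ * w * h)⁻¹ * y2⁻¹) * h⁻¹ = w * (sh * y2) * w⁻¹ * (sh * y2)⁻¹ := by
        rw [hsh]; group
    _ = (w * sh) * y2 * w⁻¹ * y2⁻¹ * sh⁻¹ := by group
    _ = sh * (w * y2 * w⁻¹ * y2⁻¹) * sh⁻¹ := by rw [c1]; group
    _ = a * ψ := by rw [e1, ← c2, mul_inv_cancel_right]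

include sw c in
/-- `[w, x_p] [w, y] = [p⁻¹ w p, y]`, `x_p = [p, y]` -/
theorem K_main (hF : ∃ a : F, a ≠ 0 ∧ a ≠ 1) (lin : Lin V R i P vv m p') {x p w : G} (hx : x ∈ cj p' V)
    (hp : p ∈ PW V R i P) (hw : w ∈ W0 V R i P)
    (hS : p * (m⁻¹ * x * m) * p⁻¹ * (m⁻¹ * x * m)⁻¹ ∈ WW V (R i)) :
    w * (p * (m⁻¹ * x * m) * p⁻¹ * (m⁻¹ * x * m)⁻¹) * w⁻¹ * (p * (m⁻¹ * x * m) * p⁻¹ * (m⁻¹ * x * m)⁻¹)⁻¹ *
      (w * (m⁻¹ * x * m) * w⁻¹ * (m⁻¹ * x * m)⁻¹) =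
    (p⁻¹ * w * p) * (m⁻¹ * x * m) * (p⁻¹ * w * p)⁻¹ * (m⁻¹ * x * m)⁻¹ := by
  have _ := c
  have hpP := s.PW_le b.toBT hp
  obtain ⟨a, ha, ψ, hψ, e1⟩ := s.key b τ sw hF lin hw hx
  have hw' : p⁻¹ * w * p ∈ W0 V R i P := by
    have := s.P_W0 (inv_mem hpP) hw
    rwa [inv_inv] at this
  obtain ⟨a', ha', ψ', hψ', e2⟩ := s.key b τ sw hF lin hw' hx
  set y2 := m⁻¹ * x * m with hy2
  set xp := p * y2 * p⁻¹ * y2⁻¹ with hxp
  have hz : a * ψ ∈ ZZ V R i := mul_mem (BT.R_le_Z b.toBT i ha)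
    (mem_inf.2 ⟨D_le_W V R i (Psi_le_D hψ), cen_X_le i (Psi_le_CenX hψ)⟩)
  have c2 : a * ψ * xp = xp * (a * ψ) := z_comm hz hS
  have c3 := s.PW_RPsi b τ hF hp ha' hψ'
  rw [e2]
  have e4 : p * (a' * ψ') * p⁻¹ = a' * ψ' := by rw [c3, mul_inv_cancel_right]
  rw [← e4, ← e2, e1]
  calc w * xp * w⁻¹ * xp⁻¹ * (a * ψ) = w * xp * w⁻¹ * (xp⁻¹ * (a * ψ * xp)) * xp⁻¹ := by group
    _ = w * xp * w⁻¹ * (a * ψ) * xp⁻¹ := by rw [c2]; group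
    _ = w * xp * w⁻¹ * (w * y2 * w⁻¹ * y2⁻¹) * xp⁻¹ := by rw [e1]
    _ = _ := by rw [hxp]; group

include sw c in
/-- `x_p` centralises `W_N` -/
theorem xp_W0 (hF : ∃ a : F, a ≠ 0 ∧ a ≠ 1) (lin : Lin V R i P vv m p') {x p : G} (hx : x ∈ cj p' V)
    (hp : p ∈ PW V R i P) (hS : p * (m⁻¹ * x * m) * p⁻¹ * (m⁻¹ * x * m)⁻¹ ∈ WW V (R i)) :
    p * (m⁻¹ * x * m) * p⁻¹ * (m⁻¹ * x * m)⁻¹ ∈ W0 V R i P := by
  have _ := c
  have hpP := s.PW_le b.toBT hp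
  refine mem_inf.2 ⟨hS, ?_⟩
  have h1 : m⁻¹ * x * m ∈ centralizer (WN V P : Set G) := by
    rw [mem_centralizer_iff]
    exact fun n hn => s.comm2 b τ sw c hF lin hn (line_le_WN s.mem hx)
  exact mul_mem (conj_mem_of_normalizer (normalizer_le_normalizer_centralizer _ (P_norm_WN hpP)) h1) (inv_mem h1)

end grp

section mod

variable [Finite F] [CharP F 2] {M : Type u} [AddCommGroup M] [Module F M] [DistribMulAction (HQ (R i)) M] {p : G → M}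
  {f : M →ₗ[F] M →ₗ[F] F} {e : F →ₗ[F] M} {ω : M →ₗ[F] F} {σ : HQ (R i) →* RingAut F} {κ : HQ (R i) → F}
  {E : Type u} [AddCommGroup E] [Module F E] {P1 P2 : G → E}

variable {p' : G} (s : Sc V R i j vv t P p') (b : BTS V R) (τ : TorD V R i j vv t) {m : G} (sw : Sw V R i j t m)
  (c : Coord V R i j vv w1 w2) (q : Fq V R i vv M p f e ω σ κ) (y : YPair V R i j w1 w2 E P1 P2)
include s b τ c q

/-- the `R_j`-part of `[m w m⁻¹, x]` is `F`-linear in `x ∈ V'` -/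
theorem lin6 (sw : Sw V R i j t m) {w : G} (hw : w ∈ W0 V R i P) : ∃ S : F, ∀ r z r0 s',
    KX V R P vv m w (p' * vv r z * p'⁻¹) r0 s' → s' = z * S := by
  obtain ⟨r1, S, h1⟩ := s.kx b τ sw hw ((s.mem_line τ).2 ⟨0, 1, rfl⟩)
  refine ⟨S, fun r z r0 s' h2 => ?_⟩
  have hu := conj_U b sw (W0_le_U hw)
  have huN := b.cen_le_N i (UU_le_cen j hu)
  have hpN := s.P_le_N s.mem
  have hpH : pr (R i) ⟨p', hpN⟩ ∈ H0 R i := mem_im.2 ⟨p', hpN, s.PR s.mem, rfl⟩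
  have huH : pr (R i) ⟨_, huN⟩ ∈ H0 R i := q.cenV_H0 c huN (UU_le_cen j hu)
  -- `p (p' v r z p'⁻¹) = z • g • e 1`
  have hx : ∀ r z, p (p' * vv r z * p'⁻¹) = z • (pr (R i) ⟨p', hpN⟩ • e 1) := by
    intro r z
    rw [← q.p_act _ _ _ (q.hvW c r z), q.e_eq, ← q.H0_smul c hpH, ← LinearMap.map_smul e, smul_eq_mul, mul_one]
  have hW : ∀ r z, p' * vv r z * p'⁻¹ ∈ WW V (R i) := fun r z => s.line_le s.mem ((s.mem_line τ).2 ⟨_, _, rfl⟩)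
  have key : ∀ r z r0 s', KX V R P vv m w (p' * vv r z * p'⁻¹) r0 s' →
      e s' = z • (pr (R i) ⟨_, huN⟩ • (pr (R i) ⟨p', hpN⟩ • e 1) - pr (R i) ⟨p', hpN⟩ • e 1) := by
    rintro r z r0 s' ⟨ψ, hψ, e1⟩
    have h3 : p (m * w * m⁻¹ * (p' * vv r z * p'⁻¹) * (m * w * m⁻¹)⁻¹ * (p' * vv r z * p'⁻¹)⁻¹) = e s' := by
      rw [e1, q.p_mul _ (q.hvW c r0 s') _ (D_le_W V R i (Psi_le_D hψ)), q.e_eq,
        (q.p_ker ψ (D_le_W V R i (Psi_le_D hψ))).2 (mem_inf.2 ⟨D_le_W V R i (Psi_le_D hψ), cen_X_le i (Psi_le_CenX hψ)⟩),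
        add_zero]
    rw [← h3, ← q.toMZ.smul_sub huN (hW r z), hx, q.H0_smul c huH, ← smul_sub]
  have h3 := key _ _ _ _ h1
  have h4 := key _ _ _ _ h2
  rw [one_smul] at h3
  rw [← h3] at h4
  apply q.e_inj c b.toBT
  rw [h4, ← smul_eq_mul, LinearMap.map_smul e]

include y in
/-- the torus argument -/
theorem tor_zero (hF : ∃ a : F, a ≠ 0 ∧ a ≠ 1) {a : F} (ha : a ≠ 0) (ha1 : a ≠ 1) {x0 : G} (hx0 : x0 ∈ UU V R i)
    (hG : ∀ w ∈ W0 V R i P, f (p (t a * w * (t a)⁻¹)) (p x0) = a ^ 2 * f (p w) (p x0)) {w : G}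
    (hw : w ∈ W0 V R i P) : f (p w) (p x0) = 0 := by
  set T := pr (R i) ⟨t a, τ.normR ha⟩ with hT
  have hTW : ∀ w ∈ WW V (R i), p (t a * w * (t a)⁻¹) = T • p w := fun w hw => (q.p_act _ _ _ hw).symm
  have hx0W := UU_le_WW i hx0
  have hW0 : ∀ w ∈ W0 V R i P, ∃ w' ∈ W0 V R i P, w = t a * w' * (t a)⁻¹ := fun w hw => by
    have h1 := s.W0_tor b τ hw (inv_ne_zero ha)
    rw [τ.inv ha, inv_inv] at h1
    exact ⟨_, h1, by group⟩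
  have h1 : ∀ w ∈ W0 V R i P, f (T • p w) (p x0) = a ^ 2 * f (p w) (p x0) := fun w hw => by
    rw [← hTW w hw.1]; exact hG w hw
  have tf : ∀ x x', f (T • x) (T • x') = a * f x x' := q.t_f c τ (Units.mk0 a ha)
  have tsm : ∀ (s : F) x, T • (s • x) = s • (T • x) := q.t_smul c τ (Units.mk0 a ha)
  have h2 : ∀ w ∈ W0 V R i P, f (p w) (T • p x0) = a⁻¹ * f (p w) (p x0) := by
    intro w hw
    obtain ⟨w', hw', rfl⟩ := hW0 w hw
    rw [hTW _ hw'.1, tf, h1 _ hw']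
    field_simp
  have h3 : ∀ w ∈ W0 V R i P, f (p w) (T • T • p x0) = a⁻¹ * a⁻¹ * f (p w) (p x0) := by
    intro w hw
    obtain ⟨w', hw', rfl⟩ := hW0 w hw
    rw [hTW _ hw'.1, tf, h1 _ hw', h2 _ hw']
    field_simp
  obtain ⟨π, -, hker, -, -, hπt⟩ := q.exists_pi b.toBT c τ y hF
  have hω : ω (p x0) = 0 := (q.mem_P c hx0W).2 hx0
  have hωT : ω (T • p x0) = 0 := by
    have := q.t_ω c τ (Units.mk0 a ha) (p x0)
    rw [hω, mul_zero] at this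
    exact this
  have h4 : T • p x0 - a • p x0 ∈ q.DS b.toBT c τ y hF := by
    have h5 := hπt (Units.mk0 a ha) ⟨p x0, hω⟩ hωT
    have h6 := (hker (⟨T • p x0, hωT⟩ - a • ⟨p x0, hω⟩)).1 (by
      rw [map_sub, map_smul]
      exact sub_eq_zero.2 h5)
    exact h6
  set d := T • p x0 - a • p x0 with hd
  obtain ⟨γ, hγ⟩ := q.t_D b.toBT c τ y (Units.mk0 a ha) h4
  have h5 : f (p w) (T • d - d) = 0 := by
    have h6 : f (p w) (e γ) = 0 := by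
      rw [q.fe, (q.mem_P c hw.1).2 (W0_le_U hw), zero_mul]
    rw [← h6, hγ]; rfl
  rw [map_sub, hd, smul_sub, tsm, map_sub, map_sub, LinearMap.map_smul, LinearMap.map_smul, h3 w hw, h2 w hw,
    smul_eq_mul, smul_eq_mul] at h5
  have h2F : (2 : F) = 0 := CharTwo.two_eq_zero
  have h6 : a⁻¹ * a⁻¹ * ((1 - a) * (1 - a) * (1 + a)) * f (p w) (p x0) = 0 := by
    have e1 : a⁻¹ * a⁻¹ * ((1 - a) * (1 - a) * (1 + a)) * f (p w) (p x0) =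
        a⁻¹ * a⁻¹ * f (p w) (p x0) - a * (a⁻¹ * f (p w) (p x0)) - (a⁻¹ * f (p w) (p x0) - a * f (p w) (p x0)) := by
      field_simp
      ring
    rw [e1]; exact h5
  have h7 : 1 - a ≠ 0 := sub_ne_zero.2 (Ne.symm ha1)
  have h8 : 1 + a ≠ 0 := by
    intro h9
    apply h7
    linear_combination h9 - a * h2F
  have h9 : a⁻¹ * a⁻¹ * ((1 - a) * (1 - a) * (1 + a)) ≠ 0 :=
    mul_ne_zero (mul_ne_zero (inv_ne_zero ha) (inv_ne_zero ha)) (mul_ne_zero (mul_ne_zero h7 h7) h8)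
  exact (mul_eq_zero.1 h6).resolve_left h9

include y in
/-- **(L2)** -/
theorem l2 (sw : Sw V R i j t m) (hF : ∃ a : F, a ≠ 0 ∧ a ≠ 1) (lin : Lin V R i P vv m p')
    (hXV : XX V R ⊓ centralizer (V : Set G) ≤ YY V R)
    (hK2 : ∀ w ∈ WW V (R i), ∀ x ∈ cj p' V, ∃ n ∈ WN V P, ∃ z ∈ ZZ V R i,
      w * (m⁻¹ * x * m) * w⁻¹ * (m⁻¹ * x * m)⁻¹ = n * z)
    (hS : ∀ p ∈ PW V R i P, ∀ x ∈ cj p' V, p * (m⁻¹ * x * m) * p⁻¹ * (m⁻¹ * x * m)⁻¹ ∈ WW V (R i))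
    (dc : ∀ x ∈ WW V (R i), (∀ w ∈ W0 V R i P, w * x = x * w) → x ∈ WN V P ⊔ ZZ V R i)
    {h x : G} (hh : h ∈ PW V R i P) (hx : x ∈ cj p' V) :
    ∃ n ∈ WN V P, ∃ z ∈ ZZ V R i, h * (m⁻¹ * x * m) * h⁻¹ * (m⁻¹ * x * m)⁻¹ = n * z := by
  obtain ⟨a, ha, ha1⟩ := hF
  have hF : ∃ a : F, a ≠ 0 ∧ a ≠ 1 := ⟨a, ha, ha1⟩
  have hPWP := s.PW_le b.toBT
  have hL : ∀ y z, p' * vv y z * p'⁻¹ ∈ cj p' V := fun y z => (s.mem_line τ).2 ⟨y, z, rfl⟩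
  choose! S hSl using fun w (hw : w ∈ W0 V R i P) => s.lin6 b τ c q sw hw
  -- the commutator `[w, y]` in coordinates
  have hK : ∀ w ∈ W0 V R i P, ∀ r z, ∃ ψ ∈ Psi V R P, w * (m⁻¹ * (p' * vv r z * p'⁻¹) * m) * w⁻¹ *
      (m⁻¹ * (p' * vv r z * p'⁻¹) * m)⁻¹ = m⁻¹ * (vv 0 (z * S w) * ψ) * m := by
    intro w hw r z
    obtain ⟨r0, s', hk⟩ := s.kx b τ sw hw (hL r z)
    have h0 := s.key_zero b τ sw hF lin hw (hL r z) hk
    have h1 := hSl w hw _ _ _ _ hk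
    subst h0
    subst h1
    obtain ⟨ψ, hψ, e1⟩ := hk
    refine ⟨ψ, hψ, ?_⟩
    rw [← e1]; group
  have hinj : ∀ s1 s2 : F, ∀ ψ ∈ Psi V R P, ∀ ψ' ∈ Psi V R P,
      m⁻¹ * (vv 0 s1 * ψ) * m = m⁻¹ * (vv 0 s2 * ψ') * m → s1 = s2 := by
    intro s1 s2 ψ hψ ψ' hψ' e1
    exact (coord_unique b.toBT τ (Psi_le_CenX hψ) (Psi_le_CenX hψ')
      (mul_left_cancel (mul_right_cancel e1))).2.1
  -- (F1)
  have f1 : ∀ w ∈ W0 V R i P, ∀ a, a ≠ 0 → S (t a * w * (t a)⁻¹) = a ^ 2 * S w := by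
    intro w hw a ha
    have hw' := s.W0_tor b τ hw ha
    obtain ⟨r0, s', hk⟩ := s.kx b τ sw hw' (hL 0 1)
    have h1 := hSl _ hw' _ _ _ _ hk
    have h2 := s.KX_tor b τ sw ha hk
    rw [s.sc _ _ _ ha, show (t a)⁻¹ * (t a * w * (t a)⁻¹) * t a = w by group] at h2
    have h3 := hSl w hw _ _ _ _ h2
    rw [one_mul] at h1
    rw [h1, mul_one] at h3
    have h4 : S (t a * w * (t a)⁻¹) = a * (a⁻¹ * S (t a * w * (t a)⁻¹)) := by rw [mul_inv_cancel_left₀ ha]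
    rw [h4, h3]; ring
  -- (F2)
  have f2 : ∀ w ∈ W0 V R i P, ∀ g ∈ PW V R i P, g ∈ normalizer (V : Set G) → S (g⁻¹ * w * g) = S w := by
    intro w hw g hg hV
    have hw' : g⁻¹ * w * g ∈ W0 V R i P := by
      have := s.P_W0 (inv_mem (hPWP hg)) hw
      rwa [inv_inv] at this
    obtain ⟨ψ, hψ, e1⟩ := hK _ hw' 0 1
    obtain ⟨ψ', hψ', e2⟩ := hK w hw 0 1
    have h1 := s.K_inv b τ sw c hF lin hXV hK2 y (hL 0 1) hg hV hw (hS g hg _ (hL 0 1))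
    rw [e1, e2] at h1
    have h2 := hinj _ _ _ hψ _ hψ' h1
    rwa [one_mul, one_mul] at h2
  have fc : ∀ w ∈ W0 V R i P, ∀ g ∈ PW V R i P, g⁻¹ * w * g ∈ W0 V R i P := fun w hw g hg => by
    have := s.P_W0 (inv_mem (hPWP hg)) hw
    rwa [inv_inv] at this
  obtain ⟨p0, hp0, e0⟩ := s.exists_PW s.mem
  -- (F3)
  have f3 : ∀ w ∈ W0 V R i P, S (p0⁻¹ * w * p0) = S w := by
    intro w hw
    set x0 := p0 * (m⁻¹ * (p' * vv 0 1 * p'⁻¹) * m) * p0⁻¹ * (m⁻¹ * (p' * vv 0 1 * p'⁻¹) * m)⁻¹ with hx0e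
    have hx0W := hS p0 hp0 _ (hL 0 1)
    rw [← hx0e] at hx0W
    have hx00 : x0 ∈ W0 V R i P := s.xp_W0 b τ sw c hF lin (hL 0 1) hp0 hx0W
    have hx0U := W0_le_U hx00
    -- `m v g 0 m⁻¹ = v 0 (μ g)`
    have hμ : ∀ g : F, ∃ g', m * vv g 0 * m⁻¹ = vv 0 g' := fun g => by
      obtain ⟨g', hg'⟩ := (τ.Rj _).1 (sw.m1.le (conj_mem_cj ((τ.Ri _).2 ⟨g, rfl⟩)))
      exact ⟨g', hg'.symm⟩
    choose μ hμ using hμ
    have μt : ∀ g a, a ≠ 0 → μ (a * g) = a * μ g := by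
      intro g a ha
      have h1 := τ.act a g 0 ha
      rw [mul_zero] at h1
      have h2 : m * vv (a * g) 0 * m⁻¹ = vv 0 (a * μ g) := by
        have h3 := sw.mt a ha
        have h4 := τ.act a⁻¹ 0 (μ g) (inv_ne_zero ha)
        rw [inv_inv, mul_zero, τ.inv ha, inv_inv] at h4
        rw [← h4, ← hμ, ← h1]
        calc m * (t a * vv g 0 * (t a)⁻¹) * m⁻¹ = (m * t a * m⁻¹) * (m * vv g 0 * m⁻¹) * (m * t a * m⁻¹)⁻¹ := by
              group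
          _ = _ := by rw [h3]; group
      rw [hμ] at h2
      exact (c.v_inj h2).2
    have μi : ∀ g g', μ g = μ g' → g = g' := by
      intro g g' h1
      have h2 : m * vv g 0 * m⁻¹ = m * vv g' 0 * m⁻¹ := by rw [hμ, hμ, h1]
      exact (c.v_inj (mul_left_cancel (mul_right_cancel h2))).1
    -- `μ (f (p w) (p x₀)) = S (p₀⁻¹ w p₀) - S w`
    have hD : ∀ w ∈ W0 V R i P, μ (f (p w) (p x0)) + S w = S (p0⁻¹ * w * p0) := by
      intro w hw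
      obtain ⟨ψ, hψ, e1⟩ := hK _ (fc w hw p0 hp0) 0 1
      obtain ⟨ψ', hψ', e2⟩ := hK w hw 0 1
      have h1 := s.K_main b τ sw c hF lin (hL 0 1) hp0 hw hx0W
      rw [e1, e2, ← hx0e, q.f_eq w hw.1 x0 hx0W] at h1
      have h2 : vv (f (p w) (p x0)) 0 = m⁻¹ * vv 0 (μ (f (p w) (p x0))) * m := by rw [← hμ]; group
      rw [h2] at h1
      have h3 : m⁻¹ * (vv 0 (μ (f (p w) (p x0)) + 1 * S w) * ψ') * m =
          m⁻¹ * (vv 0 (1 * S (p0⁻¹ * w * p0)) * ψ) * m := by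
        rw [← h1]
        have h4 := c.v_add 0 (μ (f (p w) (p x0))) 0 (1 * S w)
        rw [add_zero] at h4
        rw [h4]; group
      have h4 := hinj _ _ _ hψ' _ hψ h3
      rwa [one_mul, one_mul] at h4
    -- the torus
    have hG : ∀ w ∈ W0 V R i P, f (p (t a * w * (t a)⁻¹)) (p x0) = a ^ 2 * f (p w) (p x0) := by
      intro w hw
      apply μi
      have hwt := s.W0_tor b τ hw ha
      have h1 := hD _ hwt
      have h2 := hD w hw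
      have h3 : S (p0⁻¹ * (t a * w * (t a)⁻¹) * p0) = a ^ 2 * S (p0⁻¹ * w * p0) := by
        -- `p₀'' = t⁻¹ p₀ t = p₀ h`
        have hta : t a ∈ normalizer (PW V R i P : Set G) := by
          refine norm_PW (s.tP a ha) (b.NV_le_NY (s.t_norm_V b τ ha)) ?_
          exact normalizer_le_WW V (R i) (τ.normR ha)
        have hp1 : (t a)⁻¹ * p0 * t a ∈ PW V R i P := conj_inv_mem_of_normalizer hta hp0
        have hV' : cj (t a)⁻¹ (cj p' V) = cj p' V := by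
          rw [← cj_inv_cj (t a) (cj p' V)]
          congr 1
          rw [cj_inv_cj]
          apply le_antisymm
          · intro x hx
            obtain ⟨y1, y2, rfl⟩ := (s.mem_line τ).1 hx
            refine (s.mem_line τ).1 hx |>.elim fun _ _ => ?_
            rw [mem_cj, s.mem_line τ]
            refine ⟨a⁻¹ * y1, a⁻¹ * y2, ?_⟩
            have h5 := s.sc a (a⁻¹ * y1) (a⁻¹ * y2) ha
            rw [mul_inv_cancel_left₀ ha, mul_inv_cancel_left₀ ha] at h5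
            rw [← h5]; group
          · rw [cj_le_iff]
            intro x hx
            obtain ⟨y1, y2, rfl⟩ := (s.mem_line τ).1 hx
            rw [s.sc a _ _ ha]
            exact hL _ _
        have hh : p0⁻¹ * ((t a)⁻¹ * p0 * t a) ∈ normalizer (V : Set G) := by
          rw [← cj_eq_self_iff, cj_mul, cj_mul, cj_eq_self_iff.2 (s.t_norm_V b τ ha), cj_mul, e0, hV', ← e0,
            cj_inv_cj]
        have h4 := f2 (p0⁻¹ * w * p0) (fc w hw p0 hp0) _ (mul_mem (inv_mem hp0) hp1) hh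
        rw [← h4, ← f1 _ (fc _ (fc w hw p0 hp0) _ (mul_mem (inv_mem hp0) hp1)) a ha]
        congr 1
        group
      rw [f1 w hw a ha, h3, ← h2] at h1
      have h4 : a ^ 2 * μ (f (p w) (p x0)) = μ (a ^ 2 * f (p w) (p x0)) := by
        rw [μt _ _ (pow_ne_zero 2 ha)]
      rw [← h4]
      linear_combination h1
    have h0 := s.tor_zero b τ c q y hF ha ha1 hx0U hG hw
    have h1 := hD w hw
    rw [h0] at h1
    have h2 : μ 0 = 0 := by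
      have h3 := hμ 0
      rw [v_zero τ, mul_one, mul_inv_cancel] at h3
      exact (τ.v_inj _ _ h3.symm).2
    rw [h2, zero_add] at h1
    exact h1.symm
  -- (F5)
  have f5 : ∀ w ∈ W0 V R i P, ∀ g ∈ PW V R i P, S (g⁻¹ * w * g) = S w := by
    intro w hw g hg
    by_cases hV : cj g V = V
    · exact f2 w hw g hg (cj_eq_self_iff.1 hV)
    obtain ⟨u, hu, e1⟩ := s.trans p0 (hPWP hp0) (by rw [e0]; exact s.ne) g (hPWP hg) hV
    have huPW : u ∈ PW V R i P := UU_le_PW j hu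
    have hh : (u * p0)⁻¹ * g ∈ normalizer (V : Set G) := by
      rw [← cj_eq_self_iff, cj_mul, ← e1, ← cj_mul u, cj_inv_cj]
    have hhPW : (u * p0)⁻¹ * g ∈ PW V R i P := mul_mem (inv_mem (mul_mem huPW hp0)) hg
    have hu' : u⁻¹ * w * u ∈ W0 V R i P := fc w hw u huPW
    have h1 := f2 _ (fc _ hu' p0 hp0) _ hhPW hh
    have e2 : ((u * p0)⁻¹ * g)⁻¹ * (p0⁻¹ * (u⁻¹ * w * u) * p0) * ((u * p0)⁻¹ * g) = g⁻¹ * w * g := by group
    rw [e2] at h1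
    rw [h1, f3 _ hu']
    exact f2 w hw u huPW (b.X_le_NV (YY_le_XX (UU_le_YY j hu)))
  -- (F6)
  set xh := h * (m⁻¹ * x * m) * h⁻¹ * (m⁻¹ * x * m)⁻¹ with hxh
  have hxW := hS h hh x hx
  rw [← hxh] at hxW
  have f6 : ∀ w ∈ W0 V R i P, w * xh = xh * w := by
    intro w hw
    obtain ⟨r, z, rfl⟩ := (s.mem_line τ).1 hx
    obtain ⟨ψ, hψ, e1⟩ := hK _ (fc w hw h hh) r z
    obtain ⟨ψ', hψ', e2⟩ := hK w hw r z
    have h1 := s.K_main b τ sw c hF lin (hL r z) hh hw hxW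
    rw [e1, e2, ← hxh, f5 w hw h hh] at h1
    have h2 : w * xh * w⁻¹ * xh⁻¹ ∈ CenX V R := by
      have h3 : w * xh * w⁻¹ * xh⁻¹ = m⁻¹ * (vv 0 (z * S w) * (ψ * ψ'⁻¹) * (vv 0 (z * S w))⁻¹) * m := by
        rw [eq_mul_inv_of_mul_eq h1]; group
      have h4 : ψ * ψ'⁻¹ ∈ CenX V R := mul_mem (Psi_le_CenX hψ) (inv_mem (Psi_le_CenX hψ'))
      have h5 := mem_centralizer_iff.1 (BT.CenX_le_cen b.toBT h4) (vv 0 (z * S w)) ((τ.v_mem _).2 ⟨_, _, rfl⟩)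
      have h6 := mem_centralizer_iff.1 h4 m sw.mX
      rw [h3, h5, mul_inv_cancel_right, mul_assoc, ← h6, inv_mul_cancel_left]
      exact h4
    have h3 := b.WW_comm i hw.1 hxW
    have h4 : w * xh * w⁻¹ * xh⁻¹ = 1 := by
      have h5 : w * xh * w⁻¹ * xh⁻¹ ∈ CenX V R ⊓ V := ⟨h2, b.R_le i h3⟩
      rw [BT.CenX_inf_V b.toBT] at h5
      exact mem_bot.1 h5
    exact mul_inv_eq_iff_eq_mul.1 (mul_inv_eq_one.1 h4)
  have f7 := dc xh hxW f6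
  have hcomm : ((WN V P ⊔ ZZ V R i : Subgroup G) : Set G) = (WN V P : Set G) * (ZZ V R i : Set G) := by
    refine coe_mul_of_left_le_normalizer_right _ _ (le_normalizer_of fun n hn z hz => ?_)
    rw [← z_comm hz (s.WN_le_W hn), mul_inv_cancel_right]
    exact hz
  have f8 : xh ∈ ((WN V P ⊔ ZZ V R i : Subgroup G) : Set G) := f7
  rw [hcomm] at f8
  obtain ⟨n, hn, z, hz, e1⟩ := f8
  exact ⟨n, hn, z, hz, e1.symm⟩

end mod

end Sc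

end Cfsg.Agent.Omega.HOneQ
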