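import Cfsg.Agent.Omega.HOneQ.ResS
import Cfsg.Agent.Omega.BTwo.Rad
import Cfsg.Agent.Omega.Lie.LemNS

/-!
# II.0h1, split, `q ≥ 4`: the group `P_W = ⟨(Y W_i)^P⟩` and (S') of #15939 (with the fill-in of #16463)

* `PW`, `Nd.exists_PW`, `Nd.PW_ind`, `Nd.PW_two`;
* `kernel`: the kernel lemma;
* `Nd.N0_Q`: `[N₀ ∩ P, P_W] ≤ Q_i`; `Nd.Q_W`: `[Q_i, P_W] ≤ W_i`;
* `Nd.step`: `[y, P_W] ≤ N₀` implies `[y, P_W] ≤ W_i`, for `y ∈ U_j`.
-/

set_option autoImplicit false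
set_option linter.unusedSectionVars false

namespace Cfsg.Agent.Omega.HOneQ

open Subgroup Cfsg.Agent.Omega.BTwo
open Cfsg.Agent.Omega.Lie (TorD)

universe u v w

variable {G : Type u} [Group G] {ι : Type w} {V : Subgroup G} {R : ι → Subgroup G} {i j : ι} {P : Subgroup G}
  {F : Type v} [Field F] {vv : F → F → G} {t : F → G} {w1 w2 : F → G}

/-- `P_W = ⟨(Y W_i)^P⟩` -/
def PW (V : Subgroup G) (R : ι → Subgroup G) (i : ι) (P : Subgroup G) : Subgroup G :=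
  ⨆ p : P, cj (p : G) (YY V R ⊔ WW V (R i))

theorem cj_YW_le {p : G} (hp : p ∈ P) : cj p (YY V R ⊔ WW V (R i)) ≤ PW V R i P :=
  le_iSup (fun p : P => cj (p : G) (YY V R ⊔ WW V (R i))) ⟨p, hp⟩

theorem YW_le_PW : YY V R ⊔ WW V (R i) ≤ PW V R i P := by
  have := cj_YW_le (V := V) (R := R) (i := i) (one_mem P)
  rwa [cj_one] at this

theorem YY_le_PW : YY V R ≤ PW V R i P := le_sup_left.trans YW_le_PW

theorem UU_le_PW (j : ι) : UU V R j ≤ PW V R i P := (UU_le_YY j).trans YY_le_PW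

theorem WW_le_PW : WW V (R i) ≤ PW V R i P := le_sup_right.trans YW_le_PW

theorem P_norm_PW : P ≤ normalizer (PW V R i P : Set G) := by
  intro g hg
  have key : ∀ g ∈ P, cj g (PW V R i P) ≤ PW V R i P := by
    intro g hg
    rw [PW, cj_iSup]
    refine iSup_le fun p => ?_
    rw [← cj_mul]
    exact cj_YW_le (mul_mem hg p.2)
  rw [← cj_eq_self_iff]
  apply le_antisymm (key g hg)
  have := cj_mono (g := g) (key g⁻¹ (inv_mem hg))
  rwa [cj_cj_inv] at this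

theorem norm_PW {g : G} (hP : g ∈ normalizer (P : Set G)) (hY : g ∈ normalizer (YY V R : Set G))
    (hW : g ∈ normalizer (WW V (R i) : Set G)) : g ∈ normalizer (PW V R i P : Set G) := by
  have key : ∀ g : G, g ∈ normalizer (P : Set G) → g ∈ normalizer (YY V R : Set G) →
      g ∈ normalizer (WW V (R i) : Set G) → cj g (PW V R i P) ≤ PW V R i P := by
    intro g hP hY hW
    rw [PW, cj_iSup]
    refine iSup_le fun p => ?_
    have e : cj g (cj (p : G) (YY V R ⊔ WW V (R i))) = cj (g * p * g⁻¹) (YY V R ⊔ WW V (R i)) := by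
      have e1 : g * (p : G) = g * p * g⁻¹ * g := by group
      calc cj g (cj (p : G) (YY V R ⊔ WW V (R i))) = cj (g * p) (YY V R ⊔ WW V (R i)) := (cj_mul _ _ _).symm
        _ = cj (g * p * g⁻¹) (cj g (YY V R ⊔ WW V (R i))) := by rw [← cj_mul, ← e1]
        _ = _ := by rw [cj_sup, cj_eq_self_iff.2 hY, cj_eq_self_iff.2 hW]
    rw [e]
    exact cj_YW_le (conj_mem_of_normalizer hP p.2)
  rw [← cj_eq_self_iff]
  apply le_antisymm (key g hP hY hW)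
  have := cj_mono (g := g) (key g⁻¹ (inv_mem hP) (inv_mem hY) (inv_mem hW))
  rwa [cj_cj_inv] at this

/-- the kernel lemma -/
theorem kernel {Q K L Z : Subgroup G} {y : G}
    (ind : ∀ H : Subgroup G, Z ≤ H → (∀ p ∈ Q, ∀ h ∈ H, h ∈ Q → p * h * p⁻¹ ∈ H) → Q ≤ H) (hZQ : Z ≤ Q)
    (hPL : Q ≤ normalizer (L : Set G)) (hKn : K ≤ normalizer (L : Set G))
    (hKL : ∀ p ∈ Q, ∀ k ∈ K, p * k * p⁻¹ * k⁻¹ ∈ L) (hyK : ∀ p ∈ Q, p * y * p⁻¹ * y⁻¹ ∈ K)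
    (hyZ : ∀ s ∈ Z, s * y * s⁻¹ * y⁻¹ ∈ L) : ∀ p ∈ Q, p * y * p⁻¹ * y⁻¹ ∈ L := by
  let H : Subgroup G :=
    { carrier := {p | p ∈ Q ∧ p * y * p⁻¹ * y⁻¹ ∈ L}
      one_mem' := ⟨one_mem _, by rw [show (1 : G) * y * 1⁻¹ * y⁻¹ = 1 by group]; exact one_mem _⟩
      mul_mem' := by
        rintro p p' ⟨hp, h⟩ ⟨hp', h'⟩
        refine ⟨mul_mem hp hp', ?_⟩
        rw [show p * p' * y * (p * p')⁻¹ * y⁻¹ = (p * (p' * y * p'⁻¹ * y⁻¹) * p⁻¹) * (p * y * p⁻¹ * y⁻¹) by group]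
        exact mul_mem (conj_mem_of_normalizer (hPL hp) h') h
      inv_mem' := by
        rintro p ⟨hp, h⟩
        refine ⟨inv_mem hp, ?_⟩
        rw [show p⁻¹ * y * p⁻¹⁻¹ * y⁻¹ = p⁻¹ * (p * y * p⁻¹ * y⁻¹)⁻¹ * p by group]
        exact conj_inv_mem_of_normalizer (hPL hp) (inv_mem h) }
  have hH : Q ≤ H := by
    refine ind H (fun s hs => ⟨hZQ hs, hyZ s hs⟩) ?_
    rintro q hq h ⟨hh, h1⟩ -
    refine ⟨mul_mem (mul_mem hq hh) (inv_mem hq), ?_⟩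
    have hk := hyK _ (inv_mem hq)
    set k := q⁻¹ * y * q⁻¹⁻¹ * y⁻¹ with hkk
    have h2 := hKL h hh k hk
    have h3 := conj_mem_of_normalizer (hKn hk) h1
    have e : q * h * q⁻¹ * y * (q * h * q⁻¹)⁻¹ * y⁻¹ =
        q * ((h * k * h⁻¹ * k⁻¹) * (k * (h * y * h⁻¹ * y⁻¹) * k⁻¹)) * q⁻¹ := by rw [hkk]; group
    rw [e]
    exact conj_mem_of_normalizer (hPL hq) (mul_mem h2 h3)
  exact fun p hp => (hH hp).2

namespace Nd

variable (n : Nd V R i j P)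
include n

theorem YW_le (b : BT V R) : YY V R ⊔ WW V (R i) ≤ P := by
  rw [b.Y_eq n.hij]
  exact sup_le (sup_le ((UU_le_WW i).trans ((b.W_le_Q i).trans n.QP)) n.UP) ((b.W_le_Q i).trans n.QP)

theorem PW_le (b : BT V R) : PW V R i P ≤ P := by
  refine iSup_le fun p => ?_
  rw [cj_le_iff]
  exact fun x hx => mul_mem (mul_mem p.2 (n.YW_le b hx)) (inv_mem p.2)

/-- `P_W` is transitive on the lines -/
theorem exists_PW {p : G} (hp : p ∈ P) : ∃ q ∈ PW V R i P, cj q V = cj p V := by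
  by_cases hV : cj p V = V
  · exact ⟨1, one_mem _, by rw [cj_one, hV]⟩
  obtain ⟨c, hc, h1, h2⟩ : ∃ c ∈ P, cj c V ≠ V ∧ cj p V ≠ cj c V := by
    obtain ⟨a, ha, a', ha', -, -, h1, h2, -, h12, -, -⟩ := n.four
    by_cases h : cj p V = cj a V
    · exact ⟨a', ha', h2, by rw [h]; exact h12⟩
    · exact ⟨a, ha, h1, h⟩
  obtain ⟨u, hu, e⟩ := n.trans' (one_mem P) hp hc (by rw [cj_one]; exact Ne.symm h1) h2
  rw [cj_one] at e
  refine ⟨_, ?_, e⟩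
  exact cj_YW_le hc (conj_mem_cj ((le_sup_left : YY V R ≤ _) (UU_le_YY j hu)))

theorem cj_YW (b : BT V R) {g : G} (hg : g ∈ P) (hV : g ∈ normalizer (V : Set G)) :
    cj g (YY V R ⊔ WW V (R i)) = YY V R ⊔ WW V (R i) := by
  rw [cj_sup, cj_eq_self_iff.2 (b.NV_le_NY hV), n.cj_W hg]

/-- induction: a subgroup containing `Y W_i`, invariant under `P_W`, contains `P_W` -/
theorem PW_ind (b : BT V R) (H : Subgroup G) (h1 : YY V R ⊔ WW V (R i) ≤ H)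
    (h2 : ∀ p ∈ PW V R i P, ∀ h ∈ H, h ∈ PW V R i P → p * h * p⁻¹ ∈ H) : PW V R i P ≤ H := by
  have hPW := n.PW_le b
  conv_lhs => rw [PW]
  refine iSup_le fun p => ?_
  obtain ⟨q, hq, e⟩ := n.exists_PW p.2
  have h3 : q⁻¹ * (p : G) ∈ normalizer (V : Set G) := by
    rw [← cj_eq_self_iff, cj_mul, ← e, cj_inv_cj]
  have h4 := n.cj_YW b (mul_mem (inv_mem (hPW hq)) p.2) h3
  have e1 : cj (p : G) (YY V R ⊔ WW V (R i)) = cj q (YY V R ⊔ WW V (R i)) := by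
    calc cj (p : G) (YY V R ⊔ WW V (R i)) = cj (q * (q⁻¹ * p)) (YY V R ⊔ WW V (R i)) := by
          rw [mul_inv_cancel_left]
      _ = _ := by rw [cj_mul, h4]
  rw [e1, cj_le_iff]
  exact fun x hx => h2 q hq x (h1 hx) (YW_le_PW hx)

/-- `P_W` is generated by 2-elements -/
theorem PW_two (b : BT V R) (H : Subgroup (PW V R i P)) (hH : ∀ x, (∃ k : ℕ, x ^ 2 ^ k = 1) → x ∈ H) : H = ⊤ := by
  have key : ∀ p : P, cj (p : G) (YY V R ⊔ WW V (R i)) ≤ H.map (PW V R i P).subtype := by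
    intro p
    have hY : IsPGroup 2 (WW V (R i)) := b.W_isPGroup i
    have hU : ∀ k, ∀ u ∈ UU V R k, ∃ r : ℕ, u ^ 2 ^ r = 1 := fun k u hu => by
      obtain ⟨r, hr⟩ := b.W_isPGroup k ⟨u, UU_le_WW k hu⟩
      exact ⟨r, congrArg Subtype.val hr⟩
    have hW : ∀ u ∈ WW V (R i), ∃ r : ℕ, u ^ 2 ^ r = 1 := fun u hu => by
      obtain ⟨r, hr⟩ := b.W_isPGroup i ⟨u, hu⟩
      exact ⟨r, congrArg Subtype.val hr⟩
    have h1 : ∀ u ∈ YY V R ⊔ WW V (R i), (∃ r : ℕ, u ^ 2 ^ r = 1) →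
        (p : G) * u * (p : G)⁻¹ ∈ H.map (PW V R i P).subtype := by
      intro u hu hr
      obtain ⟨r, hr⟩ := hr
      have h2 : (p : G) * u * (p : G)⁻¹ ∈ PW V R i P := cj_YW_le p.2 (conj_mem_cj hu)
      refine ⟨⟨_, h2⟩, hH _ ⟨r, ?_⟩, rfl⟩
      apply Subtype.ext
      change ((p : G) * u * (p : G)⁻¹) ^ 2 ^ r = 1
      rw [conj_pow, hr, mul_one, mul_inv_cancel]
    rw [cj_sup, b.Y_eq n.hij, cj_sup]
    refine sup_le (sup_le ?_ ?_) ?_ <;> rw [cj_le_iff] <;> intro u hu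
    · exact h1 u ((le_sup_left : YY V R ≤ _) (UU_le_YY i hu)) (hU i u hu)
    · exact h1 u ((le_sup_left : YY V R ≤ _) (UU_le_YY j hu)) (hU j u hu)
    · exact h1 u ((le_sup_right : WW V (R i) ≤ _) hu) (hW u hu)
  rw [eq_top_iff]
  intro x _
  obtain ⟨y, hy, e⟩ := (iSup_le key : PW V R i P ≤ _) x.2
  have : y = x := Subtype.ext e
  rwa [← this]

/-- `P_W` centralises `R_i` and `Psi` -/
theorem PW_cen (b : BT V R) {z : G} (hz : ∀ p ∈ P, p * z * p⁻¹ ∈ centralizer (YY V R : Set G) ⊓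
    centralizer (WW V (R i) : Set G)) : z ∈ centralizer (PW V R i P : Set G) := by
  have _ := b
  have key : PW V R i P ≤ centralizer {z} := by
    refine iSup_le fun p => ?_
    rw [cj_le_iff]
    have h0 : YY V R ⊔ WW V (R i) ≤ centralizer {(p : G)⁻¹ * z * p} := by
      have h1 := hz _ (inv_mem p.2)
      rw [inv_inv] at h1
      refine sup_le (fun u hu => ?_) fun u hu => ?_
      · rw [mem_centralizer_iff]
        rintro _ rfl
        exact (mem_centralizer_iff.1 h1.1 u hu).symm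
      · rw [mem_centralizer_iff]
        rintro _ rfl
        exact (mem_centralizer_iff.1 h1.2 u hu).symm
    intro u hu
    have h1 := mem_centralizer_iff.1 (h0 hu) _ rfl
    rw [mem_centralizer_iff]
    intro z' hz'
    rw [Set.mem_singleton_iff.1 hz']
    calc z * ((p : G) * u * (p : G)⁻¹) = p * (((p : G)⁻¹ * z * p) * u) * (p : G)⁻¹ := by group
      _ = p * (u * ((p : G)⁻¹ * z * p)) * (p : G)⁻¹ := by rw [h1]
      _ = _ := by group
  rw [mem_centralizer_iff]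
  exact fun x hx => (mem_centralizer_iff.1 (key hx) z rfl).symm

/-- elements of `N₀ ∩ P` normalise `V` -/
theorem N0_NV (b : BTS V R) {x : G} (hx : x ∈ Lie.LemNS.N0 V R i) (hxP : x ∈ P) :
    x ∈ normalizer (V : Set G) := by
  rw [← cj_eq_self_iff]
  have h := n.inj b hxP (one_mem P) (by
    rw [cj_one]
    refine cj_le_of_comm le_sup_left fun v hv => (le_sup_right : ZZ V R i ≤ _) ?_
    exact hx.2.2 v (V_le_WW V (R i) hv))
  rwa [cj_one] at h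

/-- `[N₀ ∩ P, U_j] ≤ Q_i` -/
theorem N0_U [Finite G] [CharP F 2] (b : BTS V R) (hF : ∃ a : F, a ≠ 0 ∧ a ≠ 1) (c : Coord V R i j vv w1 w2)
    (τ : TorD V R i j vv t) (hodd : Odd ((normalizer (V : Set G)).relIndex (normalizer (R i : Set G))))
    {x : G} (hx : x ∈ Lie.LemNS.N0 V R i) (hxP : x ∈ P) {u : G} (hu : u ∈ UU V R j) :
    u * x * u⁻¹ * x⁻¹ ∈ QQ (R i) := by
  -- `x = w x'`, `w ∈ W_i`, `x'` centralises `V`
  obtain ⟨w, hw, hwx⟩ : ∃ w ∈ WW V (R i), w⁻¹ * x ∈ centralizer (V : Set G) := by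
    have hxV := n.N0_NV b hx hxP
    obtain ⟨k, hk⟩ := b.perm x hxV j
    have hki : k ≠ i := by
      rintro rfl
      have h1 : cj x (R k) = R k := n.cj_R hxP
      exact n.hij (b.R_index (cj_injective (h1.trans hk.symm)))
    obtain ⟨w, hw, e⟩ := b.trans i (Ne.symm n.hij) hki
    refine ⟨w, hw, ?_⟩
    have h2 : cj (w⁻¹ * x) (R j) = R j := by rw [cj_mul, hk, ← e, cj_inv_cj]
    have h3 : ∀ r ∈ R i, (w⁻¹ * x) * r * (w⁻¹ * x)⁻¹ = r := by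
      intro r hr
      have h4 := n.conj_R (mul_mem (inv_mem (n.QP (b.W_le_Q i hw))) hxP) hr
      exact h4
    have hN0 : w⁻¹ * x ∈ Lie.LemNS.N0 V R i := by
      refine mul_mem (inv_mem (mem_inf.2 ⟨n.PR (n.QP (b.W_le_Q i hw)), ?_, fun w' hw' => ?_⟩)) hx
      · exact N_le_NZ i (b.W_le_N i hw)
      · exact BT.R_le_Z b.toBT i (b.WW_comm i hw hw')
    have h5 : ∀ r ∈ R j, (w⁻¹ * x) * r * (w⁻¹ * x)⁻¹ = r := by
      intro r hr
      have h6 : (w⁻¹ * x) * r * (w⁻¹ * x)⁻¹ * r⁻¹ ∈ R j := mul_mem (h2.le (conj_mem_cj hr)) (inv_mem hr)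
      have h7 := hN0.2.2 r (V_le_WW V (R i) (b.R_le j hr))
      have h8 := b.cen_VW (b.R_le j h6) h7.2
      have h9 := b.eq_one n.hij h8 h6
      exact mul_inv_eq_one.1 h9
    have h6 : V ≤ centralizer {w⁻¹ * x} := by
      rw [← b.R_sup i j n.hij]
      refine sup_le (fun r hr => ?_) fun r hr => ?_
      · rw [mem_centralizer_iff]; rintro _ rfl; exact mul_inv_eq_iff_eq_mul.1 (h3 r hr)
      · rw [mem_centralizer_iff]; rintro _ rfl; exact mul_inv_eq_iff_eq_mul.1 (h5 r hr)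
    rw [mem_centralizer_iff]
    exact fun r hr => (mem_centralizer_iff.1 (h6 hr) _ rfl).symm
  have hwQ := b.W_le_Q i hw
  have hx' : w⁻¹ * x ∈ Lie.LemNS.N0 V R i := by
    refine mul_mem (inv_mem (mem_inf.2 ⟨n.PR (n.QP hwQ), ?_, fun w' hw' => ?_⟩)) hx
    · exact N_le_NZ i (b.W_le_N i hw)
    · exact BT.R_le_Z b.toBT i (b.WW_comm i hw hw')
  have huN := b.cen_le_N i (UU_le_cen j hu)
  set x' := w⁻¹ * x with hxx
  have h1 : u * x' * u⁻¹ * x'⁻¹ ∈ DD V R := by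
    have h2 : u * x' * u⁻¹ * x'⁻¹ ∈ UU V R j := by
      rw [show u * x' * u⁻¹ * x'⁻¹ = u * (x' * u⁻¹ * x'⁻¹) by group]
      exact mul_mem hu (conj_mem_of_normalizer (b.cen_le_NU j hwx) (inv_mem hu))
    have h3 : u * x' * u⁻¹ * x'⁻¹ ∈ Lie.LemNS.N0 V R i :=
      mul_mem (Lie.LemNS.N_le_NN0 i huN hx') (inv_mem hx')
    refine Lie.LemNS.faithful b hF c τ hodd h2 fun w' hw' => ?_
    have h4 := h3.2.2 w' hw'
    set g := u * x' * u⁻¹ * x'⁻¹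
    have h5 := inv_mem h4
    rwa [show (g * w' * g⁻¹ * w'⁻¹)⁻¹ = w' * g * w'⁻¹ * g⁻¹ by group] at h5
  have e : u * x * u⁻¹ * x⁻¹ = (u * w * u⁻¹) * (u * x' * u⁻¹ * x'⁻¹) * w⁻¹ := by rw [hxx]; group
  rw [e]
  exact mul_mem (mul_mem (b.W_le_Q i (conj_mem_of_normalizer (normalizer_le_WW V (R i) huN) hw))
    (b.W_le_Q i (D_le_W V R i h1))) (inv_mem hwQ)

/-- `[N₀ ∩ P, P_W] ≤ Q_i` -/
theorem N0_Q [Finite G] [CharP F 2] (b : BTS V R) (hF : ∃ a : F, a ≠ 0 ∧ a ≠ 1) (c : Coord V R i j vv w1 w2)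
    (τ : TorD V R i j vv t) (hodd : Odd ((normalizer (V : Set G)).relIndex (normalizer (R i : Set G))))
    {p : G} (hp : p ∈ PW V R i P) {x : G} (hx : x ∈ Lie.LemNS.N0 V R i) (hxP : x ∈ P) :
    p * x * p⁻¹ * x⁻¹ ∈ QQ (R i) := by
  have hPN := n.P_le_N
  have hQN := le_normalizer_O2 (normalizer (R i : Set G))
  let H : Subgroup G :=
    { carrier := {p | p ∈ P ∧ ∀ x ∈ Lie.LemNS.N0 V R i, x ∈ P → p * x * p⁻¹ * x⁻¹ ∈ QQ (R i)}
      one_mem' := ⟨one_mem _, fun x _ _ => by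
        rw [show (1 : G) * x * 1⁻¹ * x⁻¹ = 1 by group]; exact one_mem _⟩
      mul_mem' := by
        rintro p p' ⟨hp, h⟩ ⟨hp', h'⟩
        refine ⟨mul_mem hp hp', fun x hx hxP => ?_⟩
        rw [show p * p' * x * (p * p')⁻¹ * x⁻¹ = (p * (p' * x * p'⁻¹ * x⁻¹) * p⁻¹) * (p * x * p⁻¹ * x⁻¹) by group]
        exact mul_mem (conj_mem_of_normalizer (hQN (hPN hp)) (h' x hx hxP)) (h x hx hxP)
      inv_mem' := by
        rintro p ⟨hp, h⟩
        refine ⟨inv_mem hp, fun x hx hxP => ?_⟩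
        rw [show p⁻¹ * x * p⁻¹⁻¹ * x⁻¹ = p⁻¹ * (p * x * p⁻¹ * x⁻¹)⁻¹ * p by group]
        exact conj_inv_mem_of_normalizer (hQN (hPN hp)) (inv_mem (h x hx hxP)) }
  have hH : PW V R i P ≤ H := by
    refine n.PW_ind b.toBT H ?_ ?_
    · have hQ : ∀ y ∈ QQ (R i), y ∈ H := fun y hy => ⟨n.QP hy, fun x hx hxP => by
        rw [show y * x * y⁻¹ * x⁻¹ = y * (x * y⁻¹ * x⁻¹) by group]
        exact mul_mem hy (conj_mem_of_normalizer (hQN (hPN hxP)) (inv_mem hy))⟩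
      rw [b.Y_eq n.hij]
      refine sup_le (sup_le ?_ ?_) ?_
      · exact fun y hy => hQ y (b.W_le_Q i (UU_le_WW i hy))
      · exact fun y hy => ⟨n.UP hy, fun x hx hxP => n.N0_U b hF c τ hodd hx hxP hy⟩
      · exact fun y hy => hQ y (b.W_le_Q i hy)
    · rintro q hq h ⟨hh, h1⟩ -
      have hqP := n.PW_le b.toBT hq
      refine ⟨mul_mem (mul_mem hqP hh) (inv_mem hqP), fun x hx hxP => ?_⟩
      have h2 := h1 _ (Lie.LemNS.N_le_NN0 i (hPN (inv_mem hqP)) hx) (mul_mem (mul_mem (inv_mem hqP) hxP)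
        (inv_mem (inv_mem hqP)))
      have h3 := conj_mem_of_normalizer (hQN (hPN hqP)) h2
      rwa [show q * (h * (q⁻¹ * x * q⁻¹⁻¹) * h⁻¹ * (q⁻¹ * x * q⁻¹⁻¹)⁻¹) * q⁻¹ =
        q * h * q⁻¹ * x * (q * h * q⁻¹)⁻¹ * x⁻¹ by group] at h3
  exact (hH hp).2 x hx hxP

/-- `[Q_i, P_W] ≤ W_i` -/
theorem Q_W [Finite G] (b : BT V R) {p : G} (hp : p ∈ PW V R i P) {x : G} (hx : x ∈ QQ (R i)) :
    p * x * p⁻¹ * x⁻¹ ∈ WW V (R i) := by
  have hPN := n.P_le_N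
  have hQN := le_normalizer_O2 (normalizer (R i : Set G))
  have hWN := normalizer_le_WW V (R i)
  let H : Subgroup G :=
    { carrier := {p | p ∈ P ∧ ∀ x ∈ QQ (R i), p * x * p⁻¹ * x⁻¹ ∈ WW V (R i)}
      one_mem' := ⟨one_mem _, fun x _ => by
        rw [show (1 : G) * x * 1⁻¹ * x⁻¹ = 1 by group]; exact one_mem _⟩
      mul_mem' := by
        rintro p p' ⟨hp, h⟩ ⟨hp', h'⟩
        refine ⟨mul_mem hp hp', fun x hx => ?_⟩
        rw [show p * p' * x * (p * p')⁻¹ * x⁻¹ = (p * (p' * x * p'⁻¹ * x⁻¹) * p⁻¹) * (p * x * p⁻¹ * x⁻¹) by group]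
        exact mul_mem (conj_mem_of_normalizer (hWN (hPN hp)) (h' x hx)) (h x hx)
      inv_mem' := by
        rintro p ⟨hp, h⟩
        refine ⟨inv_mem hp, fun x hx => ?_⟩
        rw [show p⁻¹ * x * p⁻¹⁻¹ * x⁻¹ = p⁻¹ * (p * x * p⁻¹ * x⁻¹)⁻¹ * p by group]
        exact conj_inv_mem_of_normalizer (hWN (hPN hp)) (inv_mem (h x hx)) }
  have hH : PW V R i P ≤ H := by
    refine n.PW_ind b H ?_ ?_
    · have h1 : YY V R ⊔ WW V (R i) ≤ XX V R := sup_le YY_le_XX (W_le_X V R i)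
      exact fun y hy => ⟨n.YW_le b hy, fun x hx => b.XQ (h1 hy) (hPN (n.YW_le b hy)) hx⟩
    · rintro q hq h ⟨hh, h1⟩ -
      have hqP := n.PW_le b hq
      refine ⟨mul_mem (mul_mem hqP hh) (inv_mem hqP), fun x hx => ?_⟩
      have h2 := h1 _ (conj_mem_of_normalizer (hQN (hPN (inv_mem hqP))) hx)
      have h3 := conj_mem_of_normalizer (hWN (hPN hqP)) h2
      rwa [show q * (h * (q⁻¹ * x * q⁻¹⁻¹) * h⁻¹ * (q⁻¹ * x * q⁻¹⁻¹)⁻¹) * q⁻¹ =
        q * h * q⁻¹ * x * (q * h * q⁻¹)⁻¹ * x⁻¹ by group] at h3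
  exact (hH hp).2 x hx

/-- **(S')** from `N₀` to `W_i` -/
theorem step [Finite G] [CharP F 2] (b : BTS V R) (hF : ∃ a : F, a ≠ 0 ∧ a ≠ 1) (c : Coord V R i j vv w1 w2)
    (τ : TorD V R i j vv t) (hodd : Odd ((normalizer (V : Set G)).relIndex (normalizer (R i : Set G))))
    {y : G} (hy : y ∈ UU V R j) (h : ∀ p ∈ PW V R i P, p * y * p⁻¹ * y⁻¹ ∈ Lie.LemNS.N0 V R i) :
    ∀ p ∈ PW V R i P, p * y * p⁻¹ * y⁻¹ ∈ WW V (R i) := by
  have hPN := n.P_le_N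
  have hQN := le_normalizer_O2 (normalizer (R i : Set G))
  have hWN := normalizer_le_WW V (R i)
  have hPWP := n.PW_le b.toBT
  have hyW : ∀ s ∈ YY V R ⊔ WW V (R i), s * y * s⁻¹ * y⁻¹ ∈ WW V (R i) := by
    intro s hs
    -- `s = y' w`
    have hyN := b.cen_le_N i (UU_le_cen j hy)
    have key : YY V R ⊔ WW V (R i) ≤ P ⊓ cenMod (WW V (R i)) (UU V R j) := by
      rw [b.Y_eq n.hij]
      refine le_inf (by rw [← b.Y_eq n.hij]; exact n.YW_le b.toBT) (sup_le (sup_le ?_ ?_) ?_)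
      · exact fun z hz => ⟨hWN (b.W_le_N i (UU_le_WW i hz)), fun u hu =>
          D_le_W V R i (b.UU_comm n.hij hz hu)⟩
      · exact fun z hz => ⟨hWN (b.cen_le_N i (UU_le_cen j hz)), fun u hu =>
          V_le_WW V (R i) (b.R_le j (b.WU (UU_le_WW j hz) hu))⟩
      · exact fun z hz => ⟨hWN (b.W_le_N i hz), fun u hu => by
          rw [show z * u * z⁻¹ * u⁻¹ = z * (u * z⁻¹ * u⁻¹) by group]
          exact mul_mem hz (conj_mem_of_normalizer (hWN (b.cen_le_N i (UU_le_cen j hu))) (inv_mem hz))⟩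
    exact (key hs).2.2 y hy
  -- first step: `Q_i`
  have h1 : ∀ p ∈ PW V R i P, p * y * p⁻¹ * y⁻¹ ∈ QQ (R i) := by
    refine kernel (K := Lie.LemNS.N0 V R i ⊓ P) (n.PW_ind b.toBT) YW_le_PW (fun p hp => hQN (hPN (hPWP hp)))
      (fun x hx => hQN (Lie.LemNS.N0_le_N i hx.1)) (fun p hp k hk => n.N0_Q b hF c τ hodd hp hk.1 hk.2)
      (fun p hp => mem_inf.2 ⟨h p hp, ?_⟩) (fun s hs => b.W_le_Q i (hyW s hs))
    have hyP := n.UP hy
    have hpP := hPWP hp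
    exact mul_mem (mul_mem (mul_mem hpP hyP) (inv_mem hpP)) (inv_mem hyP)
  exact kernel (K := QQ (R i)) (n.PW_ind b.toBT) YW_le_PW (fun p hp => hWN (hPN (hPWP hp)))
    (fun x hx => hWN (b.Q_le i hx)) (fun p hp k hk => n.Q_W b.toBT hp hk) h1 hyW

end Nd

end Cfsg.Agent.Omega.HOneQ
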