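import Cfsg.Agent.Omega.HOneQ.NodeQOut
import Cfsg.Agent.Omega.HOneQ.ResP
import Cfsg.Agent.Omega.HOne.XV
import Cfsg.Agent.Omega.Lie.Nodes.NodeMult
import Cfsg.Agent.Omega.Lie.Nodes.Moved

/-!
# II.0h1, split, `q ≥ 4`: (S) on `W i / Z(W i)` (#15939 (S'), #17659 (C))

`P_W` centralises `m⁻¹ V' m` on `M = W i / Z(W i)`: `Sc.cen_M`.

* `p_eq_n`: the point of the line `V' = V^{p'}` is `n g₀`, `g₀ = P1 (p' v(0,1) p'⁻¹)`;
* `conj_P2`: `P2 (x u x⁻¹) ≡ ε c' P2 u` modulo `N₀`;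
* `hst`: an element of `P_W ∩ N(V)` commutes with `m⁻¹ l m` modulo `O₂(N(R i))`;
* `card_Lin`: the number of lines; `Sc.cen_M`: Fixed.main.
-/

set_option autoImplicit false
set_option linter.unusedSectionVars false

namespace Cfsg.Agent.Omega.HOneQ.NodeQ

open Subgroup Cfsg.Agent.Omega.BTwo Cfsg.Agent.Omega.Lie Cfsg.Agent.Omega.Lie.Quot Cfsg.Agent.Omega.HOne
  Cfsg.Agent.Omega.HOne.ModZ Cfsg.Agent.Lib.SL2Mat
open Cfsg.Agent.Omega.Lie.Nodes hiding Lin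

universe u v w

variable {G : Type u} [Group G] {ι : Type w} {V : Subgroup G} {R : ι → Subgroup G} {i j : ι}
  {F : Type v} [Field F] {v : F → F → G} {w1 w2 t : F → G}
  {M : Type u} [AddCommGroup M] [Module F M] [DistribMulAction (HQ (R i)) M] {p : G → M}
  {f : M →ₗ[F] M →ₗ[F] F} {e : F →ₗ[F] M} {ω : M →ₗ[F] F} {σ : HQ (R i) →* RingAut F} {κ : HQ (R i) → F}
  [Finite G] [Finite F] [CharP F 2] {P : Subgroup G}
  {N : Type u} [AddCommGroup N] [Module F N] {P1 P2 : G → N}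

/-- the kernel of `π'` and its values -/
structure EQ (q : Fq V R i v M p f e ω σ κ) (b : BTS V R) (c : Coord V R i j v w1 w2) (τ : TorD V R i j v t)
    (y : YPair V R i j w1 w2 N P1 P2) (hF : ∃ a : F, a ≠ 0 ∧ a ≠ 1)
    (π' : LinearMap.ker ω →ₗ[F] N ⧸ N0 b.toBT c y) (M0 : Submodule F M) (n : N →ₗ[F] M)
    (s : N →ₗ[F] N →ₗ[F] M) (sh : N → N →ₗ[F] F) : Prop where
  E : EigAbs.Eig f e ω (q.TL c τ) (q.DS b.toBT c τ y hF) (N0 b.toBT c y) π' (q.AL b.toBT c y) M0 n s sh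
  πk : ∀ x, π' x = 0 ↔ (x : M) ∈ q.DS b.toBT c τ y hF
  πU : ∀ u (_ : u ∈ UU V R i) (h : ω (p u) = 0), π' ⟨p u, h⟩ = (N0 b.toBT c y).mkQ (P1 u)

theorem exists_EQ (q : Fq V R i v M p f e ω σ κ) (b : BTS V R) (c : Coord V R i j v w1 w2) (τ : TorD V R i j v t)
    (y : YPair V R i j w1 w2 N P1 P2) (hF : ∃ a : F, a ≠ 0 ∧ a ≠ 1) :
    ∃ (π' : LinearMap.ker ω →ₗ[F] N ⧸ N0 b.toBT c y) (M0 : Submodule F M) (n : N →ₗ[F] M)
      (s : N →ₗ[F] N →ₗ[F] M) (sh : N → N →ₗ[F] F), EQ q b c τ y hF π' M0 n s sh := by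
  obtain ⟨π', Λ, h, hU, -⟩ := q.exists_pre b c τ y hF
  obtain ⟨M0, n, s, sh, E⟩ := h.exists_eig
  exact ⟨π', M0, n, s, sh, E, h.πk, hU⟩

section point

variable {q : Fq V R i v M p f e ω σ κ} {b : BTS V R} {c : Coord V R i j v w1 w2} {τ : TorD V R i j v t}
  {y : YPair V R i j w1 w2 N P1 P2} {hF : ∃ a : F, a ≠ 0 ∧ a ≠ 1}
  {π' : LinearMap.ker ω →ₗ[F] N ⧸ N0 b.toBT c y} {M0 : Submodule F M} {n : N →ₗ[F] M}
  {s : N →ₗ[F] N →ₗ[F] M} {sh : N → N →ₗ[F] F} (E : EQ q b c τ y hF π' M0 n s sh)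
include E

/-- `p u ≡ n (P1 u)` modulo `D` -/
theorem EQ.p_n {u : G} (hu : u ∈ UU V R i) : p u - n (P1 u) ∈ q.DS b.toBT c τ y hF := by
  have h1 : ω (p u) = 0 := (q.mem_P c (UU_le_WW i hu)).2 hu
  have h2 : ω (n (P1 u)) = 0 := E.E.ω_1 _
  have h3 : π' (⟨p u, h1⟩ - ⟨n (P1 u), h2⟩) = 0 := by
    rw [map_sub, E.πU u hu h1, E.E.n_π _ h2, sub_self]
  exact (E.πk _).1 h3

/-- `n k ∈ D` only for `k ∈ N₀` -/
theorem EQ.n_mem_D {k : N} (hk : n k ∈ q.DS b.toBT c τ y hF) : k ∈ N0 b.toBT c y := by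
  obtain ⟨γ, d, hd, h1⟩ := (E.E.mem_D _).1 hk
  have h2 := E.E.indep (-γ) (-d) (M0.neg_mem hd) k (by rw [h1, map_neg]; abel)
  exact (E.E.n_ker k).1 h2.2.2

variable {p' : G} (S : Sc V R i j v t P p')
include S

/-- the point of the line `V'` -/
theorem EQ.p_eq_n : π R i (S.P_le_N S.mem) • e 1 = n (P1 (p' * v 0 1 * p'⁻¹)) := by
  set l0 := p' * v 0 1 * p'⁻¹ with hl0
  have hl0m : l0 ∈ cj p' V := conj_mem_cj (c.v_mem 0 1)
  have hp0 : p l0 = π R i (S.P_le_N S.mem) • e 1 := by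
    rw [hl0, p_line q c (S.PR S.mem) (S.P_le_N S.mem), one_smul]
  rw [← hp0]
  obtain ⟨γ, d, hd, h1⟩ := (E.E.mem_D _).1 (E.p_n (S.leU hl0m))
  obtain ⟨a, ha, ha1⟩ := id hF
  set a' : Fˣ := Units.mk0 a ha with ha'
  have hT : ∀ x : M, q.TL c τ a' x = tQ τ a' • x := fun x => rfl
  have h2 : q.TL c τ a' (p l0) = a • p l0 := by
    have h3 : q.TL c τ a' (p l0) = p (t a * l0 * (t a)⁻¹) :=
      q.p_act _ (τ.normR ha) _ (S.line_le S.mem hl0m)
    rw [h3, hl0, S.sc a 0 1 ha, p_line q c (S.PR S.mem) (S.P_le_N S.mem), p_line q c (S.PR S.mem) (S.P_le_N S.mem),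
      one_smul, mul_one]
  have h4 : q.TL c τ a' (p l0 - n (P1 l0)) = a • (p l0 - n (P1 l0)) := by
    rw [map_sub, h2, E.E.n_T, smul_sub]
    rfl
  rw [h1, map_add, (E.E.mem_M0 d).1 hd, smul_add] at h4
  have h5 : q.TL c τ a' (e γ) = a⁻¹ • e γ := q.t_e c τ a' γ
  rw [h5, ← LinearMap.map_smul, ← LinearMap.map_smul] at h4
  obtain ⟨h6, h7, -⟩ := E.E.indep (a⁻¹ • γ - a • γ) (d - a • d) (M0.sub_mem hd (M0.smul_mem _ hd)) 0 (by
    rw [map_sub, map_zero, add_zero]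
    have : e (a⁻¹ • γ) - e (a • γ) + (d - a • d) = (e (a⁻¹ • γ) + d) - (e (a • γ) + a • d) := by abel
    rw [this, h4, sub_self])
  have h8 : γ = 0 := by
    rw [← sub_smul] at h6
    refine (smul_eq_zero.1 h6).resolve_left fun h9 => ?_
    have h10 : a * a = 1 := by
      have := sub_eq_zero.1 h9
      nth_rewrite 1 [← this]
      exact inv_mul_cancel₀ ha
    have h11 : (a - 1) * (a - 1) = 0 := by
      linear_combination h10 + (1 - a) * (CharTwo.two_eq_zero (R := F))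
    exact ha1 (sub_eq_zero.1 (mul_self_eq_zero.1 h11))
  have h9 : d = 0 := by
    have h10 : (1 - a) • d = 0 := by rw [sub_smul, one_smul]; exact h7
    exact (smul_eq_zero.1 h10).resolve_left (sub_ne_zero.2 (Ne.symm ha1))
  rw [h8, h9, map_zero, add_zero, sub_eq_zero] at h1
  exact h1

theorem EQ.g_ne : (N0 b.toBT c y).mkQ (P1 (p' * v 0 1 * p'⁻¹)) ≠ 0 := by
  intro h0
  rw [Submodule.mkQ_apply, Submodule.Quotient.mk_eq_zero] at h0
  have h1 := E.p_eq_n S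
  rw [(E.E.n_ker _).2 h0] at h1
  exact pxe_ne q c b _ h1

theorem EQ.om : Om F (im (R i) P) (e 1) (n (P1 (p' * v 0 1 * p'⁻¹))) := by
  rw [← E.p_eq_n S]
  exact ⟨_, pr_mem_im (S.P_le_N S.mem) S.mem, 1, one_ne_zero, by rw [one_smul]⟩

end point

section conj

variable {q : Fq V R i v M p f e ω σ κ} {b : BTS V R} {c : Coord V R i j v w1 w2} {τ : TorD V R i j v t}
  {y : YPair V R i j w1 w2 N P1 P2} {hF : ∃ a : F, a ≠ 0 ∧ a ≠ 1}
  {π' : LinearMap.ker ω →ₗ[F] N ⧸ N0 b.toBT c y} {M0 : Submodule F M} {n : N →ₗ[F] M}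
  {s : N →ₗ[F] N →ₗ[F] M} {sh : N → N →ₗ[F] F} (E : EQ q b c τ y hF π' M0 n s sh)
include E

/-- `P2 (x u x⁻¹) ≡ ε c' P2 u` -/
theorem EQ.conj_P2 {x : G} (hxC : x ∈ centralizer (R i : Set G)) (hN : x ∈ normalizer (R i : Set G))
    (hxV : x ∈ normalizer (V : Set G)) (hxj : cj x (R j) = R j) {ε c' : F} (hε : π R i hN • e 1 = ε • e 1) {k : N}
    (hc' : π R i hN • n k - c' • n k ∈ q.DS b.toBT c τ y hF) {u : G} (hu : u ∈ UU V R j) {c0 : F}
    (huk : P2 u = c0 • k) :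
    x * u * x⁻¹ ∈ UU V R j ∧ P2 (x * u * x⁻¹) - (ε * c' * c0) • k ∈ N0 b.toBT c y := by
  have hε0 : ε ≠ 0 := by
    intro h0
    rw [h0, zero_smul] at hε
    exact pxe_ne q c b hN hε
  have hu' : x * u * x⁻¹ ∈ UU V R j := by
    rw [← b.cj_UU hxV hxj]
    exact conj_mem_cj hu
  refine ⟨hu', ?_⟩
  set u' := x * u * x⁻¹ with hu'd
  have hv0 : ∀ γ, x * v 0 γ * x⁻¹ = v 0 (ε * γ) := by
    intro γ
    have h1 : x * v 0 γ * x⁻¹ ∈ R j := by
      rw [← hxj]; exact conj_mem_cj ((c.mem_R2 _).2 ⟨γ, rfl⟩)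
    obtain ⟨c2, hc2⟩ := (c.mem_R2 _).1 h1
    have h2 : c2 • e 1 = (ε * γ) • e 1 := by
      have h3 := p_line q c hxC hN 0 γ
      rw [← hc2, q.e_eq, e_smul q c, hε, smul_smul, mul_comm γ ε] at h3
      exact h3
    rw [← hc2]
    have h4 : (c2 - ε * γ) • e 1 = 0 := by rw [sub_smul, h2, sub_self]
    rw [sub_eq_zero.1 ((smul_eq_zero.1 h4).resolve_right (e1_ne q c b.toBT))]
  have hv1 : ∀ β, x * v β 0 * x⁻¹ = v β 0 := by
    intro β
    rw [← mem_centralizer_iff.1 hxC _ ((c.mem_R1 _).2 ⟨β, rfl⟩), mul_inv_cancel_right]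
  set X0 := w1 1 * u * (w1 1)⁻¹ * u⁻¹ with hX0
  have hX0U : X0 ∈ UU V R i := b.WU' (c.w1_mem 1) hu
  have huY := UU_le_YY j hu
  have hwY : ∀ a, ∀ z ∈ YY V R, w1 a * z * (w1 a)⁻¹ ∈ YY V R := fun a z hz =>
    conj_mem_of_normalizer (b.NV_le_NY (b.W_le_NV i (c.w1_mem a))) hz
  have hP1 : P1 X0 = c0 • k := by
    rw [hX0, y.mul1 _ (hwY 1 u huY) _ (inv_mem huY), y.w11 1 u huY, y.inv1 huY, one_smul, huk]
    abel
  set w' := x * w1 1 * x⁻¹ with hw'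
  have hw'W : w' ∈ WW V (R i) :=
    conj_mem_of_normalizer (normalizer_le_WW V (R i) hN) (c.w1_mem 1)
  obtain ⟨a', ha'⟩ := c.W1_act w' hw'W
  have ha'ε : a' * ε = 1 := by
    have h1 : w' * v 0 ε * w'⁻¹ = v 1 ε := by
      have h2 : x⁻¹ * v 0 ε * x = v 0 1 := by
        have := hv0 1
        rw [mul_one] at this
        rw [← this]; group
      calc w' * v 0 ε * w'⁻¹ = x * (w1 1 * (x⁻¹ * v 0 ε * x) * (w1 1)⁻¹) * x⁻¹ := by
            rw [hw']; group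
        _ = x * (v 1 0 * v 0 1) * x⁻¹ := by
            rw [h2, c.w1_act, ← c.v_add, zero_add, add_zero, mul_one, zero_add]
        _ = (x * v 1 0 * x⁻¹) * (x * v 0 1 * x⁻¹) := by group
        _ = v 1 ε := by rw [hv1, hv0, ← c.v_add, add_zero, zero_add, mul_one]
    rw [ha', zero_add] at h1
    exact (c.v_inj h1).1
  have hu'Y := UU_le_YY j hu'
  have h3 : P1 (w' * u' * w'⁻¹) = P1 u' + a' • P2 u' := by
    have h4 := b.same hw'W (c.w1_mem a') (fun z hz => by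
      obtain ⟨β, γ, rfl⟩ := (c.mem_V z).1 hz
      rw [ha', c.w1_act]) hu'Y
    have hY1 : w' * u' * w'⁻¹ ∈ YY V R := conj_mem_of_normalizer (b.NV_le_NY (b.W_le_NV i hw'W)) hu'Y
    have hY2 := hwY a' u' hu'Y
    have h5 := ((y.mem_D _ (b.D_le_Y h4)).1 h4).1
    rw [y.mul1 _ hY1 _ (inv_mem hY2), y.inv1 hY2, y.w11 a' u' hu'Y, ← sub_eq_add_neg, sub_eq_zero] at h5
    exact h5
  have h4 : x * X0 * x⁻¹ = w' * u' * w'⁻¹ * u'⁻¹ := by rw [hX0, hw', hu'd]; group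
  have h5 : P1 (x * X0 * x⁻¹) = a' • P2 u' := by
    have hY1 : w' * u' * w'⁻¹ ∈ YY V R := conj_mem_of_normalizer (b.NV_le_NY (b.W_le_NV i hw'W)) hu'Y
    rw [h4, y.mul1 _ hY1 _ (inv_mem hu'Y), h3, y.inv1 hu'Y]
    abel
  have hxi : cj x (R i) = R i := cj_eq_self_iff.2 hN
  have hxX : x * X0 * x⁻¹ ∈ UU V R i := by
    rw [← b.cj_UU hxV hxi]
    exact conj_mem_cj hX0U
  have hDx : ∀ m ∈ q.DS b.toBT c τ y hF, π R i hN • m ∈ q.DS b.toBT c τ y hF := fun m hm =>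
    q.toMZ.sb_smul hN (b.toBT.NV_le_ND hxV) hm
  have h6 : P1 (x * X0 * x⁻¹) - (c0 * c') • k ∈ N0 b.toBT c y := by
    apply E.n_mem_D
    have e1 := E.p_n hxX
    have e2 := hDx _ (E.p_n hX0U)
    rw [smul_sub, q.p_act x hN _ (UU_le_WW i hX0U), hP1, map_smul, cen_smul q c hxC hN] at e2
    have e3 := (q.DS b.toBT c τ y hF).smul_mem c0 hc'
    have e4 : n (P1 (x * X0 * x⁻¹) - (c0 * c') • k) =
        (p (x * X0 * x⁻¹) - c0 • π R i hN • n k) + c0 • (π R i hN • n k - c' • n k) -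
          (p (x * X0 * x⁻¹) - n (P1 (x * X0 * x⁻¹))) := by
      rw [map_sub, map_smul, smul_sub, smul_smul]
      abel
    rw [e4]
    exact sub_mem (add_mem e2 e3) e1
  rw [h5] at h6
  have h7 := (N0 b.toBT c y).smul_mem ε h6
  have h8 : ε • (a' • P2 u' - (c0 * c') • k) = P2 u' - (ε * c' * c0) • k := by
    rw [smul_sub, smul_smul, smul_smul, mul_comm ε a', ha'ε, one_smul]
    congr 2
    ring
  rwa [h8] at h7

end conj

section hst

variable {q : Fq V R i v M p f e ω σ κ} {b : BTS V R} {c : Coord V R i j v w1 w2} {τ : TorD V R i j v t}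
  {y : YPair V R i j w1 w2 N P1 P2} {hF : ∃ a : F, a ≠ 0 ∧ a ≠ 1}
  {π' : LinearMap.ker ω →ₗ[F] N ⧸ N0 b.toBT c y} {M0 : Submodule F M} {n : N →ₗ[F] M}
  {s : N →ₗ[F] N →ₗ[F] M} {sh : N → N →ₗ[F] F} (E : EQ q b c τ y hF π' M0 n s sh)
  {p' : G} (S : Sc V R i j v t P p') {m : G} (sw : Sw V R i j t m)
  (hK2 : ∀ w ∈ WW V (R i), ∀ x ∈ cj p' V, ∃ n ∈ WN V P, ∃ z ∈ ZZ V R i,
      w * (m⁻¹ * x * m) * w⁻¹ * (m⁻¹ * x * m)⁻¹ = n * z)

theorem PW_im (S : Nd V R i j P) (b : BT V R) : im (R i) (PW V R i P) ≤ im (R i) P := by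
  intro x hx
  obtain ⟨g, hN, hg, rfl⟩ := mem_im.1 hx
  exact pr_mem_im hN (S.PW_le b hg)

/-- the image of `P_W` is generated by 2-elements -/
theorem PW_im_two (S : Nd V R i j P) (b : BT V R) (H : Subgroup (im (R i) (PW V R i P)))
    (hH : ∀ x, (∃ k : ℕ, x ^ 2 ^ k = 1) → x ∈ H) : H = ⊤ := by
  have hle : PW V R i P ≤ normalizer (R i : Set G) := (S.PW_le b).trans S.P_le_N
  let θ : PW V R i P →* im (R i) (PW V R i P) :=
    { toFun := fun x => ⟨pr (R i) ⟨x, hle x.2⟩, pr_mem_im _ x.2⟩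
      map_one' := Subtype.ext (map_one _)
      map_mul' := fun x x' => Subtype.ext (map_mul (pr (R i)) ⟨x, hle x.2⟩ ⟨x', hle x'.2⟩) }
  have h1 := S.PW_two b (H.comap θ) fun x ⟨k, hk⟩ => by
    rw [mem_comap]
    exact hH _ ⟨k, by rw [← map_pow, hk, map_one]⟩
  rw [eq_top_iff]
  rintro ⟨x, hx⟩ -
  obtain ⟨g, hN, hg, rfl⟩ := mem_im.1 hx
  have h2 : (⟨g, hg⟩ : PW V R i P) ∈ H.comap θ := by rw [h1]; exact mem_top _
  exact h2

include E S sw hK2

/-- an element of `P_W` normalising `V` commutes with `m⁻¹ l m` modulo `O₂(N(R i))` -/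
theorem EQ.hst {x : G} (hx : x ∈ PW V R i P) (hxV : cj x V = V) {l : G} (hl : l ∈ cj p' V)
    (hN : x ∈ normalizer (R i : Set G)) (hu : m⁻¹ * l * m ∈ normalizer (R i : Set G)) :
    π R i hN * π R i hu = π R i hu * π R i hN := by
  have hxP : x ∈ P := S.PW_le b.toBT hx
  have hxC := S.PR hxP
  have hxV' : x ∈ normalizer (V : Set G) := cj_eq_self_iff.1 hxV
  have hXV := (XV.cen_X_V hF b c).le
  set u := m⁻¹ * l * m with hud
  have huU : u ∈ UU V R j := Sc.conj_U' b sw (S.leU hl)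
  have huS : u ∈ S0 V R P := by
    have := cj_WN_le_S0 (P := P) (inv_mem sw.mX) (conj_mem_cj (line_le_WN S.mem hl))
    rwa [inv_inv] at this
  have hxS : x ∈ normalizer (S0 V R P : Set G) := S0_norm (b.NV_le_NX hxV') (P_norm_WN hxP)
  obtain ⟨l', hl', n', hn', ψ, hψ, e1⟩ := S.S0_fact b τ sw c y hF hXV hK2 (conj_mem_of_normalizer hxS huS)
  set u' := m⁻¹ * l' * m with hud'
  have hu'U : u' ∈ UU V R j := Sc.conj_U' b sw (S.leU hl')
  have hn'Q : n' ∈ QQ (R i) := b.W_le_Q i (S.WN_le_W hn')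
  have hψQ : ψ ∈ QQ (R i) := b.W_le_Q i (D_le_W V R i hψ.2.1)
  set g0 := P1 (p' * v 0 1 * p'⁻¹) with hg0
  -- `P2 u`
  obtain ⟨A, hA, hA'⟩ := y.exists_act c b.toBT (inv_mem sw.mX)
  have hP2 : ∀ r z, P2 (m⁻¹ * (p' * v r z * p'⁻¹) * m) = (ent A 1 0 * z) • g0 := by
    intro r z
    have hY : p' * v r z * p'⁻¹ ∈ YY V R := UU_le_YY i (S.leU (conj_mem_cj (c.v_mem r z)))
    obtain ⟨h1, h2⟩ := S.P1_line b τ c y r z
    have h3 := (hA' _ hY).2
    rw [inv_inv, h1, h2, smul_zero, add_zero, smul_smul] at h3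
    exact h3
  have hA10 : ent A 1 0 ≠ 0 := by
    intro h0
    have h1 : m⁻¹ * v 1 0 * m⁻¹⁻¹ ∈ R j := by
      have h : cj m⁻¹ (R i) = R j := by rw [← sw.m2, cj_inv_cj]
      rw [← h]
      exact conj_mem_cj ((c.mem_R1 _).2 ⟨1, rfl⟩)
    rw [hA, h0, mul_one, mul_one, mul_zero, mul_zero, add_zero, add_zero] at h1
    have h2 : v (ent A 0 0) 0 = 1 := b.eq_one S.hij ((c.mem_R1 _).2 ⟨_, rfl⟩) h1
    have h3 := (c.v_one _ _ h2).1
    have hd := Cfsg.Agent.Lib.SL2Mat.det_eq A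
    rw [h3, h0, mul_zero, zero_mul, sub_zero] at hd
    exact zero_ne_one hd
  obtain ⟨r, z, rfl⟩ := (S.mem_line τ).1 hl
  obtain ⟨r', z', rfl⟩ := (S.mem_line τ).1 hl'
  -- the eigenvalues
  obtain ⟨ε, hε⟩ := (V_iff q c b S.toNd hxP).1 hxV
  have H := nodeFr q b c τ y hF E.E S.toNd S.tP
  have hg := E.g_ne S
  have hom : Om F (im (R i) P) (e 1) (nQ q b c τ y hF E.E ((N0 b.toBT c y).mkQ g0)) := E.om S
  have hNP := pr_mem_im (S.P_le_N hxP) hxP
  obtain ⟨c1, a1, c', hc'⟩ := mem_NN.1 (H.NN_act hg hom hNP (mem_NN.2 ⟨0, 0, 1, by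
    rw [one_smul, map_zero, zero_smul, zero_add, zero_add]⟩ : nQ q b c τ y hF E.E ((N0 b.toBT c y).mkQ g0) ∈
      NN (e 1) (nQ q b c τ y hF E.E) (sQ q b c τ y hF E.E) ((N0 b.toBT c y).mkQ g0)))
  have : Finite M := q.toMZ.finite_M
  have hmul := H.mult' hF hg hom (PW_im S.toNd b.toBT) (PW_im_two S.toNd b.toBT) (pr_mem_im (S.P_le_N hxP) hx)
    hε hc'
  change π R i hN • n g0 = c1 • e 1 + s g0 a1 + c' • n g0 at hc'
  have hcD : π R i hN • n g0 - c' • n g0 ∈ q.DS b.toBT c τ y hF := by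
    rw [hc', add_sub_cancel_right, ← e_smul q c, E.E.mem_D]
    exact ⟨c1, _, E.E.s_mem g0 a1, rfl⟩
  -- `x₁ = w⁻¹ x`
  obtain ⟨w, hw, hwj⟩ := exists_W_mul b.toBT S.hij hxC hxV'
  have hwQ := b.W_le_Q i hw
  have hwN : w ∈ normalizer (R i : Set G) := b.W_le_N i hw
  have hwC : w ∈ centralizer (R i : Set G) := S.PR (S.QP hwQ)
  have hx1N : w⁻¹ * x ∈ normalizer (R i : Set G) := mul_mem (inv_mem hwN) hN
  have hpr : π R i hx1N = π R i hN := by
    unfold π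
    rw [pr_eq_pr]
    have e2 : (w⁻¹ * x)⁻¹ * x = x⁻¹ * w * x := by group
    rw [e2]
    exact conj_inv_mem_of_normalizer (le_normalizer_O2 (normalizer (R i : Set G)) hN) hwQ
  obtain ⟨h2, h3⟩ := E.conj_P2 (mul_mem (inv_mem hwC) hxC) hx1N (mul_mem (inv_mem (b.W_le_NV i hw)) hxV') hwj
    (ε := ε) (c' := c') (k := g0) (by rw [hpr]; exact hε) (by rw [hpr]; exact hcD) huU (c0 := ent A 1 0 * z)
    (hP2 r z)
  rw [hmul, one_mul] at h3
  set u1 := w⁻¹ * x * u * (w⁻¹ * x)⁻¹ with hu1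
  -- `u1 ≡ u'` modulo `D`
  have h4 : u'⁻¹ * u1 ∈ QQ (R i) := by
    have e2 : u'⁻¹ * u1 = (u'⁻¹ * w⁻¹ * u') * (n' * ψ) * w := by
      have e3 : u1 = w⁻¹ * (x * u * x⁻¹) * w := by rw [hu1]; group
      rw [e3, e1]
      group
    rw [e2]
    refine mul_mem (mul_mem ?_ (mul_mem hn'Q hψQ)) hwQ
    exact conj_inv_mem_of_normalizer (le_normalizer_O2 (normalizer (R i : Set G)) (S.P_le_N (S.UP hu'U)))
      (inv_mem hwQ)
  have h5 : u'⁻¹ * u1 ∈ DD V R := by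
    rw [b.D_eq (Ne.symm S.hij)]
    exact mem_inf.2 ⟨UU_le_WW j (mul_mem (inv_mem hu'U) h2), h4⟩
  have h6 : P2 u1 = P2 u' := ((y.eq_iff (UU_le_YY j h2) (UU_le_YY j hu'U)).1 h5).2
  rw [h6, hud', hP2 r' z', ← sub_smul] at h3
  have h7 : z' = z := by
    have h8 : ((ent A 1 0 * z' - ent A 1 0 * z) = 0) := by
      by_contra h9
      have h10 := (N0 b.toBT c y).smul_mem (ent A 1 0 * z' - ent A 1 0 * z)⁻¹ h3
      rw [smul_smul, inv_mul_cancel₀ h9, one_smul] at h10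
      apply hg
      rw [Submodule.mkQ_apply, Submodule.Quotient.mk_eq_zero]
      exact h10
    exact mul_left_cancel₀ hA10 (sub_eq_zero.1 h8)
  -- `u' ≡ u` modulo `O₂`
  have hu'N : u' ∈ normalizer (R i : Set G) := S.P_le_N (S.UP hu'U)
  have h8 : π R i hu'N = π R i hu := by
    unfold π
    rw [pr_U b.toBT y hu'U, pr_U b.toBT y huU, hud', hP2, hud, hP2, h7]
  have h9 : π R i (mul_mem (mul_mem hN hu) (inv_mem hN)) = π R i hu'N := by
    unfold π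
    rw [pr_eq_pr, e1]
    have e2 : (u' * n' * ψ)⁻¹ * u' = ψ⁻¹ * n'⁻¹ := by group
    rw [e2]
    exact mul_mem (inv_mem hψQ) (inv_mem hn'Q)
  rw [h8] at h9
  have h10 : π R i (mul_mem (mul_mem hN hu) (inv_mem hN)) = π R i hN * π R i hu * (π R i hN)⁻¹ := by
    unfold π
    rw [← map_inv, ← map_mul, ← map_mul]
    rfl
  rw [h10] at h9
  exact mul_inv_eq_iff_eq_mul.1 h9

end hst

section card

variable {q : Fq V R i v M p f e ω σ κ} {b : BTS V R} {c : Coord V R i j v w1 w2} {τ : TorD V R i j v t}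
  {y : YPair V R i j w1 w2 N P1 P2} {hF : ∃ a : F, a ≠ 0 ∧ a ≠ 1}
  {π' : LinearMap.ker ω →ₗ[F] N ⧸ N0 b.toBT c y} {M0 : Submodule F M} {n : N →ₗ[F] M}
  {s : N →ₗ[F] N →ₗ[F] M} {sh : N → N →ₗ[F] F} (E : EQ q b c τ y hF π' M0 n s sh)
  {p' : G} (S : Sc V R i j v t P p')

omit [Finite G] in
/-- the lines `V^x` for `x ∈ P_W` are those for `x ∈ P` -/
theorem card_Lin_PW (S : Nd V R i j P) (b : BT V R) :
    Nat.card (Nodes.Lin V (PW V R i P)) = Nat.card (Nodes.Lin V P) := by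
  refine Nat.card_congr (Equiv.ofBijective (fun L => ⟨L.1, by
    obtain ⟨z, hz, e1⟩ := L.2
    exact ⟨z, S.PW_le b hz, e1⟩⟩) ⟨?_, ?_⟩)
  · intro L L' h
    exact Subtype.ext (congrArg (fun L : Nodes.Lin V P => L.1) h)
  · rintro ⟨L, z, hz, rfl⟩
    obtain ⟨z', hz', e1⟩ := S.exists_PW hz
    exact ⟨⟨cj z V, z', hz', e1.symm⟩, rfl⟩

theorem finrank_NN_le {A : Type*} [AddCommGroup A] [Module F A] [Finite M] {N' : Type*} [AddCommGroup N']
    [Module F N'] {e1 : M} {n : N' →ₗ[F] M} {sf : N' →ₗ[F] A →ₗ[F] M} {g : N'} :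
    Module.finrank F (NN e1 n sf g) ≤ Module.finrank F (LinearMap.range (sf g)) + 2 := by
  have h2 : ∀ m : M, Module.finrank F (Submodule.span F {m}) ≤ 1 := fun m => by
    have := finrank_span_finset_le_card (R := F) ({m} : Finset M)
    rwa [Finset.coe_singleton, Finset.card_singleton] at this
  have h4 := Submodule.finrank_add_le_finrank_add_finrank (Submodule.span F {e1} ⊔ LinearMap.range (sf g))
    (Submodule.span F {n g})
  have h5 := Submodule.finrank_add_le_finrank_add_finrank (Submodule.span F {e1}) (LinearMap.range (sf g))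
  have h6 := h2 e1
  have h7 := h2 (n g)
  unfold NN
  omega

include E S

/-- the number of lines -/
theorem EQ.card_lt : (Module.finrank F (NN (e 1) (nQ q b c τ y hF E.E) (sQ q b c τ y hF E.E)
    ((N0 b.toBT c y).mkQ (P1 (p' * v 0 1 * p'⁻¹)))) + 1).choose 2 + 1 < Nat.card (Nodes.Lin V (PW V R i P)) := by
  have H := nodeFr q b c τ y hF E.E S.toNd S.tP
  have hg := E.g_ne S
  have hom : Om F (im (R i) P) (e 1)
      (nQ q b c τ y hF E.E ((N0 b.toBT c y).mkQ (P1 (p' * v 0 1 * p'⁻¹)))) := E.om S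
  set g := (N0 b.toBT c y).mkQ (P1 (p' * v 0 1 * p'⁻¹)) with hgd
  have : Finite M := q.toMZ.finite_M
  have h3 : 3 < Nat.card F := by
    obtain ⟨a, ha, ha1⟩ := id hF
    exact three_lt_card ha ha1
  rw [card_Lin_PW S.toNd b.toBT, Lin_relIndex]
  have hF1 : 0 < Nat.card F - 1 := by omega
  have hcard : ∀ {a : ℕ}, Nat.card {m : M // Om F (im (R i) P) (e 1) m} = (Nat.card F - 1) * a →
      (normalizer (V : Set G)).relIndex P = a := fun hc => by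
    rw [H.card_om, card_rel q c b S.toNd] at hc
    exact Nat.eq_of_mul_eq_mul_left hF1 hc
  have hle := finrank_NN_le (e1 := e 1) (n := nQ q b c τ y hF E.E) (sf := sQ q b c τ y hF E.E) (g := g)
  by_cases hk : ∀ k, sQ q b c τ y hF E.E g k = 0 → shQ q b c τ y hF E.E k g = 0
  · have han : ∀ a, shQ q b c τ y hF E.E a g = 0 → sQ q b c τ y hF E.E g a = 0 :=
      fun a ha => H.beta_aniso hF hg hom hk ha
    obtain ⟨a, ha⟩ := H.beta_ne hg hom hk
    have hr := H.beta_finrank han ha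
    rw [hcard (H.card_om_beta' hg hom hk hr)]
    rw [hr] at hle
    have h4 : (Module.finrank F (NN (e 1) (nQ q b c τ y hF E.E) (sQ q b c τ y hF E.E) g) + 1).choose 2 ≤
        (2 + 2 + 1).choose 2 := Nat.choose_le_choose _ (by omega)
    have h5 : (2 + 2 + 1).choose 2 = 10 := by decide
    have h6 : 4 ^ 2 ≤ Nat.card F ^ 2 := Nat.pow_le_pow_left (by omega) 2
    omega
  · push Not at hk
    obtain ⟨k, hk, hqk⟩ := hk
    have hs := H.sigma_zero hg hom hk hqk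
    have hr : Module.finrank F (LinearMap.range (sQ q b c τ y hF E.E g)) = 0 := by
      have h1 : LinearMap.range (sQ q b c τ y hF E.E g) = ⊥ := by
        rw [LinearMap.range_eq_bot]
        ext l
        exact hs l
      rw [h1, finrank_bot]
    rw [hcard (card_om_line (d := nQ q b c τ y hF E.E g) ?_ (H.sigma_iff hg hom hk hqk))]
    · rw [hr] at hle
      have h4 : (Module.finrank F (NN (e 1) (nQ q b c τ y hF E.E) (sQ q b c τ y hF E.E) g) + 1).choose 2 ≤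
          (0 + 2 + 1).choose 2 := Nat.choose_le_choose _ (by omega)
      have h5 : (0 + 2 + 1).choose 2 = 3 := by decide
      omega
    · intro a a' h0
      have h1 := H.indep a 0 (a' • g) (zero_mem _) (by rw [map_smul, add_zero, ← h0])
      exact ⟨h1.1, (smul_eq_zero.1 h1.2.2).resolve_right hg⟩

end card

section main

variable {q : Fq V R i v M p f e ω σ κ} {b : BTS V R} {c : Coord V R i j v w1 w2} {τ : TorD V R i j v t}
  {y : YPair V R i j w1 w2 N P1 P2} {hF : ∃ a : F, a ≠ 0 ∧ a ≠ 1}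
  {π' : LinearMap.ker ω →ₗ[F] N ⧸ N0 b.toBT c y} {M0 : Submodule F M} {n : N →ₗ[F] M}
  {s : N →ₗ[F] N →ₗ[F] M} {sh : N → N →ₗ[F] F} (E : EQ q b c τ y hF π' M0 n s sh)
  {p' : G} (S : Sc V R i j v t P p')
include E S

/-- `N_M ≤` the image of `W_N` -/
theorem EQ.NN_sb {x : M} (hx : x ∈ NN (e 1) (nQ q b c τ y hF E.E) (sQ q b c τ y hF E.E)
    ((N0 b.toBT c y).mkQ (P1 (p' * v 0 1 * p'⁻¹)))) : x ∈ q.toMZ.sb (WN V P) := by
  have H := nodeFr q b c τ y hF E.E S.toNd S.tP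
  rw [H.NN_eq (E.g_ne S) (E.om S)] at hx
  have key : ∀ c : F, c • x ∈ q.toMZ.sb (WN V P) := by
    induction hx using Submodule.span_induction with
    | mem x hx =>
      intro a'
      obtain ⟨g, hg, hN, a, -, rfl⟩ := om_of q b c τ y hF E.E S.toNd S.tP hx
      rw [smul_smul, ← p_line q c (S.PR hg) hN 0 (a' * a)]
      have h1 : g * v 0 (a' * a) * g⁻¹ ∈ cj g V := conj_mem_cj (c.v_mem _ _)
      exact q.toMZ.p_mem (S.line_le hg h1) (line_le_WN hg h1)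
    | zero => intro a'; rw [smul_zero]; exact zero_mem _
    | add x x' _ _ h1 h2 => intro a'; rw [smul_add]; exact add_mem (h1 a') (h2 a')
    | smul a x _ h1 => intro a'; rw [smul_smul]; exact h1 _
  have := key 1
  rwa [one_smul] at this

theorem EQ.WN_NN {w : G} (hw : w ∈ WN V P) : p w ∈ NN (e 1) (nQ q b c τ y hF E.E) (sQ q b c τ y hF E.E)
    ((N0 b.toBT c y).mkQ (P1 (p' * v 0 1 * p'⁻¹))) := by
  have H := nodeFr q b c τ y hF E.E S.toNd S.tP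
  rw [H.NN_eq (E.g_ne S) (E.om S)]
  let T : Subgroup G :=
    { carrier := {w | w ∈ WW V (R i) ∧ p w ∈ Submodule.span F {x | Om F (im (R i) P) (e 1) x}}
      one_mem' := ⟨one_mem _, by rw [q.toMZ.p_one]; exact zero_mem _⟩
      mul_mem' := by
        rintro w w' ⟨hw, h⟩ ⟨hw', h'⟩
        exact ⟨mul_mem hw hw', by rw [q.p_mul w hw w' hw']; exact add_mem h h'⟩
      inv_mem' := by
        rintro w ⟨hw, h⟩
        exact ⟨inv_mem hw, by rw [q.toMZ.p_inv hw]; exact neg_mem h⟩ }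
  have hT : WN V P ≤ T := WN_le fun g hg x hx => by
    refine ⟨S.line_le hg hx, ?_⟩
    obtain ⟨β, γ, h2⟩ := (c.mem_V _).1 (mem_cj.1 hx)
    have h3 : x = g * v β γ * g⁻¹ := by rw [h2]; group
    rw [h3, p_line q c (S.PR hg) (S.P_le_N hg)]
    exact Submodule.smul_mem _ _ (Submodule.subset_span (to_om q b c τ y hF E.E S.toNd S.tP hg _))
  exact (hT hw).2

/-- **(S) on `M`** -/
theorem EQ.cen {m : G} (sw : Sw V R i j t m)
    (hK2 : ∀ w ∈ WW V (R i), ∀ x ∈ cj p' V, ∃ n ∈ WN V P, ∃ z ∈ ZZ V R i,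
      w * (m⁻¹ * x * m) * w⁻¹ * (m⁻¹ * x * m)⁻¹ = n * z)
    {x : G} (hx : x ∈ PW V R i P) {l : G} (hl : l ∈ cj p' V) (hN : x ∈ normalizer (R i : Set G))
    (hu : m⁻¹ * l * m ∈ normalizer (R i : Set G)) (z : M) :
    π R i hN • π R i hu • z = π R i hu • π R i hN • z := by
  have H := nodeFr q b c τ y hF E.E S.toNd S.tP
  have hg := E.g_ne S
  have hom : Om F (im (R i) P) (e 1)
      (nQ q b c τ y hF E.E ((N0 b.toBT c y).mkQ (P1 (p' * v 0 1 * p'⁻¹)))) := E.om S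
  have : Finite M := q.toMZ.finite_M
  have hPWP := S.PW_le b.toBT
  have hle : PW V R i P ≤ normalizer (R i : Set G) := hPWP.trans S.P_le_N
  have huU : m⁻¹ * l * m ∈ UU V R j := Sc.conj_U' b sw (S.leU hl)
  have huC : m⁻¹ * l * m ∈ centralizer (R i : Set G) := S.PR (S.UP huU)
  let θ : PW V R i P →* HQ (R i) :=
    { toFun := fun x => pr (R i) ⟨x, hle x.2⟩
      map_one' := map_one _
      map_mul' := fun x x' => map_mul (pr (R i)) ⟨x, hle x.2⟩ ⟨x', hle x'.2⟩ }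
  let I1 : DistribMulAction (PW V R i P) M := DistribMulAction.compHom M θ
  have hsm : ∀ (x : PW V R i P) (m : M), x • m = π R i (hle x.2) • m := fun _ _ => rfl
  have I2 : SMulCommClass (PW V R i P) F M := ⟨fun x c' m => by
    rw [hsm, hsm]
    exact cen_smul q c (S.PR (hPWP x.2)) (hle x.2) c' m⟩
  let a : M →ₗ[F] M :=
    { toFun := fun m => π R i hu • m
      map_add' := fun m m' => smul_add _ _ _
      map_smul' := fun c' m => cen_smul q c huC hu c' m }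
  have ha : ∀ m, a m = π R i hu • m := fun _ => rfl
  have key := Fixed.main (P := PW V R i P) (Ω := Nodes.Lin V (PW V R i P)) f q.symm q.nd
    (fun x m m' => q.H0_isom c (pr_mem_im (hle x.2) (S.PR (hPWP x.2))) m m')
    (NN (e 1) (nQ q b c τ y hF E.E) (sQ q b c τ y hF E.E) ((N0 b.toBT c y).mkQ (P1 (p' * v 0 1 * p'⁻¹))))
    (fun x m hm => H.NN_act hg hom (pr_mem_im (hle x.2) (hPWP x.2)) hm)
    (fun x hx x' hx' => by
      obtain ⟨w, hw, hwW, rfl⟩ := E.NN_sb S hx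
      obtain ⟨w', hw', hwW', rfl⟩ := E.NN_sb S hx'
      have h1 := q.f_eq w hwW w' hwW'
      rw [S.WN_comm b hw hw', mul_inv_cancel_right, mul_inv_cancel] at h1
      exact (c.v_one _ _ h1.symm).1)
    a (fun x x' => q.H0_isom c (pr_mem_im hu huC) x x')
    (fun x => by
      obtain ⟨w, hw, rfl⟩ := q.p_surj x
      obtain ⟨n', hn', z, hz, h1⟩ := hK2 w hw l hl
      rw [ha, q.toMZ.smul_sub hu hw]
      have h2 : m⁻¹ * l * m * w * (m⁻¹ * l * m)⁻¹ * w⁻¹ = (n' * z)⁻¹ := by rw [← h1]; group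
      have hnW := S.WN_le_W hn'
      rw [h2, q.toMZ.p_inv (mul_mem hnW hz.1), q.p_mul _ hnW _ hz.1, (q.p_ker _ hz.1).2 hz, add_zero]
      exact neg_mem (E.WN_NN S hn'))
    ⟨V, 1, one_mem _, (cj_one _).symm⟩
    (fun L => by
      obtain ⟨z, hz, e1⟩ := L.2
      exact ⟨⟨z, hz⟩, Subtype.ext e1.symm⟩)
    ((UU V R j).subgroupOf (PW V R i P))
    ((b.U_isPGroup j).comap_of_injective (PW V R i P).subtype (Subgroup.subtype_injective _))
    (fun a ha' => Subtype.ext (cj_eq_self_iff.2 (centralizer_le_normalizer _ (UU_le_cen j ha'))))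
    (fun L L' hL hL' => by
      obtain ⟨z, hz, e1⟩ := L.2
      obtain ⟨z', hz', e2⟩ := L'.2
      have hn : cj z V ≠ V := fun e3 => hL (Subtype.ext (e1.trans e3))
      have hn' : cj z' V ≠ V := fun e3 => hL' (Subtype.ext (e2.trans e3))
      obtain ⟨a, ha', e3⟩ := S.trans z (hPWP hz) hn z' (hPWP hz') hn'
      refine ⟨⟨a, UU_le_PW j ha'⟩, ha', Subtype.ext ?_⟩
      change cj a L.1 = L'.1
      rw [e1, e2, e3])
    (fun x hxe z => by
      have hxV : cj (x : G) V = V := congrArg Subtype.val hxe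
      have h1 := E.hst S sw hK2 x.2 hxV hl (hle x.2) hu
      change π R i (hle x.2) • π R i hu • z = π R i hu • π R i (hle x.2) • z
      rw [← mul_smul, ← mul_smul, h1])
    (E.card_lt S) ⟨x, hx⟩ z
  exact key

end main

end NodeQ

universe u v w

open Subgroup Cfsg.Agent.Omega.BTwo Cfsg.Agent.Omega.HOne.ModZ
open Cfsg.Agent.Omega.Lie (TorD)

/-- **(S) on `W i / Z(W i)`**, types (sigma) and (beta) -/
theorem Sc.cen_M {G : Type u} [Group G] {ι : Type w} {V : Subgroup G} {R : ι → Subgroup G} {i j : ι}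
    {F : Type v} [Field F] {v : F → F → G} {w1 w2 t : F → G} [Finite G] [Finite F] [CharP F 2] {P : Subgroup G}
    {p' m : G} (S : Sc V R i j v t P p') (b : BTS V R) (c : Coord V R i j v w1 w2) (τ : TorD V R i j v t)
    (sw : Sw V R i j t m) (hF : ∃ a : F, a ≠ 0 ∧ a ≠ 1)
    (hK2 : ∀ w ∈ WW V (R i), ∀ x ∈ cj p' V, ∃ n ∈ WN V P, ∃ z ∈ ZZ V R i,
      w * (m⁻¹ * x * m) * w⁻¹ * (m⁻¹ * x * m)⁻¹ = n * z) :
    ∀ x ∈ PW V R i P, ∀ l ∈ cj p' V,
      x * (m⁻¹ * l * m) * x⁻¹ * (m⁻¹ * l * m)⁻¹ ∈ Lie.LemNS.N0 V R i := by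
  obtain ⟨M, _, _, p, mz⟩ := exists_MZ b.toBT i
  obtain ⟨_, f, e, ω, σ, κ, q⟩ := mz.exists_fq hF b.toBT c τ
  obtain ⟨N, _, _, P1, P2, y⟩ := c.exists_yPair b.toBT
  obtain ⟨π', M0, n, s, sh, E⟩ := NodeQ.exists_EQ q b c τ y hF
  intro x hx l hl
  have hxP := S.PW_le b.toBT hx
  have hN := S.P_le_N hxP
  have huU : m⁻¹ * l * m ∈ UU V R j := Sc.conj_U' b sw (S.leU hl)
  have huP := S.UP huU
  have hu := S.P_le_N huP
  set u := m⁻¹ * l * m with hud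
  have hgP : x * u * x⁻¹ * u⁻¹ ∈ P := mul_mem (mul_mem (mul_mem hxP huP) (inv_mem hxP)) (inv_mem huP)
  refine mem_inf.2 ⟨S.PR hgP, N_le_NZ i (S.P_le_N hgP), fun d hd => ?_⟩
  have hg := S.P_le_N hgP
  have h1 : ∀ z : M, NodeQ.π R i hg • z = z := by
    intro z
    have h2 : NodeQ.π R i hg = NodeQ.π R i hN * NodeQ.π R i hu * (NodeQ.π R i hN)⁻¹ * (NodeQ.π R i hu)⁻¹ := by
      unfold NodeQ.π
      rw [← map_inv, ← map_inv, ← map_mul, ← map_mul, ← map_mul]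
      rfl
    rw [h2, mul_smul, mul_smul, mul_smul]
    rw [E.cen S sw hK2 hx hl hN hu, smul_inv_smul, smul_inv_smul]
  have h2 := q.toMZ.smul_sub hg hd
  rw [h1, sub_self] at h2
  exact (q.p_ker _ (MZ.comm_mem_W hg hd)).1 h2.symm

end Cfsg.Agent.Omega.HOneQ
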