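import Cfsg.Agent.Omega.Lie.LayerSI
import Cfsg.Agent.Omega.IIa4.Lay

/-!
# LAYER over `BTS V R` and `SylI τ S` (no Sylow group of `G`)

`lay` : `Lay V R i j (TT τ) S` from the K-facts `KRows` for `b : BTS V R`, `I : SylI τ S`.
`known` : the components of `N(R i)/O₂(N(R i))` are known if all proper subgroups have known simple sections.
-/

set_option autoImplicit false
set_option linter.unusedSectionVars false

namespace Cfsg.Agent.Omega.HOneQ.LayI

open Subgroup Cfsg Cfsg.Agent.Omega.BTwo Cfsg.Agent.Omega.Lie Cfsg.Agent.Omega.Lie.Quot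
open Cfsg.Agent.Omega.Lie.LayerMain (KRows)
open Cfsg.Agent.Omega.HOneQ.ECen (SylI)
open Cfsg.Agent.Omega.IIa4 (Lay)

universe u v w

variable {G : Type u} [Group G] [Finite G] {ι : Type w} {V : Subgroup G} {R : ι → Subgroup G} {F : Type v} [Field F]
  [Finite F] [CharP F 2] {i j : ι} {vv : F → F → G} {t : F → G} {w1 w2 : F → G}

/-- **LAYER** at `(i, j)`. -/
theorem lay (KR : KRows.{u}) (b : BTS V R) (c : Coord V R i j vv w1 w2) (τ : TorD V R i j vv t)
    (hidx : Odd ((normalizer (V : Set G)).relIndex (normalizer (R i : Set G))))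
    (hF : 4 ≤ Nat.card F) {S : Subgroup (HQ (R i))} (I : SylI τ S)
    (hk : ∀ K : Subgroup (HQ (R i)), IsComponent K → K ≤ H0 R i → IsKnownSimple' (K ⧸ center K)) :
    Lay V R i j (TT τ) S where
  odd := OddAllS.oddC b c τ hidx hF
  hyp K hK := (LayerSI.hyp KR b c τ hidx hF I hK.1 hK.2.1 (hk K hK.1 hK.2.1) hK.2.2).1
  lie K hK := (LayerSI.hyp KR b c τ hidx hF I hK.1 hK.2.1 (hk K hK.1 hK.2.1) hK.2.2).2

theorem normalizer_ne_top (b : BT V R) (hs : IsSimpleGroup G) (hnc : ¬ IsMulCommutative G) (i : ι) :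
    normalizer (R i : Set G) ≠ ⊤ := by
  intro h1
  have h2 : (R i).Normal := normalizer_eq_top_iff.mp h1
  have h3 : R i = ⊤ := h2.eq_bot_or_eq_top.resolve_left (b.R_ne i)
  have h4 : V = ⊤ := top_le_iff.1 (h3 ▸ b.R_le i)
  exact hnc ⟨⟨fun x y => b.V_comm x (h4 ▸ mem_top x) y (h4 ▸ mem_top y)⟩⟩

end Cfsg.Agent.Omega.HOneQ.LayI
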