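import Cfsg.Agent.Omega.HOneQ.ECen

/-!
# `SylI` from a 2-subgroup `T₁` of `N(V) ∩ N(R i)` which is Sylow in `N(R i)` (no Sylow group of `G`)

`TSyl V R i T₁` : `T₁` is a 2-subgroup of `N(V) ∩ N(R i)` of odd index in `N(R i)`.  `sylI_of` : then
`SS R i T₁ = (T₁ ∩ C(R i))/O₂(N(R i))` satisfies `ECen.SylI`.  Also `QQ_le`, `W_le`, `Y_le`, `exists_P`.
-/

set_option autoImplicit false
set_option linter.unusedSectionVars false

namespace Cfsg.Agent.Omega.HOneQ.SylIOf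

open Subgroup Cfsg Cfsg.Agent.Omega.BTwo Cfsg.Agent.Omega.Lie Cfsg.Agent.Omega.Lie.Quot
open Cfsg.Agent.Omega.HOneQ.ECen (SylI)

universe u v w

variable {G : Type u} [Group G] {ι : Type w} {V : Subgroup G} {R : ι → Subgroup G} {i j : ι}
  {F : Type v} [Field F] {vv : F → F → G} {w1 w2 t : F → G} {T₁ : Subgroup G}

/-- `T₁` is a 2-subgroup of `N(V) ∩ N(R i)` of odd index in `N(R i)` -/
structure TSyl (V : Subgroup G) (R : ι → Subgroup G) (i : ι) (T₁ : Subgroup G) : Prop where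
  p2 : IsPGroup 2 T₁
  leV : T₁ ≤ normalizer (V : Set G)
  leR : T₁ ≤ normalizer (R i : Set G)
  odd : Odd (T₁.relIndex (normalizer (R i : Set G)))

theorem TSyl.of_sylow [Finite G] (S₁ : Sylow 2 G) (hV : (S₁ : Subgroup G) ≤ normalizer (V : Set G))
    (hR : (S₁ : Subgroup G) ≤ normalizer (R i : Set G)) : TSyl V R i (S₁ : Subgroup G) where
  p2 := S₁.isPGroup'
  leV := hV
  leR := hR
  odd := by
    have hf : Fact (Nat.Prime 2) := ⟨Nat.prime_two⟩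
    have h1 := (S₁.subtype hR).not_dvd_index
    rw [← even_iff_two_dvd, Nat.not_even_iff_odd] at h1
    exact h1

namespace TSyl

variable (h : TSyl V R i T₁)
include h

/-- `T₁` as a Sylow 2-subgroup of `N(R i)` -/
theorem exists_sylow [Finite G] : ∃ P : Sylow 2 (normalizer (R i : Set G)),
    (P : Subgroup (normalizer (R i : Set G))) = T₁.subgroupOf (normalizer (R i : Set G)) := by
  have hf : Fact (Nat.Prime 2) := ⟨Nat.prime_two⟩
  have h1 : IsPGroup 2 (T₁.subgroupOf (normalizer (R i : Set G))) :=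
    h.p2.comap_of_injective _ (Subgroup.subtype_injective _)
  have h2 : ¬ 2 ∣ (T₁.subgroupOf (normalizer (R i : Set G))).index := by
    rw [← even_iff_two_dvd, Nat.not_even_iff_odd]
    exact h.odd
  exact ⟨h1.toSylow h2, rfl⟩

theorem QQ_le [Finite G] : QQ (R i) ≤ T₁ := by
  obtain ⟨P, hP⟩ := h.exists_sylow
  rintro _ ⟨x, hx, rfl⟩
  have h1 : x ∈ (P : Subgroup (normalizer (R i : Set G))) := Lib.Cores.pCore_le_sylow P hx
  rw [hP] at h1
  exact h1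

theorem W_le [Finite G] (b : BT V R) : WW V (R i) ≤ T₁ := (b.W_le_Q i).trans h.QQ_le

/-- a 2-subgroup of `N(R i)` containing `T₁` is `T₁` -/
theorem eq_of_le [Finite G] {Q : Subgroup G} (hQ : Q ≤ normalizer (R i : Set G)) (h2 : IsPGroup 2 Q)
    (hle : T₁ ≤ Q) : Q ≤ T₁ := by
  obtain ⟨P, hP⟩ := h.exists_sylow
  have h3 := P.is_maximal' (Q := Q.subgroupOf (normalizer (R i : Set G)))
    (h2.comap_of_injective _ (Subgroup.subtype_injective _)) (by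
      rw [hP]
      intro x hx
      exact mem_subgroupOf.2 (hle (mem_subgroupOf.1 hx)))
  intro x hx
  have h4 : (⟨x, hQ hx⟩ : normalizer (R i : Set G)) ∈ Q.subgroupOf (normalizer (R i : Set G)) :=
    mem_subgroupOf.2 hx
  rw [h3, hP] at h4
  exact mem_subgroupOf.1 h4

theorem Y_le [Finite G] (b : BT V R) : YY V R ≤ T₁ := by
  have hN : T₁ ≤ normalizer (YY V R : Set G) := h.leV.trans b.NV_le_NY
  have h1 : IsPGroup 2 (T₁ ⊔ YY V R : Subgroup G) := h.p2.to_sup_of_normal_right' (Y_isPGroup b) hN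
  exact le_sup_right.trans (h.eq_of_le (sup_le h.leR (YY_le_cen.trans (b.cen_le_N i))) h1 le_sup_left)

theorem A_le [Finite G] (b : BT V R) (j : ι) : AA V R i j ≤ SS R i T₁ := by
  refine im_mono (le_inf ((UU_le_YY j).trans (h.Y_le b)) ?_)
  exact (UU_le_cen j).trans (centralizer_le (b.R_le i))

/-- `T₁ ⊓ C(R i) = (T₁ ⊓ C(V)) W i` -/
theorem S_eq [Finite G] (b : BT V R) (C : Crd V R i j vv w1 w2) :
    T₁ ⊓ centralizer (R i : Set G) = (T₁ ⊓ centralizer (V : Set G)) ⊔ WW V (R i) := by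
  have hWR : WW V (R i) ≤ centralizer (R i : Set G) := (b.W_le_Q i).trans (Q_le_C b i)
  apply le_antisymm
  · intro g hg
    obtain ⟨w, hw, hwg⟩ := cen_fact b C (P := T₁ ⊓ centralizer (R i : Set G))
      (h.p2.to_le inf_le_left) (inf_le_left.trans h.leV) inf_le_right (le_inf (h.W_le b) hWR) hg
    have e : g = w⁻¹ * (w * g) := by group
    rw [e]
    refine mul_mem (mem_sup_right (inv_mem hw)) (mem_sup_left (mem_inf.2 ⟨?_, hwg⟩))
    exact mul_mem (h.W_le b hw) (mem_inf.1 hg).1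
  · refine sup_le (inf_le_inf_left _ (centralizer_le (b.R_le i))) (le_inf (h.W_le b) hWR)

theorem S_eq_im [Finite G] (b : BT V R) (C : Crd V R i j vv w1 w2) :
    SS R i T₁ = im (R i) (T₁ ⊓ centralizer (V : Set G)) := by
  unfold SS
  rw [h.S_eq b C, im_sup (inf_le_right.trans (b.cen_le_N i)) (b.W_le_N i), im_eq_bot (b.W_le_Q i), sup_bot_eq]

theorem ST_mem [Finite G] (b : BT V R) (τ : TorD V R i j vv t) (C : Crd V R i j vv w1 w2) (hij : i ≠ j)
    {x s : HQ (R i)} (hx : x ∈ TT τ) (hs : s ∈ SS R i T₁) : s⁻¹ * (x * s * x⁻¹) ∈ AA V R i j := by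
  obtain ⟨a, ha, rfl⟩ := (mem_TT τ).1 hx
  obtain ⟨g, hg, hgS, rfl⟩ := mem_im.1 hs
  rw [h.S_eq b C] at hgS
  have hle : T₁ ⊓ centralizer (V : Set G) ⊔ WW V (R i) ≤ centralizer (V : Set G) ⊔ WW V (R i) :=
    sup_le (inf_le_right.trans le_sup_left) le_sup_right
  have hgS' : g ∈ centralizer (V : Set G) ⊔ WW V (R i) := hle hgS
  have h1 := comm_X_sup b i (inv_mem hgS') (τ.memX a ha) (τ.normR ha)
  rw [Y_sup_W b hij] at h1
  have htN := τ.normR ha
  have e : (pr (R i) ⟨g, hg⟩)⁻¹ * (pr (R i) ⟨t a, htN⟩ * pr (R i) ⟨g, hg⟩ * (pr (R i) ⟨t a, htN⟩)⁻¹) =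
      pr (R i) ⟨g⁻¹ * t a * g⁻¹⁻¹ * (t a)⁻¹, mul_mem (mul_mem (mul_mem (inv_mem hg) htN) (inv_mem (inv_mem hg)))
        (inv_mem htN)⟩ := by
    have e1 : (⟨g⁻¹ * t a * g⁻¹⁻¹ * (t a)⁻¹, mul_mem (mul_mem (mul_mem (inv_mem hg) htN) (inv_mem (inv_mem hg)))
        (inv_mem htN)⟩ : ↥(normalizer (R i : Set G))) = (⟨g, hg⟩)⁻¹ * (⟨t a, htN⟩ * ⟨g, hg⟩ * (⟨t a, htN⟩)⁻¹) := by
      apply Subtype.ext
      change g⁻¹ * t a * g⁻¹⁻¹ * (t a)⁻¹ = g⁻¹ * (t a * g * (t a)⁻¹)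
      group
    rw [e1]; rfl
  rw [e]
  have h2 : im (R i) (UU V R j ⊔ WW V (R i)) = AA V R i j := by
    rw [im_sup (U_le_N b i j) (b.W_le_N i), im_eq_bot (b.W_le_Q i), sup_bot_eq]
    rfl
  rw [← h2]
  exact pr_mem_im _ h1

/-- the image of `T₁` is a Sylow 2-subgroup of `HQ (R i)` -/
theorem exists_P [Finite G] (b : BT V R) :
    ∃ P : Sylow 2 (HQ (R i)), (P : Subgroup (HQ (R i))) ⊓ H0 R i = SS R i T₁ := by
  have hf : Fact (Nat.Prime 2) := ⟨Nat.prime_two⟩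
  obtain ⟨P₁, hP₁⟩ := h.exists_sylow
  refine ⟨P₁.mapSurjective (pr_surjective (R i)), ?_⟩
  have h1 : ((P₁.mapSurjective (pr_surjective (R i)) : Sylow 2 (HQ (R i))) : Subgroup (HQ (R i))) =
      im (R i) T₁ := by
    change (P₁ : Subgroup (normalizer (R i : Set G))).map (pr (R i)) = im (R i) T₁
    rw [hP₁]
    rfl
  rw [h1]
  exact (im_inf h.QQ_le (Q_le_C b i)).symm

/-- `S ⊓ K` is a Sylow 2-subgroup of every subnormal subgroup `K ≤ H⁰` -/
theorem syl [Finite G] (b : BT V R) {K : Subgroup (HQ (R i))} (hK : K.IsSubnormal)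
    (hK0 : K ≤ H0 R i) {P : Subgroup (HQ (R i))} (hPK : P ≤ K) (hP : IsPGroup 2 P) (hSP : SS R i T₁ ⊓ K ≤ P) :
    P ≤ SS R i T₁ := by
  obtain ⟨P₀, hP₀⟩ := h.exists_P b
  obtain ⟨Q, hQ⟩ := Cfsg.Agent.S0542.result 2 K hK P₀
  have h1 : (Q : Subgroup K) ≤ P.subgroupOf K := by
    rw [hQ]
    intro x hx
    refine mem_subgroupOf.2 (hSP ?_)
    rw [← hP₀]
    exact ⟨⟨mem_subgroupOf.1 hx, hK0 x.2⟩, x.2⟩
  have h2 : P.subgroupOf K = Q := Q.is_maximal' (hP.comap_of_injective _ K.subtype_injective) h1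
  intro x hx
  have h3 : (⟨x, hPK hx⟩ : K) ∈ (Q : Subgroup K) := by
    rw [← h2]
    exact mem_subgroupOf.2 hx
  rw [hQ] at h3
  rw [← hP₀]
  exact ⟨mem_subgroupOf.1 h3, hK0 (hPK hx)⟩

/-- **`SylI`** -/
theorem sylI [Finite G] (b : BT V R) (τ : TorD V R i j vv t) (C : Crd V R i j vv w1 w2) (hij : i ≠ j) :
    SylI τ (SS R i T₁) where
  S2 := im_isPGroup (h.p2.to_le inf_le_left)
  AS := h.A_le b j
  rep s hs := by
    rw [h.S_eq_im b C] at hs
    obtain ⟨g, hg, hgS, e⟩ := mem_im.1 hs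
    exact ⟨g, hg, (mem_inf.1 hgS).2, e⟩
  ST _ hx _ hs := h.ST_mem b τ C hij hx hs
  syl _ hK hK0 _ hPK hP hSP := h.syl b hK hK0 hPK hP hSP

end TSyl

/-- **`SylI`**, structure-free -/
theorem sylI_of [Finite G] (b : BT V R) (τ : TorD V R i j vv t) (C : Crd V R i j vv w1 w2) (hij : i ≠ j)
    (T : Subgroup G) (h2 : IsPGroup 2 T) (hV : T ≤ normalizer (V : Set G)) (hR : T ≤ normalizer (R i : Set G))
    (hodd : Odd (T.relIndex (normalizer (R i : Set G)))) : SylI τ (SS R i T) :=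
  TSyl.sylI ⟨h2, hV, hR, hodd⟩ b τ C hij

end Cfsg.Agent.Omega.HOneQ.SylIOf
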