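import Cfsg.Agent.Omega.Lie.Nodes.AptEx

/-!
# Residues `(0, x)`, types `(sigma)` and `(beta)`, over a bare `BT V R`: the element `τ₁`

`AptH`: the hypotheses (`z` a torus element, `S ≤ T = Σ`, `V'` a second line through `R i`, `P ≤ C(R i)`).
`TauH`: `x = z z^{m₀} κ` of odd order, commuting with `z`, trivial on `S / R i`, `= z²` on `R i` and on `T / S`.
-/

set_option autoImplicit false
set_option linter.unusedSectionVars false

namespace Cfsg.Agent.Omega.HOneQ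

open Subgroup Cfsg.Agent.Omega.BTwo
open Cfsg.Agent.Omega.Lie.Nodes (cmod mem_cmod norm_cmod comm_mod_of_sq odd_conj)

universe u w

variable {G : Type u} [Group G] {ι : Type w}

/-- the hypotheses on the node -/
structure AptH (V : Subgroup G) (R : ι → Subgroup G) (i j : ι) (P O S T V' : Subgroup G) (z ρ m0 : G) : Prop where
  ne : i ≠ j
  zX : z ∈ XX V R
  zi : z ∈ normalizer (R i : Set G)
  zj : z ∈ normalizer (R j : Set G)
  zo : Odd (orderOf z)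
  /-- `z` fixes only two points -/
  tf : ∀ l, l ≠ i → cj z (R l) = R l → l = j
  /-- `z²` has no fixed points on `R i` -/
  zR : ∀ r ∈ R i, z * z * r * (z * z)⁻¹ = r → r = 1
  ρX : ρ ∈ XX V R
  ρi : cj ρ (R i) = R j
  ρj : cj ρ (R j) = R i
  ρz : ρ⁻¹ * z * ρ = z⁻¹
  PR : P ≤ centralizer (R i : Set G)
  zP : z ∈ normalizer (P : Set G)
  OP : O ≤ P
  OK : O ≤ cmod (R i) S
  PO : P ≤ normalizer (O : Set G)
  zO : z ∈ normalizer (O : Set G)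
  two : IsPGroup 2 O
  perf : P ≤ ⁅P, P⁆ ⊔ O
  lift : ∀ c : G, c ∈ normalizer (P : Set G) → c ∈ normalizer (O : Set G) →
    (∀ x ∈ P, c * x * c⁻¹ * x⁻¹ ∈ cmod (R i) S) → ∀ x ∈ P, c * x * c⁻¹ * x⁻¹ ∈ O
  XT : XX V R ≤ normalizer (T : Set G)
  PT : P ≤ normalizer (T : Set G)
  PS : P ≤ normalizer (S : Set G)
  zS : z ∈ normalizer (S : Set G)
  com : ∀ x ∈ T, ∀ y ∈ T, x * y = y * x
  ST : S ≤ T
  VS : V ≤ S
  VS' : V' ≤ S
  triv : ∀ x ∈ P, ∀ s ∈ T, x * s * x⁻¹ * s⁻¹ ∈ S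
  m0P : m0 ∈ P
  m0V : cj m0 V = V'
  m0V' : cj m0 V' = V
  zV' : z ∈ normalizer (V' : Set G)
  /-- `z z^{m₀}` is trivial on `S / R i` -/
  dg : ∀ s ∈ S, z * (m0 * z * m0⁻¹) * s * (z * (m0 * z * m0⁻¹))⁻¹ * s⁻¹ ∈ R i
  SD : S ⊓ WW V (R j) ≤ DD V R
  /-- `z` on `V'` is a scalar -/
  lin : ∀ w ∈ WW V (R i), ∀ y ∈ V', w * (z * y * z⁻¹) * w⁻¹ * (z * y * z⁻¹)⁻¹ = z * (w * y * w⁻¹ * y⁻¹) * z⁻¹
  /-- `z` on `V / R i` is the inverse scalar -/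
  linV : ∀ w ∈ WW V (R i), ∀ y ∈ V, w * (z * y * z⁻¹) * w⁻¹ * (z * y * z⁻¹)⁻¹ = z⁻¹ * (w * y * w⁻¹ * y⁻¹) * z
  VD : V' ⊓ DD V R ≤ R i
  dd : ∀ w ∈ WW V (R i), ∃ d ∈ DD V R, ∀ y ∈ V', d * y * d⁻¹ = w * y * w⁻¹

/-- the properties of `τ₁` -/
structure TauH (V : Subgroup G) (R : ι → Subgroup G) (i : ι) (P O S T : Subgroup G) (z x : G) : Prop where
  odd : Odd (orderOf x)
  comm : x * z = z * x
  Ri : ∀ r ∈ R i, x * r * x⁻¹ = z * z * r * (z * z)⁻¹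
  cm : x ∈ cmod (R i) S
  nP : x ∈ normalizer (P : Set G)
  nO : x ∈ normalizer (O : Set G)
  nT : x ∈ normalizer (T : Set G)
  hP : ∀ u ∈ P, x * u * x⁻¹ * u⁻¹ ∈ O
  qm : ∀ s ∈ T, x * s * x⁻¹ * (z * z * s * (z * z)⁻¹)⁻¹ ∈ S

/-- elements of `cmod A S` normalise the groups between `A` and `S` -/
theorem norm_of_cmod [Finite G] {A S L : Subgroup G} {x : G} (hx : x ∈ cmod A S) (hAL : A ≤ L) (hLS : L ≤ S) :
    x ∈ normalizer (L : Set G) := by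
  apply mem_normalizer_of_conj
  intro u hu
  have h2 := mul_mem (hAL (hx.2 u (hLS hu))) hu
  rwa [inv_mul_cancel_right] at h2

namespace AptH

variable {V : Subgroup G} {R : ι → Subgroup G} {i j : ι} {P O S T V' : Subgroup G} {z ρ m0 : G}
  (h : AptH V R i j P O S T V' z ρ m0)
include h

theorem PRN : P ≤ normalizer (R i : Set G) := h.PR.trans (centralizer_le_normalizer _)

theorem cenR {x : G} (hx : x ∈ P) {r : G} (hr : r ∈ R i) : x * r * x⁻¹ = r := by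
  rw [← mem_centralizer_iff.1 (h.PR hx) r hr, mul_inv_cancel_right]

theorem m0i : cj m0 (R i) = R i := cj_eq_self_iff.2 (h.PRN h.m0P)

theorem RV' (b : BT V R) : R i ≤ V' := by
  rw [← h.m0V, ← h.m0i]
  exact cj_mono (b.R_le i)

theorem RS (b : BT V R) : R i ≤ S := (b.R_le i).trans h.VS

theorem V'W : V' ≤ WW V (R i) := by
  rw [← h.m0V]
  exact cj_le_WW (h.PRN h.m0P)

/-- `z z^{m₀} ∈ cmod (R i) S` -/
theorem dg' : z * (m0 * z * m0⁻¹) ∈ cmod (R i) S :=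
  ⟨mul_mem h.zi (mul_mem (mul_mem (h.PRN h.m0P) h.zi) (inv_mem (h.PRN h.m0P))), h.dg⟩

theorem cmod_norm : P ≤ normalizer (cmod (R i) S : Set G) := fun _ hx => norm_cmod (h.PRN hx) (h.PS hx)

/-- **existence of `τ₁`** -/
theorem exists_tau [Finite G] : ∃ x, TauH V R i P O S T z x := by
  have hmO : m0 ∈ normalizer (O : Set G) := h.PO h.m0P
  have hmP : m0 ∈ normalizer (P : Set G) := le_normalizer h.m0P
  set ζ := m0 * z * m0⁻¹ with hζ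
  have hζO : ζ ∈ normalizer (O : Set G) := mul_mem (mul_mem hmO h.zO) (inv_mem hmO)
  have hζP : ζ ∈ normalizer (P : Set G) := mul_mem (mul_mem hmP h.zP) (inv_mem hmP)
  have hζT : ζ ∈ normalizer (T : Set G) := mul_mem (mul_mem (h.PT h.m0P) (h.XT h.zX)) (inv_mem (h.PT h.m0P))
  set w := m0 * z * m0⁻¹ * z⁻¹ with hw
  have hwP : w ∈ P := by
    have h1 := mul_mem h.m0P (conj_mem_of_normalizer h.zP (inv_mem h.m0P))
    rwa [show m0 * (z * m0⁻¹ * z⁻¹) = w by rw [hw]; group] at h1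
  have hwO : w ∈ normalizer (O : Set G) := h.PO hwP
  have hzC : z ∈ normalizer (cmod (R i) S : Set G) := norm_cmod h.zi h.zS
  have hc : z * z * w ∈ cmod (R i) S := by
    have h1 := conj_mem_of_normalizer hzC h.dg'
    rwa [show z * (z * (m0 * z * m0⁻¹)) * z⁻¹ = z * z * w by rw [hw]; group] at h1
  have hcw : ∀ x ∈ P, (z * z * w) * x * (z * z * w)⁻¹ * x⁻¹ ∈ O := by
    refine h.lift _ (mul_mem (mul_mem h.zP h.zP) (le_normalizer hwP)) (mul_mem (mul_mem h.zO h.zO) hwO)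
      fun u hu => ?_
    have h2 := mul_mem hc (conj_mem_of_normalizer (h.cmod_norm hu) (inv_mem hc))
    rwa [show z * z * w * (u * (z * z * w)⁻¹ * u⁻¹) = z * z * w * u * (z * z * w)⁻¹ * u⁻¹ by group] at h2
  have hcsq : (z * z) * w * (z * z)⁻¹ * w⁻¹ ∈ O := by
    have h4 := hcw w hwP
    rwa [show z * z * w * w * (z * z * w)⁻¹ * w⁻¹ = (z * z) * w * (z * z)⁻¹ * w⁻¹ by group] at h4
  have hcc : z * ζ * z⁻¹ * ζ⁻¹ ∈ O := by
    have h4 := comm_mod_of_sq h.zO h.zo hcsq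
    rwa [show z * w * z⁻¹ * w⁻¹ = z * ζ * z⁻¹ * ζ⁻¹ by rw [hw, hζ]; group] at h4
  obtain ⟨x', h1, h2, h3⟩ := Lie.Nodes.Apt.exists_tau h.two h.zO hζO h.zo (odd_conj h.zo) hcc
  set κ := ζ⁻¹ * x' with hκ
  have hx' : x' = ζ * κ := by rw [hκ]; group
  have hκP : κ ∈ P := h.OP h1
  have hcm : z * x' ∈ cmod (R i) S := by
    have h4 := mul_mem h.dg' (h.OK h1)
    rwa [show z * (m0 * z * m0⁻¹) * κ = z * x' by rw [hx', hζ]; group] at h4
  have hnP : z * x' ∈ normalizer (P : Set G) := by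
    rw [hx']
    exact mul_mem h.zP (mul_mem hζP (le_normalizer hκP))
  have hnO : z * x' ∈ normalizer (O : Set G) := by
    rw [hx']
    exact mul_mem h.zO (mul_mem hζO (le_normalizer h1))
  refine ⟨z * x', Lie.Nodes.Apt.odd_mul h2.symm h.zo h3, by rw [mul_assoc, h2], fun r hr => ?_, hcm, hnP, hnO,
    ?_, ?_, fun s hs => ?_⟩
  · -- on `R i`
    have e1 : z * x' * r * (z * x')⁻¹ = z * (m0 * (z * (m0⁻¹ * (κ * r * κ⁻¹) * m0⁻¹⁻¹) * z⁻¹) * m0⁻¹) * z⁻¹ := by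
      rw [hx', hζ]; group
    rw [e1, h.cenR hκP hr, h.cenR (inv_mem h.m0P) hr, h.cenR h.m0P (conj_mem_of_normalizer h.zi hr)]
    group
  · rw [hx']
    exact mul_mem (h.XT h.zX) (mul_mem hζT (h.PT hκP))
  · refine h.lift _ hnP hnO fun u hu => ?_
    have h2 := mul_mem hcm (conj_mem_of_normalizer (h.cmod_norm hu) (inv_mem hcm))
    rwa [show z * x' * (u * (z * x')⁻¹ * u⁻¹) = z * x' * u * (z * x')⁻¹ * u⁻¹ by group] at h2
  · -- on `T / S`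
    have t1 : κ * s * κ⁻¹ * s⁻¹ ∈ S := h.triv κ hκP s hs
    have hs1 : κ * s * κ⁻¹ ∈ T := conj_mem_of_normalizer (h.PT hκP) hs
    have t2 : m0⁻¹ * (κ * s * κ⁻¹) * m0⁻¹⁻¹ * (κ * s * κ⁻¹)⁻¹ ∈ S := h.triv _ (inv_mem h.m0P) _ hs1
    set s2 := m0⁻¹ * (κ * s * κ⁻¹) * m0⁻¹⁻¹ with hs2
    have hs2T : s2 ∈ T := conj_mem_of_normalizer (h.PT (inv_mem h.m0P)) hs1
    have hs3T : z * s2 * z⁻¹ ∈ T := conj_mem_of_normalizer (h.XT h.zX) hs2T
    have t3 : m0 * (z * s2 * z⁻¹) * m0⁻¹ * (z * s2 * z⁻¹)⁻¹ ∈ S := h.triv _ h.m0P _ hs3T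
    have t4 : s2 * s⁻¹ ∈ S := by
      have := mul_mem t2 t1
      rwa [show s2 * (κ * s * κ⁻¹)⁻¹ * (κ * s * κ⁻¹ * s⁻¹) = s2 * s⁻¹ by group] at this
    have e : z * x' * s * (z * x')⁻¹ * (z * z * s * (z * z)⁻¹)⁻¹ =
        (z * (m0 * (z * s2 * z⁻¹) * m0⁻¹ * (z * s2 * z⁻¹)⁻¹) * z⁻¹) * (z * (z * (s2 * s⁻¹) * z⁻¹) * z⁻¹) := by
      rw [hx', hζ, hs2]; group
    rw [e]
    exact mul_mem (conj_mem_of_normalizer h.zS t3)
      (conj_mem_of_normalizer h.zS (conj_mem_of_normalizer h.zS t4))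

end AptH

end Cfsg.Agent.Omega.HOneQ
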