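import Cfsg.Agent.Omega.HOneQ.AptPt

/-!
# Residues `(0, x)`, types `(sigma)` and `(beta)`, over a bare `BT V R`: the apartment

* `AptH.trD`, `AptH.fixD` : `D` is transitive on the points `≠ R i` of `V'`, `C_{V'}(D) = R i`;
* `AptH.exists_pt` : the opposite point;
* `AptH.exists_apt` : `AptData V R i j l ρ m T`;
* `AptH.exists_swap` : the closed apartment.
-/

set_option autoImplicit false
set_option linter.unusedSectionVars false

namespace Cfsg.Agent.Omega.HOneQ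

open Subgroup Cfsg.Agent.Omega.BTwo
open Cfsg.Agent.Omega.Lie.Nodes (cmod AptData derived_cen exists_comm_of_fpf conj_conj_of_comm)

universe u w

variable {G : Type u} [Group G] {ι : Type w} {V : Subgroup G} {R : ι → Subgroup G} {i j : ι}
  {P O S T V' : Subgroup G} {z ρ m0 : G}

namespace AptH

variable (b : BT V R) (h : AptH V R i j P O S T V' z ρ m0)
include b h

/-- `D` is transitive on the points `≠ R i` of `V'` -/
theorem trD {m : G} (hm : m ∈ normalizer (R i : Set G)) (hmV : cj m V = V') {l l' : ι} (hl : l ≠ i) (hl' : l' ≠ i) :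
    ∃ d ∈ DD V R, cj d (cj m (R l)) = cj m (R l') := by
  obtain ⟨w, hw, e⟩ := b.trans i hl hl'
  have hw' : m * w * m⁻¹ ∈ WW V (R i) := conj_mem_of_normalizer (normalizer_le_WW V (R i) hm) hw
  obtain ⟨d, hd, e1⟩ := h.dd _ hw'
  refine ⟨d, hd, ?_⟩
  have h1 : cj (m * w * m⁻¹) (cj m (R l)) = cj m (R l') := by
    rw [← cj_mul, inv_mul_cancel_right, cj_mul, e]
  rw [← h1]
  have hle : cj m (R l) ≤ V' := by
    rw [← hmV]
    exact cj_mono (b.R_le l)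
  ext x
  constructor
  · rintro ⟨u, hu, rfl⟩
    exact ⟨u, hu, (e1 u (hle hu)).symm⟩
  · rintro ⟨u, hu, rfl⟩
    exact ⟨u, hu, e1 u (hle hu)⟩

/-- `C_{V'}(D) = R i` -/
theorem fixD {x : G} (hx : x ∈ V') (hc : ∀ d ∈ DD V R, d * x = x * d) : x ∈ R i := by
  refine h.cen_V' b hx fun w hw => ?_
  obtain ⟨d, hd, e⟩ := h.dd w hw
  have h1 := e x hx
  rw [hc d hd, mul_inv_cancel_right] at h1
  exact (mul_inv_eq_iff_eq_mul.1 h1.symm)

/-- **the opposite point, fixed by `τ₁`** -/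
theorem exists_pt [Finite G] {x : G} (D : TauH V R i P O S T z x) {m : G} (hm : m ∈ normalizer (R i : Set G))
    (hmV : cj m V = V') : ∃ l, l ≠ i ∧ cj x (cj (ρ * m) (R l)) = cj (ρ * m) (R l) := by
  have hmi : cj m (R i) = R i := cj_eq_self_iff.2 hm
  have hρmi : cj (ρ * m) (R i) = R j := by rw [cj_mul, hmi, h.ρi]
  -- `τ₁` normalises `V₂'`
  have h1 : (ρ * m)⁻¹ * x * (ρ * m) ∈ normalizer (V : Set G) := by
    have h2 := cj_eq_self_iff.2 (D.norm_V' b h)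
    rw [← hmV] at h2
    rw [← cj_eq_self_iff]
    have e : (ρ * m)⁻¹ * x * (ρ * m) = m⁻¹ * (ρ⁻¹ * x * ρ * m) := by group
    rw [e, cj_mul, cj_mul, h2, cj_inv_cj]
  obtain ⟨l1, hl1⟩ := b.perm _ h1 j
  have hfixi : cj ((ρ * m)⁻¹ * x * (ρ * m)) (R i) = R i := by
    rw [cj_mul, cj_mul, hρmi, (D.Rj b h).1, ← hρmi, cj_inv_cj]
  have hl1i : l1 ≠ i := by
    rintro rfl
    exact h.ne.symm (b.R_index (cj_injective (hl1.trans hfixi.symm)))
  have hx0 : cj x (cj (ρ * m) (R j)) = cj (ρ * m) (R l1) := by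
    rw [← hl1, ← cj_mul, ← cj_mul]
    congr 1
    group
  -- `D`
  obtain ⟨d, hd, e1⟩ := h.trD b hm hmV h.ne.symm hl1i
  have hρD : ρ ∈ normalizer (DD V R : Set G) := b.NV_le_ND (b.X_le_NV h.ρX)
  set d1 := ρ * d * ρ⁻¹ with hd1
  have hd1D : d1 ∈ DD V R := conj_mem_of_normalizer hρD hd
  have e2 : cj d1 (cj (ρ * m) (R j)) = cj (ρ * m) (R l1) := by
    rw [hd1, cj_mul, cj_mul, cj_mul, cj_inv_cj, e1, ← cj_mul]
  have hxD : x ∈ normalizer (DD V R : Set G) := b.NV_le_ND (D.NV b h)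
  set g := d1⁻¹ * x with hg
  have hzfix : cj g (cj (ρ * m) (R j)) = cj (ρ * m) (R j) := by
    rw [hg, cj_mul, hx0, ← e2, cj_inv_cj]
  have hzD : x⁻¹ * g ∈ DD V R := by
    have e : x⁻¹ * g = x⁻¹ * d1⁻¹ * x := by rw [hg]; group
    rw [e]
    exact conj_inv_mem_of_normalizer hxD (inv_mem hd1D)
  have hD2 : IsPGroup 2 (DD V R) := IsPGroup.to_le ((O2_isPGroup _).to_le (b.W_le_Q i)) (D_le_W V R i)
  obtain ⟨K, hK1, hK2⟩ := Lie.Nodes.Apt.exists_odd_pow hxD D.odd hzD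
  obtain ⟨d2, hd2, e3⟩ := Lie.Nodes.Apt.conj_of_coset hD2 hxD D.odd hK1 hK2
  have hzK : cj (g ^ K) (cj (ρ * m) (R j)) = cj (ρ * m) (R j) :=
    cj_eq_self_iff.2 (pow_mem (cj_eq_self_iff.1 hzfix) K)
  have hx1 : cj x (cj d2 (cj (ρ * m) (R j))) = cj d2 (cj (ρ * m) (R j)) := by
    rw [← e3, ← cj_mul, show d2 * g ^ K * d2⁻¹ * d2 = d2 * g ^ K by group, cj_mul, hzK]
  -- `d2 (ρ m) = (ρ m) d3`
  set d3 := (ρ * m)⁻¹ * d2 * (ρ * m) with hd3
  have hd3W : d3 ∈ WW V (R i) := by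
    have e : d3 = m⁻¹ * (ρ⁻¹ * d2 * ρ) * m := by rw [hd3]; group
    rw [e]
    exact conj_inv_mem_of_normalizer (normalizer_le_WW V (R i) hm)
      (D_le_W V R i (conj_inv_mem_of_normalizer hρD hd2))
  obtain ⟨l, hl⟩ := b.perm _ (b.W_le_NV i hd3W) j
  have hli : l ≠ i := by
    rintro rfl
    have h5 : cj d3 (R l) = R l := cj_eq_self_iff.2 (b.W_le_N l hd3W)
    exact h.ne.symm (b.R_index (cj_injective (hl.trans h5.symm)))
  refine ⟨l, hli, ?_⟩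
  have e4 : cj (ρ * m) (R l) = cj d2 (cj (ρ * m) (R j)) := by
    rw [← hl, ← cj_mul, ← cj_mul]
    congr 1
    rw [hd3]; group
  rw [e4, hx1]

/-- **existence of the apartment data** -/
theorem exists_apt [Finite G] : ∃ (m : G) (l : ι), AptData V R i j l ρ m T ∧ m ∈ P ∧ cj m V = V' ∧ cj m V' = V ∧
    m0⁻¹ * m ∈ O := by
  obtain ⟨x, D⟩ := h.exists_tau
  -- `m`
  obtain ⟨m, hmC, hmK⟩ := Lie.Nodes.Apt.exists_m (K := O) (P := P) (τ := x) (m0 := m0) h.two h.PO h.OP D.odd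
    D.nO D.hP h.perf h.m0P
  set C := Lie.Nodes.Apt.CP P x with hC
  have hCP : C ≤ P := fun c hc => (Lie.Nodes.Apt.mem_CP.1 hc).1
  have hmP : m ∈ P := by
    have h1 : ⁅C, C⁆ ≤ P := by
      rw [commutator_le]
      intro u hu u' hu'
      rw [commutatorElement_def]
      exact mul_mem (mul_mem (mul_mem (hCP hu) (hCP hu')) (inv_mem (hCP hu))) (inv_mem (hCP hu'))
    exact h1 hmC
  have hmx : m * x = x * m := by
    have h1 : ⁅C, C⁆ ≤ C := by
      rw [commutator_le]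
      intro u hu u' hu'
      rw [commutatorElement_def]
      exact mul_mem (mul_mem (mul_mem hu hu') (inv_mem hu)) (inv_mem hu')
    exact (Lie.Nodes.Apt.mem_CP.1 (h1 hmC)).2
  have hmN : m ∈ normalizer (R i : Set G) := h.PRN hmP
  have hmi : cj m (R i) = R i := cj_eq_self_iff.2 hmN
  -- `m` acts on the lines as `m₀`
  have hκ : ∀ L : Subgroup G, R i ≤ L → L ≤ S → cj m L = cj m0 L := by
    intro L hRL hLS
    have h1 : cj (m0⁻¹ * m) L = L := cj_eq_self_iff.2 (norm_of_cmod (h.OK hmK) hRL hLS)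
    have e : m = m0 * (m0⁻¹ * m) := by group
    rw [e, cj_mul, h1]
  have hmV : cj m V = V' := by rw [hκ V (b.R_le i) h.VS, h.m0V]
  have hmV' : cj m V' = V := by rw [hκ _ (h.RV' b) h.VS', h.m0V']
  -- the opposite point
  obtain ⟨l, hl, hfix⟩ := h.exists_pt b D hmN hmV
  have hQl : cj (ρ * m) (R l) ≤ cj ρ V' := by
    rw [cj_mul, ← hmV]
    exact cj_mono (cj_mono (b.R_le l))
  have hQT : cj (ρ * m) (R l) ≤ T := by
    refine hQl.trans ?_
    rw [← cj_eq_self_iff.2 (h.XT h.ρX)]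
    exact cj_mono (h.VS'.trans h.ST)
  have hfpf : ∀ u ∈ cj (ρ * m) (R l), x * u * x⁻¹ = u → u = 1 := by
    intro u hu he
    have h0 := mem_cj.1 (hQl hu)
    have h1 := D.fix_V' b h h0 (by
      calc ρ⁻¹ * x * ρ * (ρ⁻¹ * u * ρ) * (ρ⁻¹ * x * ρ)⁻¹ = ρ⁻¹ * (x * u * x⁻¹) * ρ := by group
        _ = _ := by rw [he])
    have h2 : u ∈ cj (ρ * m) (R i) := by
      rw [cj_mul, hmi, mem_cj]
      exact h1
    have h3 : u ∈ cj (ρ * m) (R l) ⊓ cj (ρ * m) (R i) := mem_inf.2 ⟨hu, h2⟩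
    rw [← cj_inf, b.R_inf l i hl, cj_bot] at h3
    exact mem_bot.1 h3
  have hder : ⁅C, C⁆ ≤ centralizer ((cj (ρ * m) (R l) : Subgroup G) : Set G) := by
    refine derived_cen (A := R i) (fun u hu u' hu' => b.V_comm u (b.R_le i hu) u' (b.R_le i hu'))
      (hCP.trans h.PR) fun c hc u hu => ?_
    obtain ⟨hcP, hcx⟩ := Lie.Nodes.Apt.mem_CP.1 hc
    obtain ⟨u', hu', e⟩ := exists_comm_of_fpf (cj_eq_self_iff.1 hfix) hfpf hu
    set s' := c * u' * c⁻¹ * u'⁻¹ with hs'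
    have hs'S : s' ∈ S := h.triv c hcP _ (hQT hu')
    have hcx' : c * x * c⁻¹ = x := by rw [hcx, mul_inv_cancel_right]
    have h1 : c * u * c⁻¹ = x * s' * x⁻¹ * u * s'⁻¹ := by
      calc c * u * c⁻¹ = (c * x * c⁻¹) * (c * u' * c⁻¹) * (c * x * c⁻¹)⁻¹ * (c * u' * c⁻¹)⁻¹ := by
            rw [← e]; group
        _ = x * (s' * u') * x⁻¹ * (s' * u')⁻¹ := by rw [hcx', hs']; group
        _ = x * s' * x⁻¹ * (x * u' * x⁻¹ * u'⁻¹) * s'⁻¹ := by group
        _ = _ := by rw [e]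
    have hs'T : s' ∈ T := h.ST hs'S
    have h2 : u * s'⁻¹ = s'⁻¹ * u := h.com u (hQT hu) _ (inv_mem hs'T)
    have h3 : c * u * c⁻¹ * u⁻¹ = x * s' * x⁻¹ * s'⁻¹ := by
      rw [h1, mul_assoc (x * s' * x⁻¹), h2]; group
    rw [h3]
    exact D.cm.2 s' hs'S
  have hm2 : cj m (cj (ρ * m) (R l)) = cj (ρ * m) (R l) :=
    cj_eq_self_iff.2 (centralizer_le_normalizer _ (hder hmC))
  -- `m²` fixes `R j`
  have hmmV : cj m (cj m V) = V := by rw [hmV, hmV']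
  have hmj : cj m (cj m (R j)) = R j := by
    have hVV : ∀ u, u ∈ V ↔ m⁻¹ * (m⁻¹ * u * m) * m ∈ V := by
      intro u
      conv_lhs => rw [← hmmV]
      rw [mem_cj, mem_cj]
    ext u
    rw [mem_cj, mem_cj]
    have h4 : x * (m⁻¹ * (m⁻¹ * u * m) * m) * x⁻¹ = m⁻¹ * (m⁻¹ * (x * u * x⁻¹) * m) * m := by
      rw [conj_conj_of_comm hmx, conj_conj_of_comm hmx]
    constructor
    · intro hu
      have h1 := b.R_le j hu
      have h2 := (D.cenV b h h1).2 hu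
      have h3 : u ∈ V := (hVV u).2 h1
      rw [← D.cenV b h h3]
      rw [h4] at h2
      exact mul_left_cancel (mul_right_cancel (mul_left_cancel (mul_right_cancel h2)))
    · intro hu
      have h3 := b.R_le j hu
      have h1 := (hVV u).1 h3
      rw [← D.cenV b h h1]
      rw [h4, (D.cenV b h h3).2 hu]
  refine ⟨m, l, ⟨h.ne, h.ρX, h.ρi, h.ρj, hmi, hmmV, hmj, hl, hm2, h.com, h.VS.trans h.ST, ?_, hQT, ?_, ?_⟩,
    hmP, hmV, hmV', hmK⟩
  · rw [hmV]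
    exact h.VS'.trans h.ST
  · exact fun l' hl' => h.trD b hmN hmV h.ne.symm hl'
  · intro u hu hc
    rw [hmV] at hu
    exact h.fixD b hu hc

/-- **The closed apartment.** -/
theorem exists_swap [Finite G] : ∃ n0 m : G, n0 ∈ XX V R ∧ cj n0 (R i) = R j ∧ m ∈ P ∧ cj m V = V' ∧ cj m V' = V ∧
    (n0 * m * n0 * m)⁻¹ * (m * n0 * m * n0) ∈ XX V R ⊓ normalizer (R i : Set G) ∧
    ∀ l, l ≠ i → ∃ d ∈ DD V R, cj d (cj m (R j)) = cj m (R l) := by
  obtain ⟨m, l, A, hmP, hmV, hmV', -⟩ := h.exists_apt b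
  obtain ⟨n0, hn0X, hn0, hsw1, hsw2, -⟩ := A.exists_n b
  exact ⟨n0, m, hn0X, hn0, hmP, hmV, hmV', mem_inf.2 ⟨hsw1, cj_eq_self_iff.1 hsw2⟩, A.tr⟩

end AptH

end Cfsg.Agent.Omega.HOneQ
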