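import Cfsg.Agent.Omega.HOneQ.AptAbs
import Cfsg.Agent.Omega.BTwo.SplitTen

/-!
# Residues `(0, x)`, types `(sigma)` and `(beta)`, over a bare `BT V R`: `τ₁` on the line `V₂' = (V')^ρ`

* `TauH.Rj`, `TauH.cenV` : `C_V(τ₁) = R j`;
* `AptH.tau_norm` : `ρ⁻¹ τ₁ ρ` normalises `V'`, its fixed points on `V'` are in `R i` (`AptH.tau_fix`);
* `AptH.trD`, `AptH.fixD` : `D` is transitive on the points `≠ R i` of `V'`;
* `AptH.exists_pt` : the opposite point.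
-/

set_option autoImplicit false
set_option linter.unusedSectionVars false

namespace Cfsg.Agent.Omega.HOneQ

open Subgroup Cfsg.Agent.Omega.BTwo
open Cfsg.Agent.Omega.Lie.Nodes (cmod mem_cmod norm_cmod comm_mod_of_sq odd_conj exists_comm_of_fpf)

universe u w

variable {G : Type u} [Group G] {ι : Type w} {V : Subgroup G} {R : ι → Subgroup G} {i j : ι}
  {P O S T V' : Subgroup G} {z ρ m0 : G}

/-- `[w^z, l] = [w, l]` for `w ∈ W_i` -/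
def Fx (V : Subgroup G) (R : ι → Subgroup G) (i : ι) (z l : G) : Prop :=
  ∀ w ∈ WW V (R i), z⁻¹ * w * z * l * (z⁻¹ * w * z)⁻¹ * l⁻¹ = w * l * w⁻¹ * l⁻¹

theorem Fx.conj {z l g : G} (h : Fx V R i z l) (hg : g ∈ normalizer (R i : Set G)) (hgz : g * z = z * g) :
    Fx V R i z (g * l * g⁻¹) := by
  intro w hw
  have hw' : g⁻¹ * w * g ∈ WW V (R i) := conj_inv_mem_of_normalizer (normalizer_le_WW V (R i) hg) hw
  have h1 := h _ hw'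
  have e1 : g⁻¹ * (z⁻¹ * w * z) * g = z⁻¹ * (g⁻¹ * w * g) * z := by
    calc g⁻¹ * (z⁻¹ * w * z) * g = (z * g)⁻¹ * w * (z * g) := by group
      _ = (g * z)⁻¹ * w * (g * z) := by rw [hgz]
      _ = _ := by group
  have e2 : z⁻¹ * w * z * (g * l * g⁻¹) * (z⁻¹ * w * z)⁻¹ * (g * l * g⁻¹)⁻¹ =
      g * ((g⁻¹ * (z⁻¹ * w * z) * g) * l * (g⁻¹ * (z⁻¹ * w * z) * g)⁻¹ * l⁻¹) * g⁻¹ := by group
  rw [e2, e1, h1]
  group

theorem Fx.left (b : BT V R) {z v y : G} (hz : z ∈ normalizer (R i : Set G)) (hv : v ∈ V) (hy : y ∈ WW V (R i))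
    (h : Fx V R i z (v * y)) (h' : Fx V R i z y) : Fx V R i z v := by
  intro w hw
  have key : ∀ w ∈ WW V (R i), w * (v * y) * w⁻¹ * (v * y)⁻¹ = (w * v * w⁻¹ * v⁻¹) * (w * y * w⁻¹ * y⁻¹) := by
    intro w hw
    have h1 : w * y * w⁻¹ * y⁻¹ ∈ R i := b.WW_comm i hw hy
    have h2 := b.V_comm v hv _ (b.R_le i h1)
    calc w * (v * y) * w⁻¹ * (v * y)⁻¹ = (w * v * w⁻¹) * (w * y * w⁻¹ * y⁻¹) * v⁻¹ := by group
      _ = (w * v * w⁻¹ * v⁻¹) * (v * (w * y * w⁻¹ * y⁻¹)) * v⁻¹ := by group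
      _ = (w * v * w⁻¹ * v⁻¹) * ((w * y * w⁻¹ * y⁻¹) * v) * v⁻¹ := by rw [h2]
      _ = _ := by group
  have hw' : z⁻¹ * w * z ∈ WW V (R i) := conj_inv_mem_of_normalizer (normalizer_le_WW V (R i) hz) hw
  have h1 := h w hw
  rw [key _ hw', key _ hw, h' w hw] at h1
  exact mul_right_cancel h1

namespace AptH

variable (b : BT V R) (h : AptH V R i j P O S T V' z ρ m0)
include b h

/-- `C_{V'}(W_i) = R_i` -/
theorem cen_V' {y : G} (hy : y ∈ V') (hc : ∀ w ∈ WW V (R i), w * y = y * w) : y ∈ R i := by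
  have h1 : m0⁻¹ * y * m0 ∈ V := by
    rw [← h.m0V] at hy; exact mem_cj.1 hy
  have h2 : m0⁻¹ * y * m0 ∈ R i := by
    refine b.cen_VW h1 ?_
    rw [mem_centralizer_iff]
    intro w hw
    have hw' : m0 * w * m0⁻¹ ∈ WW V (R i) :=
      conj_mem_of_normalizer (normalizer_le_WW V (R i) (h.PRN h.m0P)) hw
    have h3 := hc _ hw'
    calc w * (m0⁻¹ * y * m0) = m0⁻¹ * (m0 * w * m0⁻¹ * y) * m0 := by group
      _ = m0⁻¹ * (y * (m0 * w * m0⁻¹)) * m0 := by rw [h3]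
      _ = _ := by group
  have h3 := h.cenR h.m0P h2
  rw [show m0 * (m0⁻¹ * y * m0) * m0⁻¹ = y by group] at h3
  rw [h3]; exact h2

theorem comm_V' {w y : G} (hw : w ∈ WW V (R i)) (hy : y ∈ V') : w * y * w⁻¹ * y⁻¹ ∈ R i :=
  b.WW_comm i hw (h.V'W hy)

theorem of_fix {w y : G} (hr : w * y * w⁻¹ * y⁻¹ ∈ R i)
    (e : z * (w * y * w⁻¹ * y⁻¹) * z⁻¹ = z⁻¹ * (w * y * w⁻¹ * y⁻¹) * z) : w * y = y * w := by
  have _ := b
  have h1 := h.zR _ hr (by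
    calc z * z * (w * y * w⁻¹ * y⁻¹) * (z * z)⁻¹ = z * (z * (w * y * w⁻¹ * y⁻¹) * z⁻¹) * z⁻¹ := by group
      _ = z * (z⁻¹ * (w * y * w⁻¹ * y⁻¹) * z) * z⁻¹ := by rw [e]
      _ = _ := by group)
  rwa [mul_inv_eq_one, mul_inv_eq_iff_eq_mul] at h1

theorem of_fix' {w y : G} (hr : w * y * w⁻¹ * y⁻¹ ∈ R i)
    (e : z * (w * y * w⁻¹ * y⁻¹) * z⁻¹ = w * y * w⁻¹ * y⁻¹) : w * y = y * w := by
  refine h.of_fix b hr ?_
  have h2 : z⁻¹ * (w * y * w⁻¹ * y⁻¹) * z = w * y * w⁻¹ * y⁻¹ := by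
    calc z⁻¹ * (w * y * w⁻¹ * y⁻¹) * z = z⁻¹ * (z * (w * y * w⁻¹ * y⁻¹) * z⁻¹) * z := by rw [e]
      _ = _ := by group
  rw [e, h2]

/-- `z` has no fixed points on `V'` -/
theorem fpf_V' {y : G} (hy : y ∈ V') (e : z * y * z⁻¹ = y) : y = 1 := by
  have h1 : y ∈ R i := by
    refine h.cen_V' b hy fun w hw => ?_
    have h2 := h.lin w hw y hy
    rw [e] at h2
    exact h.of_fix' b (h.comm_V' b hw hy) h2.symm
  refine h.zR y h1 ?_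
  calc z * z * y * (z * z)⁻¹ = z * (z * y * z⁻¹) * z⁻¹ := by group
    _ = y := by rw [e, e]

theorem exists_comm [Finite G] {y : G} (hy : y ∈ V') : ∃ y' ∈ V', z * y' * z⁻¹ * y'⁻¹ = y := by
  exact exists_comm_of_fpf h.zV' (fun u hu e => h.fpf_V' b hu e) hy

theorem Fx_V' {y : G} (hy : y ∈ V') : Fx V R i z y := by
  have _ := b
  intro w hw
  have h1 := h.lin w hw y hy
  have e : w * (z * y * z⁻¹) * w⁻¹ * (z * y * z⁻¹)⁻¹ =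
      z * (z⁻¹ * w * z * y * (z⁻¹ * w * z)⁻¹ * y⁻¹) * z⁻¹ := by group
  rw [e] at h1
  exact mul_left_cancel (mul_right_cancel h1)

theorem mem_R_of_Fx {v : G} (hv : v ∈ V) (hf : Fx V R i z v) : v ∈ R i := by
  refine b.cen_VW hv ?_
  rw [mem_centralizer_iff]
  intro w hw
  refine h.of_fix b (b.WW_comm i hw (V_le_WW V (R i) hv)) ?_
  rw [← h.linV w hw v hv, ← hf w hw]
  group

end AptH

namespace TauH

variable {x : G} (D : TauH V R i P O S T z x) (b : BT V R) (h : AptH V R i j P O S T V' z ρ m0)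
include D b h

theorem NV [Finite G] : x ∈ normalizer (V : Set G) := norm_of_cmod D.cm (b.R_le i) h.VS

/-- `τ₁` centralises `R j` -/
theorem Rj [Finite G] : cj x (R j) = R j ∧ ∀ r ∈ R j, x * r * x⁻¹ = r := by
  obtain ⟨l, hl⟩ := b.perm x (D.NV b h) j
  have hli : l ≠ i := by
    rintro rfl
    have h1 : cj x (R j) = cj x (R l) := by rw [hl, cj_eq_self_iff.2 D.cm.1]
    exact h.ne.symm (b.R_index (cj_injective h1))
  have hzj : cj z (R j) = R j := cj_eq_self_iff.2 h.zj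
  have hlj : l = j := by
    refine h.tf l hli ?_
    rw [← hl, ← cj_mul, ← D.comm, cj_mul, hzj]
  rw [hlj] at hl
  refine ⟨hl, fun r hr => ?_⟩
  have h1 : x * r * x⁻¹ * r⁻¹ ∈ R j := mul_mem (hl.le (conj_mem_cj hr)) (inv_mem hr)
  have h2 : x * r * x⁻¹ * r⁻¹ ∈ R i := D.cm.2 r (h.VS (b.R_le j hr))
  exact mul_inv_eq_one.1 (b.eq_one h.ne h2 h1)

/-- the fixed points of `τ₁` on `V` -/
theorem cenV [Finite G] {u : G} (hu : u ∈ V) : x * u * x⁻¹ = u ↔ u ∈ R j := by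
  refine ⟨fun e => ?_, fun hu => (D.Rj b h).2 u hu⟩
  obtain ⟨a, ha, c, hc, rfl⟩ := b.exists_mul h.ne hu
  have h1 : x * (a * c) * x⁻¹ = (x * a * x⁻¹) * (x * c * x⁻¹) := by group
  rw [h1, (D.Rj b h).2 c hc] at e
  have h2 := mul_right_cancel e
  rw [D.Ri a ha] at h2
  rw [h.zR a ha h2, one_mul]
  exact hc

/-- `ρ⁻¹ τ₁ ρ` centralises `R i` -/
theorem conj_cen [Finite G] : ρ⁻¹ * x * ρ ∈ centralizer (R i : Set G) := by
  rw [mem_centralizer_iff]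
  intro u hu
  have h1 : ρ * u * ρ⁻¹ ∈ R j := h.ρi.le (conj_mem_cj hu)
  have h2 := (D.Rj b h).2 _ h1
  have h3 : x * (ρ * u * ρ⁻¹) = ρ * u * ρ⁻¹ * x := mul_inv_eq_iff_eq_mul.1 h2
  calc u * (ρ⁻¹ * x * ρ) = ρ⁻¹ * (ρ * u * ρ⁻¹ * x) * ρ := by group
    _ = ρ⁻¹ * (x * (ρ * u * ρ⁻¹)) * ρ := by rw [h3]
    _ = _ := by group

theorem conj_N [Finite G] : ρ⁻¹ * x * ρ ∈ normalizer (R i : Set G) :=
  centralizer_le_normalizer _ (D.conj_cen b h)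

/-- `ρ⁻¹ τ₁ ρ` commutes with `z` -/
theorem conj_z : ρ⁻¹ * x * ρ * z = z * (ρ⁻¹ * x * ρ) := by
  have _ := b
  have e1 : z = ρ⁻¹ * z⁻¹ * ρ := by
    have e2 : ρ⁻¹ * z⁻¹ * ρ = (ρ⁻¹ * z * ρ)⁻¹ := by group
    rw [e2, h.ρz, inv_inv]
  have e3 : x * z⁻¹ = z⁻¹ * x := by
    have := D.comm
    calc x * z⁻¹ = z⁻¹ * (z * x) * z⁻¹ := by group
      _ = z⁻¹ * (x * z) * z⁻¹ := by rw [this]
      _ = z⁻¹ * x := by group
  calc ρ⁻¹ * x * ρ * z = ρ⁻¹ * x * ρ * (ρ⁻¹ * z⁻¹ * ρ) := by rw [← e1]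
    _ = ρ⁻¹ * (x * z⁻¹) * ρ := by group
    _ = ρ⁻¹ * (z⁻¹ * x) * ρ := by rw [e3]
    _ = (ρ⁻¹ * z⁻¹ * ρ) * (ρ⁻¹ * x * ρ) := by group
    _ = z * (ρ⁻¹ * x * ρ) := by rw [← e1]

/-- `τ₁` on `V₂'` is `z²` modulo `D` -/
theorem conj_line [Finite G] {w : G} (hw : w ∈ V') : ∃ d ∈ DD V R,
    ρ⁻¹ * x * ρ * w * (ρ⁻¹ * x * ρ)⁻¹ = d * (z⁻¹ * (z⁻¹ * w * z) * z) := by
  set u := ρ * w * ρ⁻¹ with hu
  have huT : u ∈ T := conj_mem_of_normalizer (h.XT h.ρX) (h.ST (h.VS' hw))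
  have huW : u ∈ WW V (R j) := by
    rw [← b.cj_WW h.ρi]
    exact conj_mem_cj (h.V'W hw)
  have hxj : x ∈ normalizer (WW V (R j) : Set G) := normalizer_le_WW V (R j) (cj_eq_self_iff.1 (D.Rj b h).1)
  have hzj : z * z ∈ normalizer (WW V (R j) : Set G) :=
    mul_mem (normalizer_le_WW V (R j) h.zj) (normalizer_le_WW V (R j) h.zj)
  have hs : x * u * x⁻¹ * (z * z * u * (z * z)⁻¹)⁻¹ ∈ DD V R :=
    h.SD (mem_inf.2 ⟨D.qm u huT,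
      mul_mem (conj_mem_of_normalizer hxj huW) (inv_mem (conj_mem_of_normalizer hzj huW))⟩)
  refine ⟨_, conj_inv_mem_of_normalizer (b.NV_le_ND (b.X_le_NV h.ρX)) hs, ?_⟩
  have e1 : z⁻¹ * (z⁻¹ * w * z) * z = ρ⁻¹ * (z * z * u * (z * z)⁻¹) * ρ := by
    have e2 : z⁻¹ * (z⁻¹ * w * z) * z = z⁻¹ * (z⁻¹ * w * z⁻¹⁻¹) * z⁻¹⁻¹ := by group
    rw [e2, ← h.ρz, hu]; group
  rw [e1, hu]; group

/-- **`ρ⁻¹ τ₁ ρ` normalises `V'`** -/
theorem norm_V' [Finite G] : ρ⁻¹ * x * ρ ∈ normalizer (V' : Set G) := by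
  apply mem_normalizer_of_conj
  intro w hw
  set t := ρ⁻¹ * x * ρ with ht
  have htN := D.conj_N b h
  have htz := D.conj_z b h
  rw [← ht] at htN htz
  -- `w = [z, w']`
  obtain ⟨w', hw', e⟩ := h.exists_comm b hw
  obtain ⟨d, hd, e1⟩ := D.conj_line b h hw'
  rw [← ht] at e1
  set y := z⁻¹ * (z⁻¹ * w' * z) * z with hy
  have hyV : y ∈ V' := conj_inv_mem_of_normalizer h.zV' (conj_inv_mem_of_normalizer h.zV' hw')
  -- `t w t⁻¹ = [z, d y] = [z, d] [z, y]^{d⁻¹}`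
  set y1 := z * y * z⁻¹ * y⁻¹ with hy1
  have hy1V : y1 ∈ V' := mul_mem (conj_mem_of_normalizer h.zV' hyV) (inv_mem hyV)
  have hzD : z * d * z⁻¹ * d⁻¹ ∈ V := b.XD h.zX hd
  have hdR : d * y1 * d⁻¹ * y1⁻¹ ∈ R i := h.comm_V' b (D_le_W V R i hd) hy1V
  have e2 : t * w * t⁻¹ = z * (t * w' * t⁻¹) * z⁻¹ * (t * w' * t⁻¹)⁻¹ := by
    have e3 : t * z * t⁻¹ = z := by rw [htz, mul_inv_cancel_right]
    calc t * w * t⁻¹ = (t * z * t⁻¹) * (t * w' * t⁻¹) * (t * z * t⁻¹)⁻¹ * (t * w' * t⁻¹)⁻¹ := by rw [← e]; group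
      _ = _ := by rw [e3]
  have e3 : t * w * t⁻¹ = (z * d * z⁻¹ * d⁻¹ * (d * y1 * d⁻¹ * y1⁻¹)) * y1 := by
    rw [e2, e1, hy1]; group
  set v := z * d * z⁻¹ * d⁻¹ * (d * y1 * d⁻¹ * y1⁻¹) with hv
  have hvV : v ∈ V := mul_mem hzD (b.R_le i hdR)
  -- `v ∈ R i`
  have f1 : Fx V R i z (t * w * t⁻¹) := (h.Fx_V' b hw).conj htN htz
  rw [e3] at f1
  have f2 := Fx.left b h.zi hvV (h.V'W hy1V) f1 (h.Fx_V' b hy1V)
  have hvR := h.mem_R_of_Fx b hvV f2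
  rw [e3]
  exact mul_mem (h.RV' b hvR) hy1V

/-- the fixed points of `ρ⁻¹ τ₁ ρ` on `V'` -/
theorem fix_V' [Finite G] {w : G} (hw : w ∈ V') (e : ρ⁻¹ * x * ρ * w * (ρ⁻¹ * x * ρ)⁻¹ = w) : w ∈ R i := by
  obtain ⟨d, hd, e1⟩ := D.conj_line b h hw
  set y := z⁻¹ * (z⁻¹ * w * z) * z with hy
  have hyV : y ∈ V' := conj_inv_mem_of_normalizer h.zV' (conj_inv_mem_of_normalizer h.zV' hw)
  rw [e] at e1
  have hdR : d ∈ R i := by
    refine h.VD (mem_inf.2 ⟨?_, hd⟩)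
    have : d = w * y⁻¹ := by rw [e1]; group
    rw [this]
    exact mul_mem hw (inv_mem hyV)
  refine h.cen_V' b hw fun w1 hw1 => ?_
  -- `[w1, w] = [w1, y]`
  have e2 : w1 * w * w1⁻¹ * w⁻¹ = w1 * y * w1⁻¹ * y⁻¹ := by
    have h1 : w1 * d * w1⁻¹ = d := by
      have h2 := b.QR i w1 (b.W_le_Q i hw1) d hdR
      rw [h2, mul_inv_cancel_right]
    have h3 := b.V_comm d (b.R_le i hdR) _ (b.R_le i (h.comm_V' b hw1 hyV))
    calc w1 * w * w1⁻¹ * w⁻¹ = (w1 * d * w1⁻¹) * (w1 * y * w1⁻¹ * y⁻¹) * d⁻¹ := by rw [e1]; group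
      _ = d * (w1 * y * w1⁻¹ * y⁻¹) * d⁻¹ := by rw [h1]
      _ = _ := by rw [h3]; group
  have hy1 : z⁻¹ * w * z ∈ V' := conj_inv_mem_of_normalizer h.zV' hw
  -- `z² [w1, y] z⁻² = [w1, w]`
  have h1 := h.lin w1 hw1 y hyV
  have h2 := h.lin w1 hw1 _ hy1
  rw [show z * y * z⁻¹ = z⁻¹ * w * z by rw [hy]; group] at h1
  rw [show z * (z⁻¹ * w * z) * z⁻¹ = w by group, h1] at h2
  have hr := h.comm_V' b hw1 hw
  have h3 := h.zR _ hr (by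
    rw [← e2] at h2
    conv_rhs => rw [h2]
    group)
  rwa [mul_inv_eq_one, mul_inv_eq_iff_eq_mul] at h3

end TauH

end Cfsg.Agent.Omega.HOneQ
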