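import Cfsg.Agent.Omega.HOneQ.AptEx
import Cfsg.Agent.Omega.Lie.Nodes.Res0

/-!
# Residues `(0, x)`, types `(sigma)` and `(beta)`, over a bare `BT V R`: the quadrangle

`QuadH V R i j B U Px V'`: the parabolic `Px` of the node, `V'` a line `≠ V` through `R i`, `U_j` transitive on the
lines `≠ V` of the panel, `V' ∩ D ≤ R i`.

* `QuadH.quad` : `Quad B P₀ Px (R i) V (W i)` (no triangles);
* `QuadH.quadN`, `QuadH.polygon` : with the closed apartment and the count.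
-/

set_option autoImplicit false
set_option linter.unusedSectionVars false

namespace Cfsg.Agent.Omega.HOneQ

open Subgroup Cfsg.Agent.Omega.BTwo Cfsg.Agent.ParSys
open Cfsg.Agent.Omega.Lie (Zero.Dat Zero.P0)
open Cfsg.Agent.Omega.Lie.Nodes (NodeX)
open scoped Pointwise

universe u w

variable {G : Type u} [Group G] {ι : Type w}

/-- the parabolic of a node of type `(sigma)`, `(beta)` -/
structure QuadH (V : Subgroup G) (R : ι → Subgroup G) (i j : ι) (B U Px V' : Subgroup G) : Prop where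
  ne : i ≠ j
  dat : Lie.Zero.Dat V R i B U
  X : NodeX V R i B U Px
  tr : ∀ x ∈ Px, x ∉ B → ∃ u ∈ UU V R j, cj x V = cj u V'
  VD : V' ⊓ DD V R ≤ R i

namespace QuadH

variable {V : Subgroup G} {R : ι → Subgroup G} {i j : ι} {B U Px V' : Subgroup G}
  (b : BT V R) (h : QuadH V R i j B U Px V')
include b h

/-- **there are no triangles** -/
theorem quad : Quad B (Lie.Zero.P0 V R B) Px (R i) V (WW V (R i)) where
  leA := le_sup_right
  leB := h.X.le
  inf := fun x hx => h.X.PV (mem_inf.2 ⟨(mem_inf.1 hx).2, Lie.Zero.P0_le b h.dat (mem_inf.1 hx).1⟩)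
  aV := fun x hx z hz => BTwo.conj_mem_of_normalizer (Lie.Zero.P0_le b h.dat hx) hz
  bR := fun x hx z hz => BTwo.conj_mem_of_normalizer (h.X.PR hx) hz
  bW := fun x hx z hz => BTwo.conj_mem_of_normalizer (normalizer_le_WW V (R i) (h.X.PR hx)) hz
  RV := b.R_le i
  VW := V_le_WW V (R i)
  ne := b.exists_ne i
  aR := by
    intro x hx hxB z hz hxz
    obtain ⟨l, hl, e1⟩ := (Lie.Zero.not_mem_B_iff b h.dat hx).1 hxB
    have h1 : x * z * x⁻¹ ∈ R l := by rw [← e1]; exact conj_mem_cj hz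
    have h2 := b.eq_one hl h1 hxz
    rwa [mul_inv_eq_one, mul_eq_left] at h2
  bV := by
    intro x hx hxB y hy hyB v hv w hw e
    have h1 : x * v * x⁻¹ ∈ WW V (R i) :=
      BTwo.conj_mem_of_normalizer (normalizer_le_WW V (R i) (h.X.PR hx)) (V_le_WW V (R i) hv)
    obtain ⟨l, hl, e2⟩ := (Lie.Zero.not_mem_B_iff b h.dat hy).1 hyB
    have h2 : x * v * x⁻¹ ∈ DD V R := by
      rw [b.D_eq' (Ne.symm hl)]
      refine mem_inf.2 ⟨h1, ?_⟩
      rw [e, ← b.cj_WW e2]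
      exact conj_mem_cj hw
    obtain ⟨u, hu, hxu⟩ := h.tr x hx hxB
    have h3 : u⁻¹ * (x * v * x⁻¹) * u ∈ V' := mem_cj.1 (hxu.le (conj_mem_cj hv))
    have h4 : u⁻¹ * (x * v * x⁻¹) * u ∈ DD V R :=
      BTwo.conj_inv_mem_of_normalizer (b.Y_le_ND (UU_le_YY j hu)) h2
    have h5 := h.VD (mem_inf.2 ⟨h3, h4⟩)
    have h6 := BTwo.conj_mem_of_normalizer (b.cen_le_N i (UU_le_cen j hu)) h5
    rwa [show u * (u⁻¹ * (x * v * x⁻¹) * u) * u⁻¹ = x * v * x⁻¹ by group] at h6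

theorem V'_ne : V' ≠ V := by
  intro e
  have h1 : V ≤ R i := fun x hx => h.VD (mem_inf.2 ⟨by rw [e]; exact hx, V_le_D V R hx⟩)
  obtain ⟨a, ha, ha1⟩ := b.exists_ne j
  exact ha1 (b.eq_one h.ne (h1 (b.R_le j ha)) ha)

/-- `U_j` is transitive on the chambers `≠ B` of the panel -/
theorem tb {m : G} (hm : m ∈ Px) (hmV : cj m V = V') {x : G} (hx : x ∈ Px) (hxB : x ∉ B) :
    ∃ u ∈ UU V R j, (u * m)⁻¹ * x ∈ B := by
  obtain ⟨u, hu, e⟩ := h.tr x hx hxB
  have hu'B : u ∈ B := Lie.Zero.Y_le_B b h.dat (UU_le_YY j hu)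
  refine ⟨u, hu, h.X.PV (mem_inf.2 ⟨mul_mem (inv_mem (mul_mem (h.X.le hu'B) hm)) hx, ?_⟩)⟩
  rw [← cj_eq_self_iff, cj_mul, e, ← hmV, ← cj_mul u m, cj_inv_cj]

/-- **The quadrangle of a node of type `(sigma)` or `(beta)`.** -/
theorem quadN {n0 m : G} (hn : n0 ∈ XX V R) (hn0 : cj n0 (R i) = R j) (hm : m ∈ Px) (hmV : cj m V = V')
    (eq : (n0 * m * n0 * m)⁻¹ * (m * n0 * m * n0) ∈ XX V R ⊓ normalizer (R i : Set G))
    (cnt : (PanS B (Lie.Zero.P0 V R B)).ncard * ((PanS B Px).ncard * (PanS B (Lie.Zero.P0 V R B)).ncard) ≤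
      (MulAut.conj (n0 * m * n0) • Px).relIndex (WW V (R i))) :
    QuadN B (Lie.Zero.P0 V R B) Px (R i) V (WW V (R i)) (WW V (R i)) n0 m m m n0 m n0 := by
  have hn0P : n0 ∈ Lie.Zero.P0 V R B := (le_sup_left : XX V R ≤ _) hn
  have hn0B : n0 ∉ B := (Lie.Zero.not_mem_B_iff b h.dat hn0P).2 ⟨j, h.ne.symm, hn0⟩
  have hmB : m ∉ B := fun hB => h.V'_ne b (by rw [← hmV, cj_eq_self_iff.2 (h.dat.BV hB)])
  exact
    { h.quad b with
      m'_mem := hm
      m'_not := hmB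
      m1 := ⟨hm, hmB⟩
      m2 := ⟨hn0P, hn0B⟩
      m3 := ⟨hm, hmB⟩
      m4 := ⟨hn0P, hn0B⟩
      eq := h.dat.XB eq
      n_mem := hn0P
      n_not := hn0B
      m_mem := hm
      m_not := hmB
      tb := fun x hx hxB => by
        obtain ⟨u, hu, hux⟩ := h.tb b hm hmV hx hxB
        exact ⟨u, Lie.Zero.Y_le_B b h.dat (UU_le_YY j hu), hux⟩
      O_le := h.dat.WU.trans h.dat.UB
      O_triv := fun o ho x hx => (h.dat.WU.trans h.dat.UB)
        (BTwo.conj_inv_mem_of_normalizer (normalizer_le_WW V (R i) (h.X.PR hx)) ho)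
      cnt := cnt }

theorem polygon [Finite G] {n0 m : G} (hn : n0 ∈ XX V R) (hn0 : cj n0 (R i) = R j) (hm : m ∈ Px) (hmV : cj m V = V')
    (eq : (n0 * m * n0 * m)⁻¹ * (m * n0 * m * n0) ∈ XX V R ⊓ normalizer (R i : Set G))
    (cnt : (PanS B (Lie.Zero.P0 V R B)).ncard * ((PanS B Px).ncard * (PanS B (Lie.Zero.P0 V R B)).ncard) ≤
      (MulAut.conj (n0 * m * n0) • Px).relIndex (WW V (R i))) {J : Type} {P : J → Subgroup G} {x : J}
    (hx : P x = Px) : Polygon B (Lie.End.PPo V R B P) none (some x) 4 := by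
  subst hx
  exact QuadN.polygon (P := Lie.End.PPo V R B P) (a := none) (b := some x) (h.quadN b hn hn0 hm hmV eq cnt)

end QuadH

end Cfsg.Agent.Omega.HOneQ
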