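import Cfsg.Agent.Omega.HOneQ.AptQuad
import Cfsg.Agent.Omega.HOneQ.ResP

/-!
# Residues `(0, x)`, types `(sigma)` and `(beta)`: `QuadH` from `Sc` and `QPx`
-/

set_option autoImplicit false
set_option linter.unusedSectionVars false

namespace Cfsg.Agent.Omega.HOneQ

open Subgroup Cfsg.Agent.Omega.BTwo
open Cfsg.Agent.Omega.Lie (TorD)
open Cfsg.Agent.Omega.Lie.Nodes (QPx)

universe u v w

variable {G : Type u} [Group G] {ι : Type w} {V : Subgroup G} {R : ι → Subgroup G} {i j : ι}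
  {P B U Px : Subgroup G} {F : Type v} [Field F] {vv : F → F → G} {t : F → G} {p' : G}

/-- `U_j` is transitive on the lines `≠ V` of the panel -/
theorem Nd.tr_Px [Finite G] (n : Nd V R i j P) (K : QPx V R i B U Px P) (hp' : p' ∈ P) (hne : cj p' V ≠ V) :
    ∀ x ∈ Px, x ∉ B → ∃ u ∈ UU V R j, cj x V = cj u (cj p' V) := by
  intro x hx hxB
  obtain ⟨z, hz, hzx⟩ := K.exists_mul hx
  have hzB : z ∉ B := fun h0 => hxB (by
    have := mul_mem h0 hzx
    rwa [mul_inv_cancel_left] at this)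
  have hxz : cj x V = cj z V := by
    have h1 := cj_eq_self_iff.2 (K.dat.BV hzx)
    calc cj x V = cj z (cj (z⁻¹ * x) V) := by rw [← cj_mul, mul_inv_cancel_left]
      _ = cj z V := by rw [h1]
  have hzV : cj z V ≠ V := fun h0 => hzB (K.X.PV (mem_inf.2 ⟨K.QP hz, cj_eq_self_iff.1 h0⟩))
  obtain ⟨u, hu, e⟩ := n.trans p' hp' hne z hz hzV
  exact ⟨u, hu, by rw [hxz, e]⟩

/-- `D ≤ D Z_i` -/
theorem D_le_DZ : DD V R ≤ Sc.DZ V R i := fun x hx => ⟨x, hx, 1, one_mem _, by rw [mul_one]⟩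

/-- **`QuadH` of a node of type `(sigma)`, `(beta)`** -/
theorem Sc.quadH [Finite G] (s : Sc V R i j vv t P p') (b : BTS V R) (τ : TorD V R i j vv t) (hF : ∃ a : F, a ≠ 0 ∧ a ≠ 1)
    (K : QPx V R i B U Px P) : QuadH V R i j B U Px (cj p' V) where
  ne := s.hij
  dat := K.dat
  X := K.X
  tr := s.toNd.tr_Px K s.mem s.ne
  VD := fun _ hx => s.cap b τ hF hx.1 (D_le_DZ hx.2)

end Cfsg.Agent.Omega.HOneQ
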