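import Mathlib

/-!
# II.0h1, SPLIT, `q ≥ 4` (bb #15121 (a)): LEMMA E0, abstract form

`H` acts on `M` (`= W₁ / Z(W₁)`), `A` the image of `U₂`, `t` an element of odd order (in the torus), flag
`e ≤ D ≤ P = e^⊥`, `f` the form. `K` is a perfect subgroup, normalised by `t`, commuting with `A`, generated by the
`K`-conjugates of a subgroup `S` which commutes with `t`.

`Dat.fix` : `K` centralises `M`. No weights: `q = 4` is included.
-/

set_option autoImplicit false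

namespace Cfsg.Agent.Omega.HOneQ.ECen

variable {H : Type*} [Group H] {M : Type*} [AddCommGroup M] [DistribMulAction H M] {B : Type*} [AddCommGroup B]

/-- the data of LEMMA E0 -/
structure Dat (A S K : Subgroup H) (t : H) (n : ℕ) (e D P : AddSubgroup M) (f : M →+ M →+ B) : Prop where
  two : ∀ m : M, m + m = 0
  symm : ∀ x y, f x y = f y x
  nd : ∀ x, (∀ y, f x y = 0) → x = 0
  eD : e ≤ D
  DP : D ≤ P
  neTop : ∃ m, m ∉ P
  /-- `P = e^⊥` -/
  perp : ∀ x, x ∈ P ↔ ∀ y ∈ e, f x y = 0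
  /-- `[m, A] + D = P` -/
  surj : ∀ m ∉ P, ∀ x ∈ P, ∃ a ∈ A, x - (a • m - m) ∈ D
  A2 : ∀ a ∈ A, ∀ m ∈ P, a • m - m ∈ D
  A3 : ∀ a ∈ A, ∀ m ∈ D, a • m - m ∈ e
  A4 : ∀ a ∈ A, ∀ m ∈ e, a • m = m
  cenA : ∀ m, (∀ a ∈ A, a • m = m) → m ∈ P
  ker0 : ∀ d ∈ D, (∀ a ∈ A, a • d = d) → d ∈ e
  fA : ∀ a ∈ A, ∀ x y, f (a • x) (a • y) = f x y
  /-- the element `t` of the torus -/
  odd : Odd n
  tn : t ^ n = 1
  te : ∀ y ∈ e, t • y ∈ e
  tfix : ∀ m, t • m = m → m ∈ D
  tfix0 : ∀ m ∈ e, t • m = m → m = 0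
  tD : ∀ d ∈ D, t • d - d ∈ e
  tf : ∀ x y, f x y = 0 → f (t • x) (t • y) = 0
  /-- `S` -/
  SK : S ≤ K
  St : ∀ s ∈ S, t * s = s * t
  Se : ∀ s ∈ S, ∀ y ∈ e, s • y = y
  SD : ∀ s ∈ S, ∀ d ∈ D, s • d ∈ D
  /-- `K` -/
  fK : ∀ k ∈ K, ∀ x y, f (k • x) (k • y) = f x y
  KA : ∀ k ∈ K, ∀ a ∈ A, k * a = a * k
  tK : ∀ k ∈ K, t * k * t⁻¹ ∈ K
  gen : ∀ L : Subgroup H, S ≤ L → L ≤ K → (∀ g ∈ K, ∀ l ∈ L, g * l * g⁻¹ ∈ L) → L = K
  perf : ⁅K, K⁆ = K

namespace Dat

variable {A S K : Subgroup H} {t : H} {n : ℕ} {e D P : AddSubgroup M} {f : M →+ M →+ B}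

/-- the projection onto `C_M(t)` -/
def pj (t : H) (n : ℕ) (x : M) : M := ∑ k ∈ Finset.range n, t ^ k • x

theorem pj_add (x y : M) : pj t n (x + y) = pj t n x + pj t n y := by
  unfold pj
  rw [← Finset.sum_add_distrib]
  exact Finset.sum_congr rfl fun k _ => smul_add _ _ _

theorem pj_neg (x : M) : pj t n (-x) = - pj t n x := by
  unfold pj
  rw [← Finset.sum_neg_distrib]
  exact Finset.sum_congr rfl fun k _ => smul_neg _ _

theorem pj_sub (x y : M) : pj t n (x - y) = pj t n x - pj t n y := by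
  rw [sub_eq_add_neg, pj_add, pj_neg, ← sub_eq_add_neg]

theorem pj_smul {s : H} (hs : t * s = s * t) (x : M) : pj t n (s • x) = s • pj t n x := by
  unfold pj
  rw [Finset.smul_sum]
  refine Finset.sum_congr rfl fun k _ => ?_
  have h1 : Commute t s := hs
  rw [smul_smul, smul_smul, (h1.pow_left k).eq]

theorem smul_pj (hn : t ^ n = 1) (x : M) : t • pj t n x = pj t n x := by
  unfold pj
  rw [Finset.smul_sum]
  have h1 := Finset.sum_range_succ (fun k => t ^ k • x) n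
  have h2 := Finset.sum_range_succ' (fun k => t ^ k • x) n
  rw [hn] at h1
  rw [pow_zero, h1] at h2
  have h3 := add_right_cancel h2
  rw [h3]
  refine Finset.sum_congr rfl fun k _ => ?_
  rw [smul_smul, ← pow_succ']

theorem pj_mem {L : AddSubgroup M} (hL : ∀ x ∈ L, t • x ∈ L) {x : M} (hx : x ∈ L) : pj t n x ∈ L := by
  unfold pj
  have h : ∀ k : ℕ, t ^ k • x ∈ L := by
    intro k
    induction k with
    | zero => rwa [pow_zero, one_smul]
    | succ k ih => rw [pow_succ', mul_smul]; exact hL _ ih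
  exact sum_mem fun k _ => h k

variable (d : Dat A S K t n e D P f)
include d

theorem nsmul_odd (x : M) : n • x = x := by
  obtain ⟨k, hk⟩ := d.odd
  rw [hk, add_nsmul, one_nsmul, mul_comm, mul_nsmul, two_nsmul, d.two, zero_add]

theorem pj_fix {x : M} (hx : t • x = x) : pj t n x = x := by
  unfold pj
  have h1 : ∀ k, t ^ k • x = x := by
    intro k
    induction k with
    | zero => rw [pow_zero, one_smul]
    | succ k ih => rw [pow_succ, mul_smul, hx, ih]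
  rw [Finset.sum_congr rfl fun k _ => h1 k, Finset.sum_const, Finset.card_range, d.nsmul_odd]

theorem pj_D {x : M} (hx : x ∈ D) : x - pj t n x ∈ e := by
  have h1 : ∀ k, t ^ k • x - x ∈ e := by
    intro k
    induction k with
    | zero => rw [pow_zero, one_smul, sub_self]; exact zero_mem _
    | succ k ih =>
      rw [pow_succ', mul_smul]
      have h2 := add_mem (d.te _ ih) (d.tD x hx)
      rwa [smul_sub, sub_add_sub_cancel] at h2
  have h2 : pj t n x - x ∈ e := by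
    have h3 : pj t n x - n • x = ∑ k ∈ Finset.range n, (t ^ k • x - x) := by
      unfold pj
      rw [Finset.sum_sub_distrib, Finset.sum_const, Finset.card_range]
    rw [d.nsmul_odd] at h3
    rw [h3]
    exact sum_mem fun k _ => h1 k
  rw [← neg_sub]
  exact neg_mem h2

/-- `[M, s] ≤ P` -/
theorem S_M {s : H} (hs : s ∈ S) (m : M) : s • m - m ∈ P := by
  rw [d.perp]
  intro y hy
  rw [map_sub, AddMonoidHom.sub_apply, sub_eq_zero]
  have h1 := d.fK s (d.SK hs) m y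
  rwa [d.Se s hs y hy] at h1

/-- `[P, s] ≤ D` -/
theorem S_P {s : H} (hs : s ∈ S) {x : M} (hx : x ∈ P) : s • x - x ∈ D := by
  obtain ⟨m, hm⟩ := d.neTop
  obtain ⟨a, ha, h⟩ := d.surj m hm x hx
  have h1 := d.A2 a ha _ (d.S_M hs m)
  have h2 := sub_mem (d.SD s hs _ h) h
  have h3 := d.KA s (d.SK hs) a ha
  have e1 : s • x - x = (s • (x - (a • m - m)) - (x - (a • m - m))) + (a • (s • m - m) - (s • m - m)) := by
    rw [smul_sub, smul_sub, smul_sub, smul_smul, smul_smul, h3]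
    abel
  rw [e1]
  exact add_mem h2 h1

/-- `[D, s] ≤ e` -/
theorem S_D {s : H} (hs : s ∈ S) {x : M} (hx : x ∈ D) : s • x - x ∈ e := by
  refine d.ker0 _ (d.S_P hs (d.DP hx)) fun a ha => ?_
  have h1 := d.Se s hs _ (d.A3 a ha x hx)
  have h3 := d.KA s (d.SK hs) a ha
  rw [smul_sub, smul_smul, ← h3, mul_smul]
  rw [smul_sub] at h1
  rw [sub_eq_sub_iff_add_eq_add] at h1 ⊢
  rw [h1]
  abel

/-- `s` centralises `C_M(t)` -/
theorem S_C {s : H} (hs : s ∈ S) {x : M} (hx : t • x = x) : s • x = x := by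
  have h1 := d.S_D hs (d.tfix x hx)
  refine sub_eq_zero.1 (d.tfix0 _ h1 ?_)
  rw [smul_sub, smul_smul, d.St s hs, mul_smul, hx]

theorem pj_S {s : H} (hs : s ∈ S) (m : M) : pj t n (s • m - m) = 0 := by
  rw [pj_sub, pj_smul (d.St s hs), d.S_C hs (smul_pj d.tn m), sub_self]

/-- `[P, s] ≤ e` -/
theorem S_P' {s : H} (hs : s ∈ S) {x : M} (hx : x ∈ P) : s • x - x ∈ e := by
  have h1 := d.pj_D (d.S_P hs hx)
  rwa [d.pj_S hs, sub_zero] at h1

/-- the span of the conjugates of `e` -/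
def X (K : Subgroup H) (e : AddSubgroup M) : AddSubgroup M :=
  AddSubgroup.closure {x | ∃ g ∈ K, ∃ y ∈ e, g • y = x}

omit d in
theorem mem_X {g : H} (hg : g ∈ K) {y : M} (hy : y ∈ e) : g • y ∈ X K e :=
  AddSubgroup.subset_closure ⟨g, hg, y, hy, rfl⟩

/-- `A` centralises `X` -/
theorem A_X {x : M} (hx : x ∈ X K e) : ∀ a ∈ A, a • x = x := by
  intro a ha
  induction hx using AddSubgroup.closure_induction with
  | mem x hx =>
    obtain ⟨g, hg, y, hy, rfl⟩ := hx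
    rw [smul_smul, ← d.KA g hg a ha, mul_smul, d.A4 a ha y hy]
  | zero => exact smul_zero _
  | add x y _ _ hx hy => rw [smul_add, hx, hy]
  | neg x _ hx => rw [smul_neg, hx]

/-- `X^⊥` -/
def Xp (K : Subgroup H) (e : AddSubgroup M) (f : M →+ M →+ B) : AddSubgroup M where
  carrier := {m | ∀ g ∈ K, ∀ y ∈ e, f m (g • y) = 0}
  zero_mem' := fun g _ y _ => by rw [map_zero, AddMonoidHom.zero_apply]
  add_mem' := by
    intro x z hx hz g hg y hy
    rw [map_add, AddMonoidHom.add_apply, hx g hg y hy, hz g hg y hy, add_zero]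
  neg_mem' := by
    intro x hx g hg y hy
    rw [map_neg, AddMonoidHom.neg_apply, hx g hg y hy, neg_zero]

theorem e_Xp {x : M} (hx : x ∈ e) : x ∈ Xp K e f := by
  intro g hg y hy
  have h1 := d.cenA _ (d.A_X (mem_X hg hy))
  rw [d.symm]
  exact (d.perp _).1 h1 x hx

theorem A_Xp {a : H} (ha : a ∈ A) (m : M) : a • m - m ∈ Xp K e f := by
  intro g hg y hy
  rw [map_sub, AddMonoidHom.sub_apply, sub_eq_zero]
  have h1 := d.fA a ha m (g • y)
  rwa [d.A_X (mem_X hg hy) a ha] at h1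

theorem K_Xp {k : H} (hk : k ∈ K) {x : M} (hx : x ∈ Xp K e f) : k • x ∈ Xp K e f := by
  intro g hg y hy
  have h1 := d.fK k hk x (k⁻¹ • g • y)
  rw [smul_inv_smul, smul_smul] at h1
  rw [h1]
  exact hx _ (mul_mem (inv_mem hk) hg) y hy

theorem t_inv_mem {y : M} (hy : y ∈ e) : t⁻¹ • y ∈ e := by
  obtain ⟨k, hk⟩ := d.odd
  have h1 : t⁻¹ = t ^ (2 * k) := by
    have h2 := d.tn
    rw [hk, pow_succ] at h2
    exact (eq_inv_of_mul_eq_one_left h2).symm
  have h3 : ∀ l, t ^ l • y ∈ e := by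
    intro l
    induction l with
    | zero => rwa [pow_zero, one_smul]
    | succ l ih => rw [pow_succ', mul_smul]; exact d.te _ ih
  rw [h1]
  exact h3 _

theorem t_Xp {x : M} (hx : x ∈ Xp K e f) : t • x ∈ Xp K e f := by
  intro g hg y hy
  -- `g • y = t • (t⁻¹ g t) • (t⁻¹ • y)`
  have hK : t⁻¹ * g * t ∈ K := by
    obtain ⟨k, hk⟩ := d.odd
    have h1 : t⁻¹ = t ^ (2 * k) := by
      have h2 := d.tn
      rw [hk, pow_succ] at h2
      exact (eq_inv_of_mul_eq_one_left h2).symm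
    have h3 : ∀ l, t ^ l * g * (t ^ l)⁻¹ ∈ K := by
      intro l
      induction l with
      | zero => simpa using hg
      | succ l ih =>
        have h4 := d.tK _ ih
        rwa [show t * (t ^ l * g * (t ^ l)⁻¹) * t⁻¹ = t ^ (l + 1) * g * (t ^ (l + 1))⁻¹ by
          rw [pow_succ', mul_inv_rev]; group] at h4
    have h5 := h3 (2 * k)
    rwa [← h1, inv_inv] at h5
  have h1 := d.tf x ((t⁻¹ * g * t) • t⁻¹ • y) (hx _ hK _ (d.t_inv_mem hy))
  rwa [smul_smul, smul_smul, show t * (t⁻¹ * g * t) * t⁻¹ = g by group] at h1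

/-- an element of `P` with trivial projection is in `X^⊥` -/
theorem P_Xp {u : M} (hu : u ∈ P) (h0 : pj t n u = 0) : u ∈ Xp K e f := by
  obtain ⟨m, hm⟩ := d.neTop
  obtain ⟨a, ha, h⟩ := d.surj m hm u hu
  set x := a • m - m with hx
  set c := u - x with hc
  have h1 : x + (c - pj t n c) ∈ Xp K e f := add_mem (d.A_Xp ha m) (d.e_Xp (d.pj_D h))
  have h2 : u = (x + (c - pj t n c)) + pj t n c := by rw [hc]; abel
  have h3 : pj t n (x + (c - pj t n c)) ∈ Xp K e f := pj_mem (fun _ => d.t_Xp) h1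
  have h4 : pj t n (x + (c - pj t n c)) + pj t n c = 0 := by
    have h5 : pj t n u = pj t n (x + (c - pj t n c)) + pj t n (pj t n c) := by
      conv_lhs => rw [h2]
      rw [pj_add]
    rw [d.pj_fix (smul_pj d.tn c), h0] at h5
    exact h5.symm
  have h5 : pj t n c ∈ Xp K e f := by
    rw [eq_neg_of_add_eq_zero_right h4]
    exact neg_mem h3
  rw [h2]
  exact add_mem h1 h5

/-- `K` is trivial on `M / X^⊥` -/
theorem K_M {k : H} (hk : k ∈ K) (m : M) : k • m - m ∈ Xp K e f := by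
  let L : Subgroup H :=
    { carrier := {k | k ∈ K ∧ ∀ m, k • m - m ∈ Xp K e f}
      one_mem' := ⟨one_mem _, fun m => by rw [one_smul, sub_self]; exact zero_mem _⟩
      mul_mem' := by
        rintro g h ⟨hg, hg'⟩ ⟨hh, hh'⟩
        refine ⟨mul_mem hg hh, fun m => ?_⟩
        have h1 := add_mem (hg' (h • m)) (hh' m)
        rwa [sub_add_sub_cancel, smul_smul] at h1
      inv_mem' := by
        rintro g ⟨hg, hg'⟩
        refine ⟨inv_mem hg, fun m => ?_⟩
        have h1 := neg_mem (hg' (g⁻¹ • m))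
        rwa [smul_inv_smul, neg_sub] at h1 }
  have hL : L = K := by
    refine d.gen L (fun s hs => ⟨d.SK hs, fun m => d.P_Xp (d.S_M hs m) (d.pj_S hs m)⟩) (fun _ h => h.1) ?_
    rintro g hg l ⟨hl, hl'⟩
    refine ⟨mul_mem (mul_mem hg hl) (inv_mem hg), fun m => ?_⟩
    have h1 := d.K_Xp hg (hl' (g⁻¹ • m))
    rwa [smul_sub, smul_inv_smul, smul_smul, smul_smul] at h1
  have h1 : k ∈ L := by rw [hL]; exact hk
  exact h1.2 m

/-- `K` fixes `e` pointwise -/
theorem K_e {k : H} (hk : k ∈ K) {y : M} (hy : y ∈ e) : k • y = y := by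
  refine sub_eq_zero.1 (d.nd _ fun z => ?_)
  rw [d.symm, map_sub, sub_eq_zero]
  have h1 := d.fK k hk (k⁻¹ • z) y
  rw [smul_inv_smul] at h1
  have h2 := d.K_M (inv_mem hk) z 1 (one_mem K) y hy
  rw [one_smul, map_sub, AddMonoidHom.sub_apply, sub_eq_zero] at h2
  rw [h1, h2]

theorem K_P {k : H} (hk : k ∈ K) {x : M} (hx : x ∈ P) : k • x ∈ P := by
  rw [d.perp] at hx ⊢
  intro y hy
  have h1 := d.fK k hk x y
  rw [d.K_e hk hy, hx y hy] at h1
  exact h1

/-- `[M, K] ≤ P` -/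
theorem K_MP {k : H} (hk : k ∈ K) (m : M) : k • m - m ∈ P := by
  rw [d.perp]
  intro y hy
  rw [map_sub, AddMonoidHom.sub_apply, sub_eq_zero]
  have h1 := d.fK k hk m y
  rwa [d.K_e hk hy] at h1

/-- `[P, K] ≤ e` -/
theorem K_Pe {k : H} (hk : k ∈ K) {x : M} (hx : x ∈ P) : k • x - x ∈ e := by
  let L : Subgroup H :=
    { carrier := {k | k ∈ K ∧ ∀ m ∈ P, k • m - m ∈ e}
      one_mem' := ⟨one_mem _, fun m _ => by rw [one_smul, sub_self]; exact zero_mem _⟩
      mul_mem' := by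
        rintro g h ⟨hg, hg'⟩ ⟨hh, hh'⟩
        refine ⟨mul_mem hg hh, fun m hm => ?_⟩
        have h1 := add_mem (hg' (h • m) (d.K_P hh hm)) (hh' m hm)
        rwa [sub_add_sub_cancel, smul_smul] at h1
      inv_mem' := by
        rintro g ⟨hg, hg'⟩
        refine ⟨inv_mem hg, fun m hm => ?_⟩
        have h1 := neg_mem (hg' (g⁻¹ • m) (d.K_P (inv_mem hg) hm))
        rwa [smul_inv_smul, neg_sub] at h1 }
  have hL : L = K := by
    refine d.gen L (fun s hs => ⟨d.SK hs, fun m hm => d.S_P' hs hm⟩) (fun _ h => h.1) ?_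
    rintro g hg l ⟨hl, hl'⟩
    refine ⟨mul_mem (mul_mem hg hl) (inv_mem hg), fun m hm => ?_⟩
    have h1 := hl' (g⁻¹ • m) (d.K_P (inv_mem hg) hm)
    have h2 : g • (l • g⁻¹ • m - g⁻¹ • m) ∈ e := by
      rw [d.K_e hg h1]; exact h1
    rwa [smul_sub, smul_inv_smul, smul_smul, smul_smul] at h2
  have h1 : k ∈ L := by rw [hL]; exact hk
  exact h1.2 x hx

omit d in
/-- a perfect group `K` with `[L₁, K] ≤ L₂`, `[L₂, K] = 0` centralises `L₁` -/
theorem chain {H : Type*} [Group H] [DistribMulAction H M] {K : Subgroup H} (hperf : ⁅K, K⁆ = K) {L₁ : AddSubgroup M} (h1 : ∀ k ∈ K, ∀ x ∈ L₁, k • x ∈ L₁)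
    (h2 : ∀ k ∈ K, ∀ l ∈ K, ∀ x ∈ L₁, l • (k • x - x) = k • x - x) : ∀ k ∈ K, ∀ x ∈ L₁, k • x = x := by
  let L : Subgroup H :=
    { carrier := {k | k ∈ K ∧ ∀ x ∈ L₁, k • x = x}
      one_mem' := ⟨one_mem _, fun m _ => one_smul _ _⟩
      mul_mem' := by
        rintro g h ⟨hg, hg'⟩ ⟨hh, hh'⟩
        refine ⟨mul_mem hg hh, fun m hm => ?_⟩
        rw [mul_smul, hh' m hm, hg' m hm]
      inv_mem' := by
        rintro g ⟨hg, hg'⟩
        refine ⟨inv_mem hg, fun m hm => ?_⟩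
        rw [inv_smul_eq_iff, hg' m hm] }
  have hL : K ≤ L := by
    rw [← hperf, Subgroup.commutator_le]
    intro g hg l hl
    have hc := Subgroup.commutator_mem_commutator hg hl
    rw [hperf] at hc
    refine ⟨hc, fun x hx => ?_⟩
    have hx' : g⁻¹ • l⁻¹ • x ∈ L₁ := h1 _ (inv_mem hg) _ (h1 _ (inv_mem hl) _ hx)
    have k1' := h2 l hl g hg _ hx'
    have k2' := h2 g hg l hl _ hx'
    rw [smul_sub] at k1' k2'
    have k3' : g • l • g⁻¹ • l⁻¹ • x = l • g • g⁻¹ • l⁻¹ • x := by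
      have e1 : g • l • g⁻¹ • l⁻¹ • x = (l • g⁻¹ • l⁻¹ • x - g⁻¹ • l⁻¹ • x) + g • g⁻¹ • l⁻¹ • x := by
        rw [← k1']; abel
      have e2 : l • g • g⁻¹ • l⁻¹ • x = (g • g⁻¹ • l⁻¹ • x - g⁻¹ • l⁻¹ • x) + l • g⁻¹ • l⁻¹ • x := by
        rw [← k2']; abel
      rw [e1, e2]; abel
    change (g * l * g⁻¹ * l⁻¹) • x = x
    rw [mul_smul, mul_smul, mul_smul, k3', smul_inv_smul, smul_inv_smul]
  intro k hk x hx
  exact (hL hk).2 x hx

/-- **LEMMA E0**: `K` centralises `M` -/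
theorem fix {k : H} (hk : k ∈ K) (m : M) : k • m = m := by
  have h1 : ∀ k ∈ K, ∀ x ∈ P, k • x = x := chain d.perf (fun k hk x hx => d.K_P hk hx)
    fun k hk l hl x hx => d.K_e hl (d.K_Pe hk hx)
  have h2 := chain (L₁ := (⊤ : AddSubgroup M)) d.perf (fun _ _ _ _ => AddSubgroup.mem_top _)
    (fun k hk l hl x _ => h1 l hl _ (d.K_MP hk x))
  exact h2 k hk m (AddSubgroup.mem_top _)

end Dat

end Cfsg.Agent.Omega.HOneQ.ECen
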