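import Cfsg.Agent.Omega.HOneQ.ECen
import Cfsg.Agent.Omega.Lie.TorNat
import Cfsg.Agent.Omega.Lie.ModQ

/-!
# II.0h1, SPLIT, all `q ≥ 4` (bb #15121 (b), (c))

`H = HQ (R i)`, `A = AA V R i j`, `E` a normal subgroup of `H` with `A ≤ E ≤ H⁰`, `E` perfect (`E = ⟨A^H⟩`).

* `cen_rad`: **(b)** an element of `Z(W i)` centralised by `E` modulo `R i` lies in `R i`;
* `S_inf_KN`: **(c)** `S ∩ N₀ = 1`; `KN_odd`: `N₀` has odd order; `met_of_even`: every component `K ≤ H⁰` of even order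
  is met by `A`.
-/

set_option autoImplicit false
set_option linter.unusedSectionVars false

namespace Cfsg.Agent.Omega.HOneQ.ECen

open Subgroup Cfsg Cfsg.Agent.Omega.BTwo Cfsg.Agent.Omega.Lie Cfsg.Agent.Omega.Lie.Quot
open Cfsg.Agent.Omega.Lie.Layer (OddC InnC InnA Cps)

universe u v w

variable {G : Type u} [Group G] {ι : Type w} {V : Subgroup G} {R : ι → Subgroup G} {i j : ι}
  {F : Type v} [Field F] {vv : F → F → G} {w1 w2 t : F → G}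

/-! ### exchange of `i` and `j` -/

theorem coord_swap (c : Coord V R i j vv w1 w2) : Coord V R j i (fun b c => vv c b) w2 w1 :=
  (Crd.of_coord c).swap.to_coord

theorem torD_swap (τ : TorD V R i j vv t) : TorD V R j i (fun b c => vv c b) (fun a => (t a)⁻¹) where
  ne := τ.ne.symm
  v_add b c b' c' := τ.v_add c b c' b'
  v_inj b c h := (τ.v_inj c b h).symm
  v_mem g := by
    rw [τ.v_mem g]
    exact ⟨fun ⟨b, c, h⟩ => ⟨c, b, h⟩, fun ⟨b, c, h⟩ => ⟨c, b, h⟩⟩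
  Ri := τ.Rj
  Rj := τ.Ri
  one := by rw [τ.one, inv_one]
  mul a b ha hb := by rw [τ.mul a b ha hb, mul_inv_rev, ← mul_inv_rev, ← mul_inv_rev, τ.comm ha hb]
  memX a ha := inv_mem (τ.memX a ha)
  odd a ha := by rw [orderOf_inv]; exact τ.odd a ha
  act a b c ha := by
    change (t a)⁻¹ * vv c b * (t a)⁻¹⁻¹ = vv (a⁻¹ * c) (a * b)
    rw [inv_inv, LemNS.t_act_inv τ ha]
  wU a b ha hb hab u hu := by
    rw [inv_inv, inv_inv, inv_inv]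
    exact τ.wU' a b ha hb hab u hu
  wU' a b ha hb hab u hu := by
    rw [inv_inv, inv_inv, inv_inv]
    exact τ.wU a b ha hb hab u hu
  wW a b ha hb hab u hu := by
    rw [inv_inv, inv_inv, inv_inv]
    exact τ.wW' a b ha hb hab u hu
  wW' a b ha hb hab u hu := by
    rw [inv_inv, inv_inv, inv_inv]
    exact τ.wW a b ha hb hab u hu

theorem relIndex_cj (g : G) (A B : Subgroup G) : (cj g A).relIndex (cj g B) = A.relIndex B := by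
  unfold cj
  exact relIndex_map_map_of_injective _ _ (MulAut.conj g).injective

/-- the index of `N(V) ∩ N(R i)` in `N(R i)` does not depend on `i` -/
theorem relIndex_eq (b : BT V R) (i j : ι) : (normalizer (V : Set G)).relIndex (normalizer (R j : Set G)) =
    (normalizer (V : Set G)).relIndex (normalizer (R i : Set G)) := by
  obtain ⟨x, hx, e⟩ := b.trans_X_one i j
  have hxV : cj x V = V := cj_eq_self_iff.2 (b.X_le_NV hx)
  rw [← relIndex_cj x (normalizer (V : Set G)) (normalizer (R i : Set G)), ← normalizer_cj, ← normalizer_cj, hxV, e]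

/-! ### (b) -/

/-- if `L` centralises `R₀` and `Z / R₀` then `[L, L]` centralises `Z` -/
theorem comm_cen {R₀ Z L : Subgroup G} (hRR : ∀ a ∈ R₀, ∀ b ∈ R₀, a * b = b * a)
    (hR : ∀ x ∈ L, ∀ r ∈ R₀, x * r * x⁻¹ = r) (hZ : ∀ x ∈ L, ∀ z ∈ Z, x * z * x⁻¹ * z⁻¹ ∈ R₀) :
    ⁅L, L⁆ ≤ centralizer (Z : Set G) := by
  rw [commutator_le]
  intro x hx y hy
  rw [mem_centralizer_iff]
  intro z hz
  have g1 := hZ _ (inv_mem hx) z hz
  have g2 := hZ _ (inv_mem hy) z hz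
  have l1 : x⁻¹ * z * x⁻¹⁻¹ = (x⁻¹ * z * x⁻¹⁻¹ * z⁻¹) * z := by group
  have l2 : y⁻¹ * z * y⁻¹⁻¹ = (y⁻¹ * z * y⁻¹⁻¹ * z⁻¹) * z := by group
  have g3 := hRR _ g1 _ g2
  set r' := x⁻¹ * z * x⁻¹⁻¹ * z⁻¹
  set s' := y⁻¹ * z * y⁻¹⁻¹ * z⁻¹
  have f1 : x⁻¹ * y⁻¹ * z * (x⁻¹ * y⁻¹)⁻¹ = s' * r' * z := by
    calc x⁻¹ * y⁻¹ * z * (x⁻¹ * y⁻¹)⁻¹ = x⁻¹ * (y⁻¹ * z * y⁻¹⁻¹) * x⁻¹⁻¹ := by group
      _ = x⁻¹ * (s' * z) * x⁻¹⁻¹ := by rw [l2]
      _ = (x⁻¹ * s' * x⁻¹⁻¹) * (x⁻¹ * z * x⁻¹⁻¹) := by group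
      _ = s' * (r' * z) := by rw [hR _ (inv_mem hx) s' g2, l1]
      _ = _ := by group
  have f2 : y⁻¹ * x⁻¹ * z * (y⁻¹ * x⁻¹)⁻¹ = r' * s' * z := by
    calc y⁻¹ * x⁻¹ * z * (y⁻¹ * x⁻¹)⁻¹ = y⁻¹ * (x⁻¹ * z * x⁻¹⁻¹) * y⁻¹⁻¹ := by group
      _ = y⁻¹ * (r' * z) * y⁻¹⁻¹ := by rw [l1]
      _ = (y⁻¹ * r' * y⁻¹⁻¹) * (y⁻¹ * z * y⁻¹⁻¹) := by group
      _ = r' * (s' * z) := by rw [hR _ (inv_mem hy) r' g1, l2]
      _ = _ := by group
  have f3 : x⁻¹ * y⁻¹ * z * (x⁻¹ * y⁻¹)⁻¹ = y⁻¹ * x⁻¹ * z * (y⁻¹ * x⁻¹)⁻¹ := by rw [f1, f2, g3]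
  rw [commutatorElement_def]
  calc z * (x * y * x⁻¹ * y⁻¹) = (x * y) * ((x * y)⁻¹ * z * (x * y)) * (x⁻¹ * y⁻¹) := by group
    _ = (x * y) * (y⁻¹ * x⁻¹ * z * (y⁻¹ * x⁻¹)⁻¹) * (x⁻¹ * y⁻¹) := by group
    _ = (x * y) * (x⁻¹ * y⁻¹ * z * (x⁻¹ * y⁻¹)⁻¹) * (x⁻¹ * y⁻¹) := by rw [f3]
    _ = x * y * x⁻¹ * y⁻¹ * z := by group

/-- the preimage of a subgroup of `H` in `N(R i)` -/
def lift (R₀ : Subgroup G) (E : Subgroup (HQ R₀)) : Subgroup G :=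
  (E.comap (pr R₀)).map (normalizer (R₀ : Set G)).subtype

theorem mem_lift {R₀ : Subgroup G} {E : Subgroup (HQ R₀)} {g : G} :
    g ∈ lift R₀ E ↔ ∃ hg : g ∈ normalizer (R₀ : Set G), pr R₀ ⟨g, hg⟩ ∈ E := by
  unfold lift
  constructor
  · rintro ⟨x, hx, rfl⟩
    exact ⟨x.2, hx⟩
  · rintro ⟨hg, h⟩
    exact ⟨⟨g, hg⟩, h, rfl⟩

theorem lift_le {R₀ : Subgroup G} {E : Subgroup (HQ R₀)} : lift R₀ E ≤ normalizer (R₀ : Set G) := fun _ h =>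
  (mem_lift.1 h).1

theorem im_lift {R₀ : Subgroup G} {E : Subgroup (HQ R₀)} : im R₀ (lift R₀ E) = E := by
  ext x
  constructor
  · intro hx
    obtain ⟨g, hg, hgL, rfl⟩ := mem_im.1 hx
    exact (mem_lift.1 hgL).2
  · intro hx
    obtain ⟨g, hg, rfl⟩ := exists_pr x
    exact pr_mem_im hg (mem_lift.2 ⟨hg, hx⟩)

/-- `{z ∈ Z(W i) : [z, E] ≤ R i}` -/
def Z00 (b : BT V R) (E : Subgroup (HQ (R i))) : Subgroup G where
  carrier := {z | z ∈ BTwo.ZZ V R i ∧ ∀ g ∈ lift (R i) E, g * z * g⁻¹ * z⁻¹ ∈ R i}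
  one_mem' := ⟨one_mem _, fun g _ => by
    rw [show g * 1 * g⁻¹ * 1⁻¹ = 1 by group]; exact one_mem _⟩
  mul_mem' := by
    rintro x y ⟨hx, hx'⟩ ⟨hy, hy'⟩
    refine ⟨mul_mem hx hy, fun g hg => ?_⟩
    have e : g * (x * y) * g⁻¹ * (x * y)⁻¹ = (g * x * g⁻¹ * x⁻¹) * (x * (g * y * g⁻¹ * y⁻¹) * x⁻¹) := by group
    rw [e]
    exact mul_mem (hx' g hg) (conj_mem_of_normalizer (b.W_le_N i hx.1) (hy' g hg))
  inv_mem' := by
    rintro x ⟨hx, hx'⟩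
    refine ⟨inv_mem hx, fun g hg => ?_⟩
    have e : g * x⁻¹ * g⁻¹ * x⁻¹⁻¹ = x⁻¹ * (g * x * g⁻¹ * x⁻¹)⁻¹ * x := by
      have h1 : Commute (g * x * g⁻¹ * x⁻¹) x := by
        have h2 := mem_centralizer_iff.1 hx.2 _ (b.R_le_W i i (hx' g hg))
        exact h2
      have h3 : g * x * g⁻¹ = (g * x * g⁻¹ * x⁻¹) * x := by group
      have h4 : g * x⁻¹ * g⁻¹ = x⁻¹ * (g * x * g⁻¹ * x⁻¹)⁻¹ := by
        rw [← mul_inv_rev, ← h3]; group
      rw [h4, inv_inv]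
    rw [e]
    exact conj_inv_mem_of_normalizer (b.W_le_N i hx.1) (inv_mem (hx' g hg))

section main

variable [Finite G] [Finite F] [CharP F 2] (b : BTS V R) (hF : ∃ a : F, a ≠ 0 ∧ a ≠ 1)
  (c : Coord V R i j vv w1 w2) (τ : TorD V R i j vv t)
  (hodd : Odd ((normalizer (V : Set G)).relIndex (normalizer (R i : Set G))))
  {E : Subgroup (HQ (R i))} (hEn : E.Normal) (hAE : AA V R i j ≤ E) (hE0 : E ≤ H0 R i) (hEp : E ≤ ⁅E, E⁆)

include b hF c τ hodd hEn hAE hE0 hEp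

/-- **(b)** `C_{Z(W i)/R i}(E) = 1` -/
theorem cen_rad : Z00 b.toBT E ≤ R i := by
  have b' := b.toBT
  set Z := Z00 b.toBT E with hZ
  have hZZ : Z ≤ BTwo.ZZ V R i := fun _ h => h.1
  -- `N(R i)` normalises `Z`
  have hNZ : normalizer (R i : Set G) ≤ normalizer (Z : Set G) := by
    refine le_normalizer_of fun g hg z hz => ?_
    refine ⟨conj_mem_of_normalizer (LemNS.N_le_NZ i hg) hz.1, fun x hx => ?_⟩
    obtain ⟨hxN, hxE⟩ := mem_lift.1 hx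
    have h1 : g⁻¹ * x * g ∈ lift (R i) E := by
      refine mem_lift.2 ⟨mul_mem (mul_mem (inv_mem hg) hxN) hg, ?_⟩
      have h2 := hEn.conj_mem _ hxE (pr (R i) ⟨g, hg⟩)⁻¹
      rw [inv_inv] at h2
      exact h2
    have h2 := conj_mem_of_normalizer hg (hz.2 _ h1)
    rwa [show g * (g⁻¹ * x * g * z * (g⁻¹ * x * g)⁻¹ * z⁻¹) * g⁻¹ =
      x * (g * z * g⁻¹) * x⁻¹ * (g * z * g⁻¹)⁻¹ by group] at h2
  have hNC : normalizer (R i : Set G) ≤ normalizer (centralizer (Z : Set G) : Set G) :=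
    hNZ.trans (normalizer_le_normalizer_centralizer _)
  have hWC : WW V (R i) ≤ centralizer (Z : Set G) := by
    intro w hw
    rw [mem_centralizer_iff]
    exact fun z hz => z_comm (hZZ hz) hw
  -- `[L, L]` centralises `Z`
  have hLC : ⁅lift (R i) E, lift (R i) E⁆ ≤ centralizer (Z : Set G) := by
    refine comm_cen (R₀ := R i) (b.R_comm i) (fun x hx r hr => ?_) (fun x hx z hz => hz.2 x hx)
    obtain ⟨hxN, hxE⟩ := mem_lift.1 hx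
    have h1 : x ∈ centralizer (R i : Set G) := (pr_mem_im_iff (Q_le_C b.toBT i) hxN).1 (hE0 hxE)
    rw [← mem_centralizer_iff.1 h1 r hr, mul_inv_cancel_right]
  obtain ⟨a, ha, ha1⟩ := hF
  have hTN := τ.normR ha
  have hTX := τ.memX a ha
  -- `[t, u]` centralises `Z`
  have key : ∀ u ∈ UU V R j, t a * u * (t a)⁻¹ * u⁻¹ ∈ centralizer (Z : Set G) := by
    intro u hu
    have huN := U_le_N b.toBT i j hu
    have h1 : pr (R i) ⟨u, huN⟩ ∈ ⁅im (R i) (lift (R i) E), im (R i) (lift (R i) E)⁆ := by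
      rw [im_lift]
      exact hEp (hAE ((mem_AA b.toBT).2 ⟨u, hu, rfl⟩))
    obtain ⟨x, hxN, hx, e⟩ := mem_im.1 (Layer.commutator_im_le lift_le lift_le h1)
    have hq := (pr_eq_pr hxN huN).1 e
    have hx' := hLC hx
    have h2 := hWC (b.XQ hTX hTN hq)
    have e1 : t a * u * (t a)⁻¹ * u⁻¹ =
        (t a * x * (t a)⁻¹) * (t a * (x⁻¹ * u) * (t a)⁻¹ * (x⁻¹ * u)⁻¹) * x⁻¹ := by group
    rw [e1]
    exact mul_mem (mul_mem (conj_mem_of_normalizer (hNC hTN) hx') h2) (inv_mem hx')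
  have hUZ : ∀ u ∈ UU V R j, u ∈ centralizer (Z : Set G) := by
    intro u hu
    obtain ⟨u', hu', h1⟩ := τ.exists_comm b.toBT ha ha1 hu
    have e1 : u = (u * (t a * u' * (t a)⁻¹ * u'⁻¹)⁻¹) * (t a * u' * (t a)⁻¹ * u'⁻¹) := by group
    rw [e1]
    exact mul_mem (hWC (D_le_W V R i h1)) (key u' hu')
  refine core_le_of_coord b c ⟨a, ha, ha1⟩ (S := normalizer (V : Set G) ⊓ normalizer (R i : Set G)) inf_le_right
    inf_le_left (by rwa [inf_relIndex_right]) hNZ fun z hz => ?_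
  -- `z ∈ D`
  have hzD : z ∈ DD V R := by
    by_contra hzD
    obtain ⟨u, hu, h1⟩ := LemNS.beta_ne b ⟨a, ha, ha1⟩ (coord_swap c) (torD_swap τ)
      (by rw [relIndex_eq b.toBT i j]; exact hodd) (hZZ hz) hzD
    apply h1
    have h2 := mem_centralizer_iff.1 (hUZ u hu) z hz
    rw [h2, mul_inv_cancel_right, mul_inv_cancel]
    exact one_mem _
  obtain ⟨r, hr, h1⟩ := b.cen_DW hzD (hZZ hz).2
  exact ⟨r, hr, h1.2⟩

/-! ### (c) -/

omit hF hodd τ hEn hAE hE0 hEp in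
/-- if `g ∈ C(V)` centralises `W i / Z(W i)` and commutes with `A` then `[g, Z(W i)] ≤ D` -/
theorem comm_mem_D {g : G} (hgV : g ∈ centralizer (V : Set G)) (hg0 : g ∈ LemNS.N0 V R i)
    (hgA : ∀ a ∈ AA V R i j, pr (R i) ⟨g, b.cen_le_N i hgV⟩ * a = a * pr (R i) ⟨g, b.cen_le_N i hgV⟩)
    {z : G} (hz : z ∈ BTwo.ZZ V R i) : g * z * g⁻¹ * z⁻¹ ∈ DD V R := by
  have hgND : g ∈ normalizer (DD V R : Set G) := b.NV_le_ND (cen_le_NV V hgV)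
  have hw := c.w1_mem 1
  have hwU := LemNS.w1_not_mem c
  set w := w1 1
  obtain ⟨y, hy, hd⟩ := b.surj (Ne.symm c.ne) hw hwU (zU_le i hz)
  have hyN := U_le_N b.toBT i j hy
  set k := w * y * w⁻¹ * y⁻¹ with hk
  set d := k⁻¹ * z with hdd
  have hkU : k ∈ UU V R i := b.WU' hw hy
  -- `g w g⁻¹ = ζ w`
  set ζ := g * w * g⁻¹ * w⁻¹ with hζ
  have hζZ : ζ ∈ BTwo.ZZ V R i := hg0.2.2 w hw
  -- `g y g⁻¹ = δ y`
  set δ := g * y * g⁻¹ * y⁻¹ with hδ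
  have hδU : δ ∈ UU V R j := mul_mem (conj_mem_of_normalizer (b.cen_le_NU j hgV) hy) (inv_mem hy)
  have hδD : δ ∈ DD V R := by
    rw [← U_inf_Q b.toBT c.ne hδU]
    have h1 := hgA _ ((mem_AA b.toBT).2 ⟨y, hy, rfl⟩)
    have hgN := b.cen_le_N i hgV
    rw [← pr_eq_one (mul_mem (mul_mem (mul_mem hgN hyN) (inv_mem hgN)) (inv_mem hyN))]
    have e : pr (R i) ⟨δ, mul_mem (mul_mem (mul_mem hgN hyN) (inv_mem hgN)) (inv_mem hyN)⟩ =
        pr (R i) ⟨g, hgN⟩ * pr (R i) ⟨y, hyN⟩ * (pr (R i) ⟨g, hgN⟩)⁻¹ * (pr (R i) ⟨y, hyN⟩)⁻¹ := rfl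
    rw [e, h1, mul_inv_cancel_right, mul_inv_cancel]
  have c1 : Commute ζ (w * δ * w⁻¹) := z_comm hζZ
    (mul_mem (mul_mem hw (D_le_W V R i hδD)) (inv_mem hw))
  have c2 : Commute ζ k := z_comm hζZ (UU_le_WW i hkU)
  have hζy : ζ * y * ζ⁻¹ * y⁻¹ ∈ DD V R := (b.cen_W_U c.ne hζZ.2 hy).1
  have e1 : g * k * g⁻¹ = (w * δ * w⁻¹) * k * (ζ * y * ζ⁻¹ * y⁻¹) * δ⁻¹ := by
    have k1 : g * k * g⁻¹ = (g * w * g⁻¹) * (g * y * g⁻¹) * (g * w * g⁻¹)⁻¹ * (g * y * g⁻¹)⁻¹ := by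
      rw [hk]; group
    have k2 : g * w * g⁻¹ = ζ * w := by rw [hζ]; group
    have k3 : g * y * g⁻¹ = δ * y := by rw [hδ]; group
    rw [k1, k2, k3]
    calc ζ * w * (δ * y) * (ζ * w)⁻¹ * (δ * y)⁻¹
        = (ζ * (w * δ * w⁻¹)) * (w * y * w⁻¹ * y⁻¹) * y * ζ⁻¹ * y⁻¹ * δ⁻¹ := by group
      _ = (w * δ * w⁻¹ * ζ) * k * y * ζ⁻¹ * y⁻¹ * δ⁻¹ := by rw [c1.eq, ← hk]
      _ = (w * δ * w⁻¹) * (ζ * k) * y * ζ⁻¹ * y⁻¹ * δ⁻¹ := by simp only [mul_assoc]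
      _ = (w * δ * w⁻¹) * (k * ζ) * y * ζ⁻¹ * y⁻¹ * δ⁻¹ := by rw [c2.eq]
      _ = (w * δ * w⁻¹) * k * (ζ * y * ζ⁻¹ * y⁻¹) * δ⁻¹ := by simp only [mul_assoc]
  have e2 : z = k * d := by rw [hdd]; group
  have hwND : w ∈ normalizer (DD V R : Set G) := b.NV_le_ND (b.W_le_NV i hw)
  have hkND : k ∈ normalizer (DD V R : Set G) := b.Y_le_ND (UU_le_YY i hkU)
  have h1 : w * δ * w⁻¹ ∈ DD V R := conj_mem_of_normalizer hwND hδD
  have h2 : (ζ * y * ζ⁻¹ * y⁻¹) * δ⁻¹ * (g * d * g⁻¹) * d⁻¹ ∈ DD V R :=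
    mul_mem (mul_mem (mul_mem hζy (inv_mem hδD)) (conj_mem_of_normalizer hgND hd)) (inv_mem hd)
  have h3 := conj_mem_of_normalizer hkND h2
  have e3 : g * z * g⁻¹ * z⁻¹ = (w * δ * w⁻¹) * (k * ((ζ * y * ζ⁻¹ * y⁻¹) * δ⁻¹ * (g * d * g⁻¹) * d⁻¹) * k⁻¹) := by
    calc g * z * g⁻¹ * z⁻¹ = (g * k * g⁻¹) * (g * d * g⁻¹) * d⁻¹ * k⁻¹ := by rw [e2]; group
      _ = _ := by rw [e1]; group
  rw [e3]
  exact mul_mem h1 h3

omit hF hodd τ hEn hAE hE0 hEp c in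
/-- the elements of `N₀` trivial on `Z(W i) / R i` lie in `O₂(N(R i))` -/
theorem N0_le_Q {x : G} (hx : x ∈ LemNS.N0 V R i) (h : ∀ z ∈ BTwo.ZZ V R i, x * z * x⁻¹ * z⁻¹ ∈ R i) :
    x ∈ QQ (R i) := by
  let X0 : Subgroup G :=
    { carrier := {x | x ∈ LemNS.N0 V R i ∧ ∀ z ∈ BTwo.ZZ V R i, x * z * x⁻¹ * z⁻¹ ∈ R i}
      one_mem' := ⟨one_mem _, fun z _ => by
        rw [show 1 * z * 1⁻¹ * z⁻¹ = 1 by group]; exact one_mem _⟩
      mul_mem' := by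
        rintro x y ⟨hx, hx'⟩ ⟨hy, hy'⟩
        refine ⟨mul_mem hx hy, fun z hz => ?_⟩
        have e : x * y * z * (x * y)⁻¹ * z⁻¹ = (x * (y * z * y⁻¹ * z⁻¹) * x⁻¹) * (x * z * x⁻¹ * z⁻¹) := by group
        rw [e]
        exact mul_mem (conj_mem_of_normalizer (LemNS.N0_le_N i hx) (hy' z hz)) (hx' z hz)
      inv_mem' := by
        rintro x ⟨hx, hx'⟩
        refine ⟨inv_mem hx, fun z hz => ?_⟩
        have e : x⁻¹ * z * x⁻¹⁻¹ * z⁻¹ = x⁻¹ * (x * z * x⁻¹ * z⁻¹)⁻¹ * x := by group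
        rw [e]
        exact conj_inv_mem_of_normalizer (LemNS.N0_le_N i hx) (inv_mem (hx' z hz)) }
  have key : X0 ≤ QQ (R i) := by
    refine le_O2_of_normal (fun x hx => LemNS.N0_le_N i hx.1) ?_ ?_
    · refine isPGroup_of_odd fun x hx ho => ?_
      have hRP : IsPGroup 2 (R i) := (b.W_isPGroup i).to_le (b.R_le_W i i)
      have hZP : IsPGroup 2 (BTwo.ZZ V R i) := (b.W_isPGroup i).to_le inf_le_left
      have h1 : ∀ r ∈ R i, x * r = r * x := fun r hr => (mem_centralizer_iff.1 hx.1.1 r hr).symm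
      have h2 : ∀ s ∈ BTwo.ZZ V R i, x * s = s * x := fun s hs =>
        comm_of_odd ho hRP (hx.2 s hs) (h1 _ (hx.2 s hs))
      have h3 : ∀ w ∈ WW V (R i), x * w = w * x := fun w hw =>
        comm_of_odd ho hZP (hx.1.2.2 w hw) (h2 _ (hx.1.2.2 w hw))
      have h4 : x ∈ centralizer (WW V (R i) : Set G) := by
        rw [mem_centralizer_iff]; exact fun w hw => (h3 w hw).symm
      obtain ⟨n, hn⟩ := b.cen_W_isPGroup i ⟨x, h4⟩
      have hn' : x ^ 2 ^ n = 1 := congrArg Subtype.val hn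
      have hd := Nat.dvd_gcd (dvd_refl (orderOf x)) (orderOf_dvd_of_pow_eq_one hn')
      have hco : Nat.gcd (orderOf x) (2 ^ n) = 1 := (Nat.coprime_two_right.2 ho).pow_right n
      rw [hco, Nat.dvd_one, orderOf_eq_one_iff] at hd
      exact hd
    · rintro g hg x hx
      refine ⟨LemNS.N_le_NN0 i hg hx.1, fun z hz => ?_⟩
      have h1 := hx.2 _ (conj_inv_mem_of_normalizer (LemNS.N_le_NZ i hg) hz)
      have h2 := conj_mem_of_normalizer hg h1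
      rwa [show g * (x * (g⁻¹ * z * g) * x⁻¹ * (g⁻¹ * z * g)⁻¹) * g⁻¹ =
        g * x * g⁻¹ * z * (g * x * g⁻¹)⁻¹ * z⁻¹ by group] at h2
  exact key ⟨hx, h⟩

variable {S : Subgroup (HQ (R i))} (I : SylI τ S)
  (hEg : ∀ L : Subgroup (HQ (R i)), AA V R i j ≤ L → (∀ g ∈ E, ∀ l ∈ L, g * l * g⁻¹ ∈ L) → E ≤ L)
  (hNE : ∀ n ∈ KN V R i, ∀ x ∈ E, n * x = x * n)
include I hEg hNE

/-- **(c)** `S ∩ N₀ = 1` -/
theorem S_inf_KN {s : HQ (R i)} (hs : s ∈ S) (hs0 : s ∈ KN V R i) : s = 1 := by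
  obtain ⟨g, hg, hgV, rfl⟩ := I.rep s hs
  have hg0 := (pr_mem_KN b.toBT hg).1 hs0
  have hZD : ∀ z ∈ BTwo.ZZ V R i, g * z * g⁻¹ * z⁻¹ ∈ DD V R := fun z hz =>
    comm_mem_D b c hgV hg0 (fun a ha => KN_comm_A b hF c τ hodd hs0 ha) hz
  obtain ⟨M, B, _, _, _, _, _, p, r, f, m⟩ := exists_modQ b.toBT i
  -- `K = [rad, s]`
  let φ : M →+ M :=
    { toFun := fun x => pr (R i) ⟨g, hg⟩ • x - x
      map_zero' := by rw [smul_zero, sub_zero]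
      map_add' := fun x y => by rw [smul_add]; abel }
  set K : AddSubgroup M := m.rad.map φ with hK
  have hKr : ∀ y ∈ K, ∃ d ∈ DD V R ⊓ BTwo.ZZ V R i, y = p d := by
    rintro _ ⟨x, hx, rfl⟩
    obtain ⟨z, hz, rfl⟩ := (m.mem_rad b.toBT).1 hx
    refine ⟨g * z * g⁻¹ * z⁻¹, mem_inf.2 ⟨hZD z hz, mul_mem
      (conj_mem_of_normalizer (LemNS.N_le_NZ i hg) hz) (inv_mem hz)⟩, ?_⟩
    change pr (R i) ⟨g, hg⟩ • p z - p z = _
    have hzW : z ∈ WW V (R i) := hz.1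
    have h1 := conj_mem_of_normalizer (normalizer_le_WW V (R i) hg) hzW
    rw [m.act hg hzW, m.p_mul _ h1 _ (inv_mem hzW), m.p_inv hzW, sub_eq_add_neg]
  have hEK : ∀ x ∈ E, ∀ y ∈ K, x • y ∈ K := by
    rintro x hx _ ⟨y, hy, rfl⟩
    refine ⟨x • y, m.smul_rad b.toBT (hE0 hx) hy, ?_⟩
    change pr (R i) ⟨g, hg⟩ • x • y - x • y = x • (pr (R i) ⟨g, hg⟩ • y - y)
    rw [smul_sub, smul_smul, smul_smul, hNE _ hs0 x hx]
  have hAK : ∀ a ∈ AA V R i j, ∀ y ∈ K, a • y = y := by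
    intro a ha y hy
    obtain ⟨d, hd, rfl⟩ := hKr y hy
    obtain ⟨u, hu, rfl⟩ := (mem_AA b.toBT).1 ha
    obtain ⟨r', hr', h1⟩ := b.cen_DW (mem_inf.1 hd).1 (mem_inf.1 hd).2.2
    have hdW : d ∈ WW V (R i) := D_le_W V R i (mem_inf.1 hd).1
    have huN := U_le_N b.toBT i j hu
    rw [m.act huN hdW, m.p_eq_iff (conj_mem_of_normalizer (normalizer_le_WW V (R i) huN) hdW) hdW]
    have c1 : Commute u (r' * d) := LemNS.CenX_comm (W_le_X V R j (UU_le_WW j hu)) h1.2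
    have c2 : Commute u r' := (mem_centralizer_iff.1 (UU_le_cen j hu) r' (b.R_le i hr')).symm
    have c3 : Commute u d := by
      have h3 := c2.inv_right.mul_right c1
      rwa [inv_mul_cancel_left] at h3
    rw [c3.eq, mul_inv_cancel_right, mul_inv_cancel]
    exact one_mem _
  -- `E` centralises `K`
  have hE : ∀ x ∈ E, ∀ y ∈ K, x • y = y := by
    let L : Subgroup (HQ (R i)) :=
      { carrier := {x | ∀ y ∈ K, x • y = y}
        one_mem' := fun y _ => one_smul _ y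
        mul_mem' := fun {x x'} hx hx' y hy => by rw [mul_smul, hx' y hy, hx y hy]
        inv_mem' := fun {x} hx y hy => by rw [inv_smul_eq_iff, hx y hy] }
    have hL : E ≤ L := hEg L (fun a ha => hAK a ha) fun x hx l hl y hy => by
      have h1 : x⁻¹ • y ∈ K := hEK _ (inv_mem hx) y hy
      rw [mul_smul, mul_smul, hl _ h1, smul_inv_smul]
    exact fun x hx => hL hx
  -- `K = 0`
  have hK0 : ∀ y ∈ K, y = 0 := by
    intro y hy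
    obtain ⟨d, hd, rfl⟩ := hKr y hy
    have hdW : d ∈ WW V (R i) := (mem_inf.1 hd).2.1
    rw [m.p_ker d hdW]
    refine cen_rad b hF c τ hodd hEn hAE hE0 hEp ⟨(mem_inf.1 hd).2, fun x hx => ?_⟩
    obtain ⟨hxN, hxE⟩ := mem_lift.1 hx
    have h1 := hE _ hxE _ hy
    rwa [m.act hxN hdW, m.p_eq_iff (conj_mem_of_normalizer (normalizer_le_WW V (R i) hxN) hdW) hdW] at h1
  rw [pr_eq_one]
  refine N0_le_Q b hg0 fun z hz => ?_
  have hzW : z ∈ WW V (R i) := hz.1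
  have h1 := hK0 _ ⟨p z, (m.mem_rad b.toBT).2 ⟨z, hz, rfl⟩, rfl⟩
  change pr (R i) ⟨g, hg⟩ • p z - p z = 0 at h1
  rwa [sub_eq_zero, m.act hg hzW,
    m.p_eq_iff (conj_mem_of_normalizer (normalizer_le_WW V (R i) hg) hzW) hzW] at h1

/-- **(c)** a 2-subgroup of `N₀` is trivial -/
theorem KN_two {P : Subgroup (HQ (R i))} (hP : IsPGroup 2 P) (hPN : P ≤ KN V R i) : P = ⊥ := by
  have h1 : S ⊓ KN V R i = ⊥ := (Subgroup.eq_bot_iff_forall _).2 fun x hx =>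
    S_inf_KN b hF c τ hodd hEn hAE hE0 hEp I hEg hNE hx.1 hx.2
  have h2 : P ≤ S := I.syl _ (Normal.isSubnormal (KN_normal V R i)) KN_le_H0 P hPN hP (by rw [h1]; exact bot_le)
  rw [eq_bot_iff, ← h1]
  exact le_inf h2 hPN

/-- **(c)** `N₀` has odd order -/
theorem KN_odd : Odd (Nat.card (KN V R i)) := by
  rw [← Nat.not_even_iff_odd, even_iff_two_dvd]
  intro h2
  obtain ⟨x, hx⟩ := exists_prime_orderOf_dvd_card' 2 h2
  have h1 : zpowers (x : HQ (R i)) = ⊥ := by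
    refine KN_two b hF c τ hodd hEn hAE hE0 hEp I hEg hNE ?_ (zpowers_le.2 x.2)
    rw [IsPGroup.iff_card]
    refine ⟨1, ?_⟩
    rw [Nat.card_zpowers, Subgroup.orderOf_coe, hx, pow_one]
  rw [zpowers_eq_bot] at h1
  have h4 : x = 1 := Subtype.ext h1
  rw [h4, orderOf_one] at hx
  exact absurd hx (by norm_num)

end main

end Cfsg.Agent.Omega.HOneQ.ECen
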