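import Cfsg.Agent.Omega.Lie.Nodes.Apt

/-!
# II.0h1, split, `q ≥ 4`: `z z^{m₀}` is trivial on `W_N / R_i Ψ`, abstract part

`A` elementary abelian, `S, V, V', D ≤ A`, `A = V' D`, `z` acts on `V`, `V'` mod `S` without fixed points and trivially on
`D / V`; `m₀` interchanges `V` and `V'`.  Then `m₀ z m₀⁻¹` is trivial on `C_A(z)` mod `S`.
-/

set_option autoImplicit false
set_option linter.unusedSectionVars false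

namespace Cfsg.Agent.Omega.HOneQ.KerO

open Subgroup Cfsg.Agent.Omega.BTwo

variable {G : Type*} [Group G]

/-- `[g, ·]` is a homomorphism on an abelian group normalised by `g` -/
theorem cm_mul {A : Subgroup G} (hA : ∀ x ∈ A, ∀ y ∈ A, x * y = y * x) {g : G} (hg : ∀ x ∈ A, g * x * g⁻¹ ∈ A)
    {x y : G} (hx : x ∈ A) (hy : y ∈ A) :
    g * (x * y) * g⁻¹ * (x * y)⁻¹ = (g * x * g⁻¹ * x⁻¹) * (g * y * g⁻¹ * y⁻¹) := by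
  have h1 := hA x hx (g * y * g⁻¹ * y⁻¹) (mul_mem (hg y hy) (inv_mem hy))
  calc g * (x * y) * g⁻¹ * (x * y)⁻¹ = (g * x * g⁻¹ * x⁻¹) * (x * (g * y * g⁻¹ * y⁻¹)) * x⁻¹ := by group
    _ = _ := by rw [h1]; group

theorem cm_inv {A : Subgroup G} (hA : ∀ x ∈ A, ∀ y ∈ A, x * y = y * x) {g : G} (hg : ∀ x ∈ A, g * x * g⁻¹ ∈ A)
    {x : G} (hx : x ∈ A) : g * x⁻¹ * g⁻¹ * x⁻¹⁻¹ = (g * x * g⁻¹ * x⁻¹)⁻¹ := by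
  have h1 := cm_mul hA hg (inv_mem hx) hx
  have e : g * (x⁻¹ * x) * g⁻¹ * (x⁻¹ * x)⁻¹ = 1 := by group
  rw [e] at h1
  exact eq_inv_of_mul_eq_one_left h1.symm

/-- `{x ∈ A | [g, x] ∈ S}` -/
def fx (A S : Subgroup G) (hA : ∀ x ∈ A, ∀ y ∈ A, x * y = y * x) (g : G) (hg : ∀ x ∈ A, g * x * g⁻¹ ∈ A) :
    Subgroup G where
  carrier := {x | x ∈ A ∧ g * x * g⁻¹ * x⁻¹ ∈ S}
  one_mem' := ⟨one_mem _, by rw [show g * 1 * g⁻¹ * 1⁻¹ = 1 by group]; exact one_mem _⟩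
  mul_mem' := by
    rintro x y ⟨hx, h1⟩ ⟨hy, h2⟩
    refine ⟨mul_mem hx hy, ?_⟩
    rw [cm_mul hA hg hx hy]
    exact mul_mem h1 h2
  inv_mem' := by
    rintro x ⟨hx, h1⟩
    refine ⟨inv_mem hx, ?_⟩
    rw [cm_inv hA hg hx]
    exact inv_mem h1

theorem mem_fx {A S : Subgroup G} {hA : ∀ x ∈ A, ∀ y ∈ A, x * y = y * x} {g : G} {hg : ∀ x ∈ A, g * x * g⁻¹ ∈ A}
    {x : G} : x ∈ fx A S hA g hg ↔ x ∈ A ∧ g * x * g⁻¹ * x⁻¹ ∈ S := Iff.rfl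

/-- the data -/
structure Wt (A S V V' D : Subgroup G) (z m0 : G) : Prop where
  comm : ∀ x ∈ A, ∀ y ∈ A, x * y = y * x
  SD : S ≤ D
  VD : V ≤ D
  DA : D ≤ A
  V'A : V' ≤ A
  fact : ∀ x ∈ A, ∃ l ∈ V', ∃ d ∈ D, x = l * d
  cap : ∀ x ∈ V', x ∈ D → x ∈ S
  zA : ∀ x ∈ A, z * x * z⁻¹ ∈ A
  zS : ∀ x ∈ S, z * x * z⁻¹ ∈ S
  zV' : ∀ x ∈ V', z * x * z⁻¹ ∈ V'
  zD : ∀ d ∈ D, z * d * z⁻¹ * d⁻¹ ∈ V
  z_inj : ∀ x ∈ V, z * x * z⁻¹ * x⁻¹ ∈ S → x ∈ S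
  z_inj' : ∀ x ∈ V', z * x * z⁻¹ * x⁻¹ ∈ S → x ∈ S
  z_sur : ∀ x ∈ V, ∃ y ∈ V, z * y * z⁻¹ * y⁻¹ * x ∈ S
  z_sur' : ∀ x ∈ V', ∃ y ∈ V', z * y * z⁻¹ * y⁻¹ * x ∈ S
  mA : m0 ∈ normalizer (A : Set G)
  mS : m0 ∈ normalizer (S : Set G)
  mV : ∀ x, x ∈ V ↔ m0 * x * m0⁻¹ ∈ V'
  mV' : ∀ x, x ∈ V' ↔ m0 * x * m0⁻¹ ∈ V
  /-- `m₀ z m₀⁻¹` normalises `D` -/
  mD : ∀ d ∈ D, (m0 * z * m0⁻¹) * d * (m0 * z * m0⁻¹)⁻¹ ∈ D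
  /-- `m₀⁻¹ z m₀` normalises `D` -/
  mD' : ∀ d ∈ D, (m0⁻¹ * z * m0) * d * (m0⁻¹ * z * m0)⁻¹ ∈ D

namespace Wt

variable {A S V V' D : Subgroup G} {z m0 : G} (w : Wt A S V V' D z m0)
include w

theorem SA : S ≤ A := w.SD.trans w.DA

theorem VA : V ≤ A := w.VD.trans w.DA

theorem zetaA : ∀ x ∈ A, (m0 * z * m0⁻¹) * x * (m0 * z * m0⁻¹)⁻¹ ∈ A := by
  intro x hx
  have h1 := w.zA _ (conj_inv_mem_of_normalizer w.mA hx)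
  have h2 := BTwo.conj_mem_of_normalizer w.mA h1
  have e : (m0 * z * m0⁻¹) * x * (m0 * z * m0⁻¹)⁻¹ = m0 * (z * (m0⁻¹ * x * m0) * z⁻¹) * m0⁻¹ := by group
  rw [e]; exact h2

theorem zeta_eq (x : G) : (m0 * z * m0⁻¹) * x * (m0 * z * m0⁻¹)⁻¹ * x⁻¹ =
    m0 * (z * (m0⁻¹ * x * m0) * z⁻¹ * (m0⁻¹ * x * m0)⁻¹) * m0⁻¹ := by
  have _ := w
  group

/-- `[z, A] ≤ V' V` -/
theorem z_all {x : G} (hx : x ∈ A) : ∃ l ∈ V', ∃ v ∈ V, z * x * z⁻¹ * x⁻¹ = l * v := by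
  obtain ⟨l, hl, d, hd, rfl⟩ := w.fact x hx
  rw [cm_mul w.comm w.zA (w.V'A hl) (w.DA hd)]
  exact ⟨_, mul_mem (w.zV' l hl) (inv_mem hl), _, w.zD d hd, rfl⟩

/-- (1) `C_z ≤ D` -/
theorem Cz_le {x : G} (hx : x ∈ A) (h : z * x * z⁻¹ * x⁻¹ ∈ S) : x ∈ D := by
  obtain ⟨l, hl, d, hd, rfl⟩ := w.fact x hx
  rw [cm_mul w.comm w.zA (w.V'A hl) (w.DA hd)] at h
  have h1 : z * l * z⁻¹ * l⁻¹ ∈ S := by
    refine w.cap _ (mul_mem (w.zV' l hl) (inv_mem hl)) ?_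
    have h2 := mul_mem (w.SD h) (inv_mem (w.VD (w.zD d hd)))
    rwa [mul_inv_cancel_right] at h2
  exact mul_mem (w.SD (w.z_inj' l hl h1)) hd

/-- (1') `C_ζ ≤ D^{m₀}` -/
theorem Cζ_le {x : G} (hx : x ∈ A) (h : (m0 * z * m0⁻¹) * x * (m0 * z * m0⁻¹)⁻¹ * x⁻¹ ∈ S) :
    m0⁻¹ * x * m0 ∈ D := by
  rw [w.zeta_eq] at h
  have h1 := conj_inv_mem_of_normalizer w.mS h
  rw [show m0⁻¹ * (m0 * (z * (m0⁻¹ * x * m0) * z⁻¹ * (m0⁻¹ * x * m0)⁻¹) * m0⁻¹) * m0 =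
    z * (m0⁻¹ * x * m0) * z⁻¹ * (m0⁻¹ * x * m0)⁻¹ by group] at h1
  exact w.Cz_le (conj_inv_mem_of_normalizer w.mA hx) h1

/-- `m₀⁻¹ V m₀ = V'` -/
theorem mV_inv {x : G} (hx : x ∈ V) : m0⁻¹ * x * m0 ∈ V' := by
  rw [w.mV' (m0⁻¹ * x * m0), show m0 * (m0⁻¹ * x * m0) * m0⁻¹ = x by group]
  exact hx

theorem mV'_inv {x : G} (hx : x ∈ V') : m0⁻¹ * x * m0 ∈ V := by
  rw [w.mV (m0⁻¹ * x * m0), show m0 * (m0⁻¹ * x * m0) * m0⁻¹ = x by group]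
  exact hx

/-- (2) `[ζ, D] ≤ V S` -/
theorem zeta_D {d : G} (hd : d ∈ D) :
    ∃ v ∈ V, v⁻¹ * ((m0 * z * m0⁻¹) * d * (m0 * z * m0⁻¹)⁻¹ * d⁻¹) ∈ S := by
  obtain ⟨l, hl, v, hv, e⟩ := w.z_all (conj_inv_mem_of_normalizer w.mA (w.DA hd))
  have e1 : (m0 * z * m0⁻¹) * d * (m0 * z * m0⁻¹)⁻¹ * d⁻¹ = (m0 * l * m0⁻¹) * (m0 * v * m0⁻¹) := by
    rw [w.zeta_eq, e]; group
  have h1 : m0 * l * m0⁻¹ ∈ V := (w.mV' l).1 hl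
  have h2 : m0 * v * m0⁻¹ ∈ V' := (w.mV v).1 hv
  refine ⟨_, h1, ?_⟩
  have h3 : (m0 * l * m0⁻¹)⁻¹ * ((m0 * z * m0⁻¹) * d * (m0 * z * m0⁻¹)⁻¹ * d⁻¹) = m0 * v * m0⁻¹ := by
    rw [e1, inv_mul_cancel_left]
  have h4 : m0 * v * m0⁻¹ ∈ D := by
    rw [← h3]
    exact mul_mem (inv_mem (w.VD h1)) (mul_mem (w.mD d hd) (inv_mem hd))
  rw [h3]
  exact w.cap _ h2 h4

/-- (2') `[z, D^{m₀}] ≤ V' S` -/
theorem z_D' {x : G} (hx : x ∈ A) (hd : m0⁻¹ * x * m0 ∈ D) : ∃ l ∈ V', l⁻¹ * (z * x * z⁻¹ * x⁻¹) ∈ S := by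
  obtain ⟨l, hl, v, hv, e⟩ := w.z_all hx
  refine ⟨l, hl, ?_⟩
  rw [e, inv_mul_cancel_left]
  have h1 : m0⁻¹ * v * m0 ∈ V' := w.mV_inv hv
  have h2 : m0⁻¹ * v * m0 ∈ D := by
    have e1 : v = l⁻¹ * (z * x * z⁻¹ * x⁻¹) := by rw [e, inv_mul_cancel_left]
    have e2 : m0⁻¹ * v * m0 = (m0⁻¹ * l * m0)⁻¹ *
        (((m0⁻¹ * z * m0) * (m0⁻¹ * x * m0) * (m0⁻¹ * z * m0)⁻¹) * (m0⁻¹ * x * m0)⁻¹) := by
      rw [e1]; group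
    rw [e2]
    exact mul_mem (inv_mem (w.VD (w.mV'_inv hl))) (mul_mem (w.mD' _ hd) (inv_mem hd))
  have h3 := BTwo.conj_mem_of_normalizer w.mS (w.cap _ h1 h2)
  rwa [show m0 * (m0⁻¹ * v * m0) * m0⁻¹ = v by group] at h3

/-- `ζ` is surjective on `V / S` -/
theorem zeta_sur {x : G} (hx : x ∈ V) : ∃ y ∈ V, (m0 * z * m0⁻¹) * y * (m0 * z * m0⁻¹)⁻¹ * y⁻¹ * x ∈ S := by
  obtain ⟨y, hy, h1⟩ := w.z_sur' _ (w.mV_inv hx)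
  refine ⟨m0 * y * m0⁻¹, (w.mV' y).1 hy, ?_⟩
  have h2 := BTwo.conj_mem_of_normalizer w.mS h1
  have e : (m0 * z * m0⁻¹) * (m0 * y * m0⁻¹) * (m0 * z * m0⁻¹)⁻¹ * (m0 * y * m0⁻¹)⁻¹ * x =
      m0 * (z * y * z⁻¹ * y⁻¹ * (m0⁻¹ * x * m0)) * m0⁻¹ := by group
  rw [e]; exact h2

theorem zetaS {x : G} (hx : x ∈ S) : (m0 * z * m0⁻¹) * x * (m0 * z * m0⁻¹)⁻¹ ∈ S := by
  have h1 := BTwo.conj_mem_of_normalizer w.mS (w.zS _ (conj_inv_mem_of_normalizer w.mS hx))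
  have e : (m0 * z * m0⁻¹) * x * (m0 * z * m0⁻¹)⁻¹ = m0 * (z * (m0⁻¹ * x * m0) * z⁻¹) * m0⁻¹ := by group
  rw [e]; exact h1

/-- **(3) `ζ` is trivial on `C_z` mod `S`** -/
theorem Cz_Cζ {x : G} (hx : x ∈ A) (h : z * x * z⁻¹ * x⁻¹ ∈ S) :
    (m0 * z * m0⁻¹) * x * (m0 * z * m0⁻¹)⁻¹ * x⁻¹ ∈ S := by
  have hζ := w.zetaA
  have hxD := w.Cz_le hx h
  obtain ⟨v, hv, h1⟩ := w.zeta_D hxD
  obtain ⟨v0, hv0, h2⟩ := w.zeta_sur hv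
  have hv0A := w.VA hv0
  set x0 := x * v0 with hx0
  have hx0A : x0 ∈ A := mul_mem hx hv0A
  have h3 : x0 ∈ fx A S w.comm _ hζ := by
    refine ⟨hx0A, ?_⟩
    rw [hx0, cm_mul w.comm hζ hx hv0A]
    set a := (m0 * z * m0⁻¹) * x * (m0 * z * m0⁻¹)⁻¹ * x⁻¹ with ha
    set b := (m0 * z * m0⁻¹) * v0 * (m0 * z * m0⁻¹)⁻¹ * v0⁻¹ with hb
    have haA : a ∈ A := mul_mem (hζ x hx) (inv_mem hx)
    have hbA : b ∈ A := mul_mem (hζ v0 hv0A) (inv_mem hv0A)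
    have h4 := mul_mem h2 h1
    have e : a * b = b * v * (v⁻¹ * a) := by
      rw [w.comm a haA b hbA]; group
    rw [e]
    exact h4
  have h4 := w.Cζ_le hx0A h3.2
  obtain ⟨l, hl, h5⟩ := w.z_D' hx0A h4
  obtain ⟨l0, hl0, h6⟩ := w.z_sur' l hl
  have hl0A := w.V'A hl0
  have h7 : x0 * l0 ∈ fx A S w.comm _ w.zA := by
    refine ⟨mul_mem hx0A hl0A, ?_⟩
    rw [cm_mul w.comm w.zA hx0A hl0A]
    set a := z * x0 * z⁻¹ * x0⁻¹ with ha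
    set b := z * l0 * z⁻¹ * l0⁻¹ with hb
    have haA : a ∈ A := mul_mem (w.zA x0 hx0A) (inv_mem hx0A)
    have hbA : b ∈ A := mul_mem (w.zA l0 hl0A) (inv_mem hl0A)
    have e : a * b = b * l * (l⁻¹ * a) := by
      rw [w.comm a haA b hbA]; group
    rw [e]
    exact mul_mem h6 h5
  have h8 := w.Cz_le h7.1 h7.2
  have hx0D : x0 ∈ D := mul_mem hxD (w.VD hv0)
  have h9 : l0 ∈ S := by
    refine w.cap l0 hl0 ?_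
    have := mul_mem (inv_mem hx0D) h8
    rwa [inv_mul_cancel_left] at this
  have h10 : l0 ∈ fx A S w.comm _ w.zA := ⟨hl0A, mul_mem (w.zS l0 h9) (inv_mem h9)⟩
  have h11 : v0 ∈ fx A S w.comm _ w.zA := by
    have e : v0 = x⁻¹ * (x0 * l0) * l0⁻¹ := by rw [hx0]; group
    rw [e]
    exact mul_mem (mul_mem (inv_mem (show x ∈ fx A S w.comm _ w.zA from ⟨hx, h⟩)) h7) (inv_mem h10)
  have h12 := w.z_inj v0 hv0 h11.2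
  have h13 : v0 ∈ fx A S w.comm _ hζ := ⟨hv0A, mul_mem (w.zetaS h12) (inv_mem h12)⟩
  have h14 := mul_mem h3 (inv_mem h13)
  rw [hx0, mul_inv_cancel_right] at h14
  exact h14.2

/-- **(4) `z ζ` is trivial on `A / S`**, if it is trivial on `V / S` and `V' / S` -/
theorem diag (hV : ∀ x ∈ V, (z * (m0 * z * m0⁻¹)) * x * (z * (m0 * z * m0⁻¹))⁻¹ * x⁻¹ ∈ S)
    (hV' : ∀ x ∈ V', (z * (m0 * z * m0⁻¹)) * x * (z * (m0 * z * m0⁻¹))⁻¹ * x⁻¹ ∈ S) {x : G} (hx : x ∈ A) :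
    (z * (m0 * z * m0⁻¹)) * x * (z * (m0 * z * m0⁻¹))⁻¹ * x⁻¹ ∈ S := by
  have hA : ∀ x ∈ A, (z * (m0 * z * m0⁻¹)) * x * (z * (m0 * z * m0⁻¹))⁻¹ ∈ A := by
    intro x hx
    have h1 := w.zA _ (w.zetaA x hx)
    have e : (z * (m0 * z * m0⁻¹)) * x * (z * (m0 * z * m0⁻¹))⁻¹ =
        z * ((m0 * z * m0⁻¹) * x * (m0 * z * m0⁻¹)⁻¹) * z⁻¹ := by group
    rw [e]; exact h1
  obtain ⟨l, hl, d, hd, rfl⟩ := w.fact x hx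
  obtain ⟨v0, hv0, h1⟩ := w.z_sur _ (w.zD d hd)
  have hdA := w.DA hd
  have hv0A := w.VA hv0
  have h2 : z * (d * v0) * z⁻¹ * (d * v0)⁻¹ ∈ S := by
    rw [cm_mul w.comm w.zA hdA hv0A, w.comm _ (mul_mem (w.zA d hdA) (inv_mem hdA)) _
      (mul_mem (w.zA v0 hv0A) (inv_mem hv0A))]
    exact h1
  have h3 := w.Cz_Cζ (mul_mem hdA hv0A) h2
  have h4 : d * v0 ∈ fx A S w.comm _ hA := by
    refine ⟨mul_mem hdA hv0A, ?_⟩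
    set ζ := m0 * z * m0⁻¹ with hζ
    have e : (z * ζ) * (d * v0) * (z * ζ)⁻¹ * (d * v0)⁻¹ =
        (z * (ζ * (d * v0) * ζ⁻¹ * (d * v0)⁻¹) * z⁻¹) * (z * (d * v0) * z⁻¹ * (d * v0)⁻¹) := by group
    rw [e]
    exact mul_mem (w.zS _ h3) h2
  have h5 : l * d ∈ fx A S w.comm _ hA := by
    have e : l * d = l * (d * v0) * v0⁻¹ := by group
    rw [e]
    exact mul_mem (mul_mem (show l ∈ fx A S w.comm _ hA from ⟨w.V'A hl, hV' l hl⟩) h4)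
      (inv_mem (show v0 ∈ fx A S w.comm _ hA from ⟨hv0A, hV v0 hv0⟩))
  exact h5.2

end Wt

end Cfsg.Agent.Omega.HOneQ.KerO
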