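import Cfsg.Agent.Omega.HOne.EigOf
import Cfsg.Agent.Omega.HOneQ.ResW
import Cfsg.Agent.Omega.Lie.Nodes.NodeAbsTwo

/-!
# II.0h1, split, `q ≥ 4`: the frame `NodeFr` of the node theorem for a node `P` (`Nd`, #15939 (N))

`M = W i / Z(W i)` (helper811's `Fq`, `EigAbs.Eig`), `P` a node (`Nd`), normalised by the torus.
-/

set_option autoImplicit false
set_option linter.unusedSectionVars false

namespace Cfsg.Agent.Omega.HOneQ.NodeQ

open Subgroup Cfsg.Agent.Omega.BTwo Cfsg.Agent.Omega.Lie Cfsg.Agent.Omega.Lie.Quot Cfsg.Agent.Omega.HOne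
  Cfsg.Agent.Omega.HOne.ModZ Cfsg.Agent.Omega.Lie.Nodes

universe u v w

variable {G : Type u} [Group G] {ι : Type w} {V : Subgroup G} {R : ι → Subgroup G} {i j : ι}
  {F : Type v} [Field F] {v : F → F → G} {w1 w2 t : F → G}
  {M : Type u} [AddCommGroup M] [Module F M] [DistribMulAction (HQ (R i)) M] {p : G → M}
  {f : M →ₗ[F] M →ₗ[F] F} {e : F →ₗ[F] M} {ω : M →ₗ[F] F} {σ : HQ (R i) →* RingAut F} {κ : HQ (R i) → F}
  [Finite G] {P : Subgroup G}

/-- the element of `H` induced by `x ∈ N(R i)` -/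
abbrev π (R : ι → Subgroup G) (i : ι) {x : G} (hx : x ∈ normalizer (R i : Set G)) : HQ (R i) := pr (R i) ⟨x, hx⟩

section line

variable (q : Fq V R i v M p f e ω σ κ) (c : Coord V R i j v w1 w2)
include q c

theorem e_smul (γ : F) : e γ = γ • e 1 := by rw [← map_smul, smul_eq_mul, mul_one]

theorem e1_ne (b : BT V R) : e 1 ≠ 0 := fun h => one_ne_zero (q.e_inj c b (h.trans (map_zero e).symm))

/-- `C(R i)` acts linearly -/
theorem cen_smul {x : G} (hx : x ∈ centralizer (R i : Set G)) (hN : x ∈ normalizer (R i : Set G)) (a : F) (m : M) :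
    π R i hN • (a • m) = a • (π R i hN • m) :=
  q.H0_smul c (pr_mem_im hN hx) a m

/-- the image of the line `V^x` -/
theorem p_line {x : G} (hx : x ∈ centralizer (R i : Set G)) (hN : x ∈ normalizer (R i : Set G)) (β γ : F) :
    p (x * v β γ * x⁻¹) = γ • (π R i hN • e 1) := by
  rw [← q.p_act x hN _ (q.hvW c β γ), q.e_eq, e_smul q c, cen_smul q c hx]

/-- lines and points, `P` a node -/
theorem line_iff (b : BTS V R) (nd : Nd V R i j P) {x x' : G} (hx : x ∈ P) (hx' : x' ∈ P) :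
    cj x V = cj x' V ↔ ∃ a : F, π R i (nd.P_le_N hx) • e 1 = a • (π R i (nd.P_le_N hx') • e 1) := by
  constructor
  · intro h
    have h1 : x * v 0 1 * x⁻¹ ∈ cj x' V := by
      rw [← h]
      exact conj_mem_cj (c.v_mem 0 1)
    obtain ⟨β, γ, h2⟩ := (c.mem_V _).1 (mem_cj.1 h1)
    have h3 : x * v 0 1 * x⁻¹ = x' * v β γ * x'⁻¹ := by rw [h2]; group
    refine ⟨γ, ?_⟩
    have h4 := p_line q c (nd.PR hx) (nd.P_le_N hx) 0 1
    rw [h3, p_line q c (nd.PR hx') (nd.P_le_N hx'), one_smul] at h4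
    exact h4.symm
  · rintro ⟨a, ha⟩
    apply nd.inj b hx hx'
    intro z hz
    obtain ⟨β, γ, h2⟩ := (c.mem_V _).1 (mem_cj.1 hz)
    have h3 : z = x * v β γ * x⁻¹ := by rw [h2]; group
    have h4 : p z = p (x' * v 0 (γ * a) * x'⁻¹) := by
      rw [h3, p_line q c (nd.PR hx) (nd.P_le_N hx), p_line q c (nd.PR hx') (nd.P_le_N hx'), ha, smul_smul]
    have hz1 : z ∈ WW V (R i) := nd.line_le hx hz
    have hz2 : x' * v 0 (γ * a) * x'⁻¹ ∈ cj x' V := conj_mem_cj (c.v_mem _ _)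
    have h5 := (q.toMZ.p_eq_iff hz1 (nd.line_le hx' hz2)).1 h4
    have h6 : z = z * (x' * v 0 (γ * a) * x'⁻¹)⁻¹ * (x' * v 0 (γ * a) * x'⁻¹) := by group
    rw [h6]
    exact mul_mem ((le_sup_right : ZZ V R i ≤ _) h5) ((le_sup_left : cj x' V ≤ _) hz2)

/-- the line `V` -/
theorem V_iff (b : BTS V R) (nd : Nd V R i j P) {x : G} (hx : x ∈ P) :
    cj x V = V ↔ ∃ a : F, π R i (nd.P_le_N hx) • e 1 = a • e 1 := by
  have h1 := line_iff q c b nd hx (one_mem P)
  rw [cj_one] at h1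
  rw [h1]
  have h2 : π R i (nd.P_le_N (one_mem P)) = 1 := map_one _
  rw [h2, one_smul]

theorem om_ne_V (b : BTS V R) (nd : Nd V R i j P) {m : M} {x : G} (hx : x ∈ P) {a : F}
    (hm : m = a • (π R i (nd.P_le_N hx) • e 1)) (h : ∀ a : F, m ≠ a • e 1) : cj x V ≠ V := by
  intro hV
  obtain ⟨a', h1⟩ := (V_iff q c b nd hx).1 hV
  exact h (a * a') (by rw [hm, h1, smul_smul])

end line

section frame

variable {N : Type u} [AddCommGroup N] [Module F N] {P1 P2 : G → N} [Finite F] [CharP F 2]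
variable (q : Fq V R i v M p f e ω σ κ) (b : BTS V R) (c : Coord V R i j v w1 w2) (τ : TorD V R i j v t)
  (y : YPair V R i j w1 w2 N P1 P2) (hF : ∃ a : F, a ≠ 0 ∧ a ≠ 1)

/-- the torus element in `H` -/
def tQ (τ : TorD V R i j v t) (a : Fˣ) : HQ (R i) := π R i (τ.normR a.ne_zero)

theorem tQ_mul (a a' : Fˣ) : tQ τ (a * a') = tQ τ a * tQ τ a' := by
  unfold tQ π
  rw [← map_mul]
  congr 1
  exact Subtype.ext (τ.mul a a' a.ne_zero a'.ne_zero)

theorem tQ_one : tQ τ 1 = 1 := by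
  have h := tQ_mul τ 1 1
  rw [mul_one] at h
  exact left_eq_mul.1 h

theorem tQ_inv (a : Fˣ) : (tQ τ a)⁻¹ = tQ τ a⁻¹ := by
  rw [inv_eq_iff_mul_eq_one, ← tQ_mul, mul_inv_cancel, tQ_one]

/-- `t a` normalises the image of `P` -/
theorem tQ_conj (tP : ∀ a, a ≠ 0 → t a ∈ normalizer (P : Set G)) (a : Fˣ) {x : HQ (R i)} (hx : x ∈ im (R i) P) :
    tQ τ a * x * (tQ τ a)⁻¹ ∈ im (R i) P := by
  obtain ⟨g, hN, hg, rfl⟩ := mem_im.1 hx
  have h1 : t a * g * (t a)⁻¹ ∈ P := conj_mem_of_normalizer (tP a a.ne_zero) hg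
  have h2 : t a * g * (t a)⁻¹ ∈ normalizer (R i : Set G) :=
    mul_mem (mul_mem (τ.normR a.ne_zero) hN) (inv_mem (τ.normR a.ne_zero))
  have h3 : tQ τ a * pr (R i) ⟨g, hN⟩ * (tQ τ a)⁻¹ = pr (R i) ⟨_, h2⟩ := by
    unfold tQ π
    rw [← map_inv, ← map_mul, ← map_mul]
    rfl
  rw [h3]
  exact pr_mem_im h2 h1

/-- the group `P T` in `H` -/
def KQ (τ : TorD V R i j v t) (P : Subgroup G) (tP : ∀ a, a ≠ 0 → t a ∈ normalizer (P : Set G)) :
    Subgroup (HQ (R i)) where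
  carrier := {g | ∃ x ∈ im (R i) P, ∃ a : Fˣ, g = x * tQ τ a}
  one_mem' := ⟨1, one_mem _, 1, by rw [tQ_one, mul_one]⟩
  mul_mem' := by
    rintro _ _ ⟨x, hx, a, rfl⟩ ⟨x', hx', a', rfl⟩
    refine ⟨x * (tQ τ a * x' * (tQ τ a)⁻¹), mul_mem hx (tQ_conj τ tP a hx'), a * a', ?_⟩
    rw [tQ_mul]
    group
  inv_mem' := by
    rintro _ ⟨x, hx, a, rfl⟩
    refine ⟨tQ τ a⁻¹ * x⁻¹ * (tQ τ a⁻¹)⁻¹, tQ_conj τ tP a⁻¹ (inv_mem hx), a⁻¹, ?_⟩
    rw [mul_inv_rev, tQ_inv]
    group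

variable {π' : LinearMap.ker ω →ₗ[F] N ⧸ N0 b.toBT c y} {M0 : Submodule F M} {n : N →ₗ[F] M}
  {s : N →ₗ[F] N →ₗ[F] M} {sh : N → N →ₗ[F] F}
  (E : EigAbs.Eig f e ω (q.TL c τ) (q.DS b.toBT c τ y hF) (N0 b.toBT c y) π' (q.AL b.toBT c y) M0 n s sh)
include E

theorem s_ker {g : N} (hg : g ∈ N0 b.toBT c y) : s g = 0 := by
  refine LinearMap.ext fun k => E.inj _ (E.s_mem g k) fun h => ?_
  rw [E.T_13, (E.n_ker g).2 hg, map_zero]

theorem sh_ker {g : N} (hg : g ∈ N0 b.toBT c y) (k : N) : sh k g = 0 := by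
  have h1 := E.A_1 k g
  rw [(E.n_ker g).2 hg, map_zero, s_ker q b c τ y hF E hg, LinearMap.zero_apply, zero_add] at h1
  exact q.e_inj c b.toBT (h1.symm.trans (map_zero e).symm)

/-- `n` on `N / N₀` -/
def nQ : (N ⧸ N0 b.toBT c y) →ₗ[F] M :=
  (N0 b.toBT c y).liftQ n fun g hg => LinearMap.mem_ker.2 ((E.n_ker g).2 hg)

/-- `s` on `N / N₀` -/
def sQ : (N ⧸ N0 b.toBT c y) →ₗ[F] N →ₗ[F] M :=
  (N0 b.toBT c y).liftQ s fun g hg => LinearMap.mem_ker.2 (s_ker q b c τ y hF E hg)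

/-- `sh` on `N / N₀` -/
def shQ (k : N) : (N ⧸ N0 b.toBT c y) →ₗ[F] F :=
  (N0 b.toBT c y).liftQ (sh k) fun g hg => LinearMap.mem_ker.2 (sh_ker q b c τ y hF E hg k)

theorem nQ_mk (g : N) : nQ q b c τ y hF E ((N0 b.toBT c y).mkQ g) = n g := rfl

theorem sQ_mk (g : N) : sQ q b c τ y hF E ((N0 b.toBT c y).mkQ g) = s g := rfl

theorem shQ_mk (k g : N) : shQ q b c τ y hF E k ((N0 b.toBT c y).mkQ g) = sh k g := rfl

/-- **the frame of the node theorem in `II.0h1`** -/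
theorem nodeFr (nd : Nd V R i j P) (tP : ∀ a, a ≠ 0 → t a ∈ normalizer (P : Set G)) :
    NodeFr (e 1) ω M0 (nQ q b c τ y hF E) (tQ τ) (fun k => al b.toBT y k) (fun k d => f d (n k))
      (sQ q b c τ y hF E) (fun k g => shQ q b c τ y hF E k g) (im (R i) P) (KQ τ P tP) := by
  have hTL : ∀ (a : Fˣ) (m : M), q.TL c τ a m = tQ τ a • m := fun a m => rfl
  have hAL : ∀ (k : N) (m : M), q.AL b.toBT c y k m = al b.toBT y k • m - m := fun k m => rfl
  have hlin : ∀ x ∈ im (R i) P, ∀ (a : F) (m : M), x • a • m = a • x • m := by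
    intro x hx a m
    obtain ⟨g, hN, hg, rfl⟩ := mem_im.1 hx
    exact cen_smul q c (nd.PR hg) hN a m
  have hal : ∀ k, al b.toBT y k ∈ im (R i) P := by
    intro k
    obtain ⟨u, hN, hu, h1⟩ := mem_im.1 (al_mem b.toBT y k)
    rw [← h1]
    exact pr_mem_im hN (nd.UP hu)
  have hOm : ∀ {m : M}, Om F (im (R i) P) (e 1) m →
      ∃ (x : G) (hx : x ∈ P), ∃ a : F, a ≠ 0 ∧ m = a • (π R i (nd.P_le_N hx) • e 1) := by
    rintro m ⟨z, hz, a, ha, rfl⟩
    obtain ⟨g, hN, hg, rfl⟩ := mem_im.1 hz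
    exact ⟨g, hg, a, ha, rfl⟩
  exact
    { e_ne := e1_ne q c b.toBT
      perp := fun m hm => by
        obtain ⟨a, d, hd, g, rfl⟩ := (E.mem_P m).1 hm
        exact ⟨a, d, hd, (N0 b.toBT c y).mkQ g, by rw [nQ_mk, e_smul q c]⟩
      indep := fun a d g hd h0 => by
        obtain ⟨g, rfl⟩ := (N0 b.toBT c y).mkQ_surjective g
        rw [nQ_mk, ← e_smul q c] at h0
        obtain ⟨h1, h2, h3⟩ := E.indep a d hd g h0
        refine ⟨h1, h2, ?_⟩
        rw [Submodule.mkQ_apply, Submodule.Quotient.mk_eq_zero]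
        exact (E.n_ker g).1 h3
      T_mul := fun a a' m => by rw [tQ_mul, mul_smul]
      T_lin := fun a a' m => q.t_smul c τ a a' m
      T_e := fun a => q.t_e c τ a 1
      T_0 := fun a d hd => (E.mem_M0 d).1 hd a
      T_1 := fun a g => by
        obtain ⟨g, rfl⟩ := (N0 b.toBT c y).mkQ_surjective g
        rw [nQ_mk]
        exact E.n_T a g
      T_A := fun a k m => by
        obtain ⟨π'', Λ, h1, -, -⟩ := q.exists_pre b c τ y hF
        have h2 := h1.AT a k m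
        rw [hAL, hAL, hTL, hTL, smul_sub] at h2
        exact sub_left_inj.1 h2
      A_add := fun k k' m => by rw [al_add, mul_smul]
      A_e := fun k => by
        have h1 := E.A_e k 1
        rw [hAL, sub_eq_zero] at h1
        exact h1
      A_0 := fun k d hd => by
        have h1 := E.A_0 k d hd
        rw [hAL, e_smul q c] at h1
        rw [← h1]
        abel
      A_1 := fun k g => by
        obtain ⟨g, rfl⟩ := (N0 b.toBT c y).mkQ_surjective g
        have h1 := E.A_1 k g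
        rw [hAL, e_smul q c] at h1
        rw [nQ_mk, sQ_mk, shQ_mk, add_assoc, ← h1]
        abel
      sf_mem := fun g k => by
        obtain ⟨g, rfl⟩ := (N0 b.toBT c y).mkQ_surjective g
        exact E.s_mem g k
      l_add := fun k k' d _ => by rw [map_add, map_add]
      l_smul := fun a k d _ => by rw [map_smul, map_smul, smul_eq_mul]
      l_alt := fun g k => by
        obtain ⟨g, rfl⟩ := (N0 b.toBT c y).mkQ_surjective g
        exact E.T_alt g k
      inj := fun d hd h => E.inj d hd h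
      q_add := fun k k' g => by
        obtain ⟨g, rfl⟩ := (N0 b.toBT c y).mkQ_surjective g
        exact E.sh_add k k' g
      q_smul := fun a k g => by
        obtain ⟨g, rfl⟩ := (N0 b.toBT c y).mkQ_surjective g
        exact E.sh_smul a k g
      P_lin := hlin
      A_mem := hal
      P_le := fun x hx => ⟨x, hx, 1, by rw [tQ_one, mul_one]⟩
      T_mem := fun a => ⟨1, one_mem _, a, by rw [one_mul]⟩
      T_norm := fun a x hx => tQ_conj τ tP a hx
      D_stab := by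
        rintro _ ⟨x, hx, a, rfl⟩ ⟨a', h1⟩ d hd
        obtain ⟨g, hN, hg, rfl⟩ := mem_im.1 hx
        have h2 : tQ τ a • e 1 = (a : F)⁻¹ • e 1 := q.t_e c τ a 1
        have h3 : tQ τ a • d = d := (E.mem_M0 d).1 hd a
        rw [mul_smul, h2, hlin _ hx] at h1
        have h4 : cj g V = V := (V_iff q c b nd hg).2 ⟨(a : F) * a', by
          rw [mul_smul, ← h1, smul_inv_smul₀ a.ne_zero]⟩
        rw [mul_smul, h3]
        have h5 : d ∈ q.toMZ.sb (DD V R) := (E.mem_D d).2 ⟨0, d, hd, by rw [map_zero, zero_add]⟩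
        have h6 : pr (R i) ⟨g, hN⟩ • d ∈ q.toMZ.sb (DD V R) :=
          q.toMZ.sb_smul hN (b.toBT.NV_le_ND (cj_eq_self_iff.1 h4)) h5
        obtain ⟨γ, d', hd', h7⟩ := (E.mem_D (pr (R i) ⟨g, hN⟩ • d)).1 h6
        exact ⟨γ, d', hd', by rw [h7, e_smul q c]⟩
      tr := fun m m' hm hm' hme hme' => by
        obtain ⟨x, hx, a, ha, h1⟩ := hOm hm
        obtain ⟨x', hx', a', ha', h2⟩ := hOm hm'
        obtain ⟨u, hu, h3⟩ := nd.trans x hx (om_ne_V q c b nd hx h1 hme) x' hx' (om_ne_V q c b nd hx' h2 hme')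
        have huP := nd.UP hu
        rw [← cj_mul] at h3
        obtain ⟨a'', h4⟩ := (line_iff q c b nd (mul_mem huP hx) hx').1 h3
        refine ⟨P2 u, a * a'' * a'⁻¹, ?_⟩
        have h5 : al b.toBT y (P2 u) = π R i (nd.P_le_N huP) := (pr_U b.toBT y hu _).symm
        have h6 : π R i (nd.P_le_N (mul_mem huP hx)) = π R i (nd.P_le_N huP) * π R i (nd.P_le_N hx) := by
          unfold π
          rw [← map_mul]
          rfl
        rw [h6, mul_smul] at h4
        rw [h1, h2, h5, cen_smul q c (nd.PR huP), h4, smul_smul, smul_smul, mul_assoc (a * a''),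
          inv_mul_cancel₀ ha', mul_one]
      three := by
        obtain ⟨x, hx, x', hx', -, -, h1, h2, -, h3, -⟩ := nd.four
        refine ⟨π R i (nd.P_le_N hx) • e 1, π R i (nd.P_le_N hx') • e 1,
          ⟨_, pr_mem_im (nd.P_le_N hx) hx, 1, one_ne_zero, by rw [one_smul]⟩,
          ⟨_, pr_mem_im (nd.P_le_N hx') hx', 1, one_ne_zero, by rw [one_smul]⟩,
          fun a ha => h1 ((V_iff q c b nd hx).2 ⟨a, ha⟩), fun a ha => h2 ((V_iff q c b nd hx').2 ⟨a, ha⟩),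
          fun a ha => h3 ((line_iff q c b nd hx' hx).2 ⟨a, ha⟩).symm⟩ }

end frame

end Cfsg.Agent.Omega.HOneQ.NodeQ
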