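import Cfsg.Agent.Omega.HOneQ.ResK
import Cfsg.Agent.Omega.BTwo.Coord

/-!
# II.0h1, split, `q ≥ 4`: the hypothesis `Lin` of (KEY) in types `β` and `σ` (#15939)

* `act_lin` : `g ∈ N(V) ∩ C(R i)` acts on `V` as `v b c ↦ v (b + β c) (γ c)`;
* `Sc.lin_of_rigid` (`β`): if `V, V'` are the only lines in `V V' Z_i`;
* `Sc.lin_of_pi`, `Sc.exists_pi`, `Sc.lin_of_tau` (`σ`): from an element `τ = p t_a` centralising `W_N Z_i / Z_i`.
-/

set_option autoImplicit false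
set_option linter.unusedSectionVars false

namespace Cfsg.Agent.Omega.HOneQ

open Subgroup Cfsg.Agent.Omega.BTwo
open Cfsg.Agent.Omega.Lie (TorD)

universe u v w

variable {G : Type u} [Group G] {ι : Type w} {V : Subgroup G} {R : ι → Subgroup G} {i j : ι} {P : Subgroup G}
  {F : Type v} [Field F] {vv : F → F → G} {t : F → G} {w1 w2 : F → G}

/-- an element of `N(V) ∩ C(R i)` normalising `R j`, or any other point, is a scalar there -/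
theorem act_lin (b : BT V R) (c : Coord V R i j vv w1 w2) {g : G} (hV : g ∈ normalizer (V : Set G))
    (hR : g ∈ centralizer (R i : Set G)) : ∃ β γ : F, γ ≠ 0 ∧ ∀ x y, g * vv x y * g⁻¹ = vv (x + β * y) (γ * y) := by
  have hgR : ∀ x, g * vv x 0 * g⁻¹ = vv x 0 := fun x => by
    rw [← mem_centralizer_iff.1 hR _ ((c.mem_R1 _).2 ⟨x, rfl⟩), mul_inv_cancel_right]
  have hgRi : cj g (R i) = R i := cj_eq_self_iff.2 (centralizer_le_normalizer _ hR)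
  -- the image of the point `cj w (R j)`, `w ∈ W i`
  have key : ∀ w ∈ WW V (R i), ∃ s : F, ∀ y, ∃ y', g * (w * vv 0 y * w⁻¹) * g⁻¹ = vv (s * y') y' := by
    intro w hw
    obtain ⟨l, hl⟩ := b.perm (g * w) (mul_mem hV (b.W_le_NV i hw)) j
    have hli : l ≠ i := by
      rintro rfl
      have h1 : cj (g * w) (R l) = R l := by
        rw [cj_mul, cj_eq_self_iff.2 (b.W_le_N l hw), hgRi]
      exact c.ne (b.R_index (cj_injective (h1.trans hl.symm)))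
    obtain ⟨w', hw', e⟩ := b.trans i (Ne.symm c.ne) hli
    obtain ⟨s, hs⟩ := c.W1_act w' hw'
    refine ⟨s, fun y => ?_⟩
    have h1 : g * (w * vv 0 y * w⁻¹) * g⁻¹ ∈ R l := by
      rw [← hl]
      have := conj_mem_cj (g := g * w) ((c.mem_R2 _).2 ⟨y, rfl⟩)
      have e1 : g * w * vv 0 y * (g * w)⁻¹ = g * (w * vv 0 y * w⁻¹) * g⁻¹ := by group
      rwa [e1] at this
    rw [← e, mem_cj, c.mem_R2] at h1
    obtain ⟨y', hy'⟩ := h1
    refine ⟨y', ?_⟩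
    have h2 := hs 0 y'
    rw [zero_add] at h2
    rw [← h2, hy']; group
  obtain ⟨s0, h0⟩ := key 1 (one_mem _)
  choose γ hγ using h0
  have hγ' : ∀ y, g * vv 0 y * g⁻¹ = vv (s0 * γ y) (γ y) := fun y => by
    have := hγ y
    rwa [one_mul, inv_one, mul_one] at this
  obtain ⟨s1, h1⟩ := key (w1 1) (c.w1_mem 1)
  have h2 : ∀ y, y + s0 * γ y = s1 * γ y := by
    intro y
    obtain ⟨y', hy'⟩ := h1 y
    rw [c.w1_act, zero_add, one_mul] at hy'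
    have h3 : g * vv y y * g⁻¹ = vv (y + s0 * γ y) (γ y) := by
      have h4 : vv y y = vv y 0 * vv 0 y := by rw [← c.v_add, add_zero, zero_add]
      have h5 : g * vv y y * g⁻¹ = (g * vv y 0 * g⁻¹) * (g * vv 0 y * g⁻¹) := by rw [h4]; group
      rw [h5, hgR, hγ', ← c.v_add, zero_add]
    rw [h3] at hy'
    obtain ⟨h6, h7⟩ := c.v_inj hy'
    rw [← h7] at h6
    exact h6
  have h3 : ∀ y, y = (s1 - s0) * γ y := fun y => by
    rw [sub_mul, ← h2]; ring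
  have hne : s1 - s0 ≠ 0 := by
    intro h
    have := h3 1
    rw [h, zero_mul] at this
    exact one_ne_zero this
  have h4 : ∀ y, γ y = (s1 - s0)⁻¹ * y := fun y => by
    nth_rw 2 [h3 y]
    rw [inv_mul_cancel_left₀ hne]
  refine ⟨s0 * (s1 - s0)⁻¹, (s1 - s0)⁻¹, inv_ne_zero hne, fun x y => ?_⟩
  have h5 : vv x y = vv x 0 * vv 0 y := by rw [← c.v_add, add_zero, zero_add]
  have h6 : g * vv x y * g⁻¹ = (g * vv x 0 * g⁻¹) * (g * vv 0 y * g⁻¹) := by rw [h5]; group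
  rw [h6, hgR, hγ', h4, ← c.v_add, zero_add, mul_assoc]

namespace Sc

variable {p' : G} (s : Sc V R i j vv t P p') (b : BTS V R) (τ : TorD V R i j vv t) {m : G} (sw : Sw V R i j t m)
  (c : Coord V R i j vv w1 w2)
include s b τ c

omit b τ in
theorem conj_line {p : G} (hp : p ∈ P) (x y : F) {q : G} (hq : q ∈ P) (h : cj p V = cj q V) (b : BT V R) :
    ∃ β γ : F, γ ≠ 0 ∧ ∀ x y, p * vv x y * p⁻¹ = q * vv (x + β * y) (γ * y) * q⁻¹ := by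
  have _ := x
  have _ := y
  have hz : q⁻¹ * p ∈ normalizer (V : Set G) := by
    rw [← cj_eq_self_iff, cj_mul, h, cj_inv_cj]
  obtain ⟨β, γ, hγ, h1⟩ := act_lin b c hz (s.PR (mul_mem (inv_mem hq) hp))
  refine ⟨β, γ, hγ, fun x y => ?_⟩
  rw [← h1]; group

include sw in
/-- type `β`: `V` and `V'` are the only lines in `V V' Z_i` -/
theorem lin_of_rigid (hr : ∀ p ∈ P, cj p V ≤ cj p' V ⊔ (V ⊔ ZZ V R i) → cj p V = V ∨ cj p V = cj p' V) :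
    Lin V R i P vv m p' := by
  intro w hw
  have hwU := conj_U b sw (W0_le_U hw)
  set u := m * w * m⁻¹ with hu
  have huP : u ∈ P := s.UP hwU
  -- `V'^u ≤ V' V Z`
  have h1 : cj (u * p') V ≤ cj p' V ⊔ (V ⊔ ZZ V R i) := by
    rw [cj_mul]
    refine cj_le_of_comm le_sup_left fun x hx => (le_sup_right : V ⊔ ZZ V R i ≤ _) ?_
    obtain ⟨r, s', ψ, hψ, e⟩ := s.kx b τ sw hw hx
    rw [e]
    refine mul_mem ((le_sup_left : V ≤ _) ((τ.v_mem _).2 ⟨_, _, rfl⟩)) ((le_sup_right : ZZ V R i ≤ _) ?_)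
    exact mem_inf.2 ⟨D_le_W V R i (Psi_le_D hψ), cen_X_le i (Psi_le_CenX hψ)⟩
  have h2 : cj (u * p') V = cj p' V := by
    rcases hr _ (mul_mem huP s.mem) h1 with h | h
    · exfalso
      apply s.ne
      have h3 : cj u⁻¹ (cj (u * p') V) = cj u⁻¹ V := by rw [h]
      rw [← cj_mul, inv_mul_cancel_left] at h3
      rw [h3]
      exact cj_eq_self_iff.2 (cen_le_NV V (inv_mem (UU_le_cen j hwU)))
    · exact h
  obtain ⟨β, γ, hγ, h3⟩ := s.conj_line c (mul_mem huP s.mem) 0 0 s.mem h2 b.toBT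
  -- `[u, v' y z] = v'(β z, (γ - 1) z)`
  have h4 : ∀ y z, u * (p' * vv y z * p'⁻¹) * u⁻¹ * (p' * vv y z * p'⁻¹)⁻¹ =
      p' * vv (β * z) (γ * z - z) * p'⁻¹ := by
    intro y z
    have e1 : u * (p' * vv y z * p'⁻¹) * u⁻¹ = u * p' * vv y z * (u * p')⁻¹ := by group
    have e2 := s.line_add τ (β * z) (γ * z - z) y z
    rw [e1, h3, add_comm y, show γ * z = (γ * z - z) + z by ring, e2]
    rw [show γ * z - z + z - z = γ * z - z by ring]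
    group
  -- it is in `V Z`, so in `R i`
  refine ⟨β, fun y z r s' hk => ?_⟩
  obtain ⟨ψ, hψ, e⟩ := hk
  rw [← hu, h4] at e
  have h5 : p' * vv (β * z) (γ * z - z) * p'⁻¹ ∈ R i := by
    refine s.inf_eq b s.mem (one_mem P) (by rw [cj_one]; exact s.ne) ((s.mem_line τ).2 ⟨_, _, rfl⟩) ?_
    rw [e, cj_one]
    refine mul_mem ((le_sup_left : V ≤ _) ((τ.v_mem _).2 ⟨_, _, rfl⟩)) ((le_sup_right : ZZ V R i ≤ _) ?_)
    exact mem_inf.2 ⟨D_le_W V R i (Psi_le_D hψ), cen_X_le i (Psi_le_CenX hψ)⟩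
  rw [s.line_mem_R τ] at h5
  rw [h5, s.line_R τ] at e
  have h6 : vv (β * z) 0 * 1 = vv r s' * ψ := by rw [mul_one, e]
  obtain ⟨h7, -, -⟩ := coord_unique b.toBT τ (one_mem _) (Psi_le_CenX hψ) h6
  rw [← h7, mul_comm]

/-- a projection of `W_N` on `R i`, trivial on `R j` and `Ψ`, `F`-linear on the lines -/
structure Prj (V : Subgroup G) (R : ι → Subgroup G) (i : ι) (P : Subgroup G) (vv : F → F → G) (π : G → F) : Prop where
  mul : ∀ x ∈ WN V P, ∀ y ∈ WN V P, π (x * y) = π x + π y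
  onV : ∀ x y, π (vv x y) = x
  onPsi : ∀ ψ ∈ Psi V R P, π ψ = 0
  lin : ∀ p ∈ P, ∃ α : F, ∀ x y, π (p * vv x y * p⁻¹) = x + α * y

include sw in
theorem lin_of_pi {π : G → F} (h : Prj V R i P vv π) : Lin V R i P vv m p' := by
  intro w hw
  have hwU := conj_U b sw (W0_le_U hw)
  set u := m * w * m⁻¹ with hu
  have huP : u ∈ P := s.UP hwU
  obtain ⟨α, hα⟩ := h.lin _ (mul_mem huP s.mem)
  obtain ⟨α', hα'⟩ := h.lin _ s.mem
  refine ⟨α - α', fun y z r s' hk => ?_⟩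
  obtain ⟨ψ, hψ, e⟩ := hk
  rw [← hu] at e
  have h1 : u * (p' * vv y z * p'⁻¹) * u⁻¹ = (vv r s' * ψ) * (p' * vv y z * p'⁻¹) := by
    rw [← e]; group
  have hl : p' * vv y z * p'⁻¹ ∈ WN V P := line_le_WN s.mem ((s.mem_line τ).2 ⟨_, _, rfl⟩)
  have hv : vv r s' ∈ WN V P := V_le_WN V P ((τ.v_mem _).2 ⟨_, _, rfl⟩)
  have hψ' : ψ ∈ WN V P := hψ.1
  have h2 := h.mul _ (mul_mem hv hψ') _ hl
  rw [← h1, h.mul _ hv _ hψ', h.onV, h.onPsi ψ hψ, add_zero, hα'] at h2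
  have e1 : u * (p' * vv y z * p'⁻¹) * u⁻¹ = u * p' * vv y z * (u * p')⁻¹ := by group
  rw [e1, hα] at h2
  linear_combination -h2

omit b τ c in
/-- elements of a line in `R i` -/
theorem mem_R_of (τ : TorD V R i j vv t) {p : G} (hp : p ∈ P) {y z : F} (h : p * vv y z * p⁻¹ ∈ R i) : z = 0 := by
  have h1 := s.conj_R (inv_mem hp) h
  have e : p⁻¹ * (p * vv y z * p⁻¹) * p⁻¹⁻¹ = vv y z := by group
  rw [e] at h1
  rw [← h1] at h
  obtain ⟨x, hx⟩ := (τ.Ri _).1 h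
  have h2 : vv (x - y) (0 - z) = 1 := by
    have h3 := τ.v_add (x - y) (0 - z) y z
    rw [sub_add_cancel, sub_add_cancel, hx] at h3
    exact right_eq_mul.1 h3
  have h3 := (τ.v_inj _ _ h2).2
  rwa [zero_sub, neg_eq_zero] at h3

/-- the image of a point of a line under `p₀ t_a`, if `p₀ t_a` is trivial on `W_N Z / Z` -/
theorem tau_line {p₀ a : _} (hp₀ : p₀ ∈ P) (ha : a ≠ 0)
    (h1 : ∀ x ∈ WN V P, (p₀ * t a) * x * (p₀ * t a)⁻¹ * x⁻¹ ∈ ZZ V R i) {p : G} (hp : p ∈ P) :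
    ∃ β γ : F, ∀ x y, (p₀ * t a) * (p * vv x y * p⁻¹) * (p₀ * t a)⁻¹ =
      p * vv (a * x + β * (a⁻¹ * y)) (γ * (a⁻¹ * y)) * p⁻¹ := by
  have hpt : t a * p * (t a)⁻¹ ∈ P := conj_mem_of_normalizer (s.tP a ha) hp
  have hq : p₀ * (t a * p * (t a)⁻¹) ∈ P := mul_mem hp₀ hpt
  have e1 : p₀ * t a * p = p₀ * (t a * p * (t a)⁻¹) * t a := by group
  have htV := s.t_norm_V b τ ha
  have h2 : cj (p₀ * (t a * p * (t a)⁻¹)) V = cj p V := by
    refine s.inj b hq hp ?_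
    have e2 : cj (p₀ * (t a * p * (t a)⁻¹)) V = cj (p₀ * t a) (cj p V) := by
      calc cj (p₀ * (t a * p * (t a)⁻¹)) V = cj (p₀ * (t a * p * (t a)⁻¹)) (cj (t a) V) := by
            rw [cj_eq_self_iff.2 htV]
        _ = _ := by rw [← cj_mul, ← e1, cj_mul]
    rw [e2]
    exact cj_le_of_comm le_sup_left fun x hx => (le_sup_right : ZZ V R i ≤ _) (h1 x (line_le_WN hp hx))
  obtain ⟨β, γ, -, h3⟩ := s.conj_line c hq 0 0 hp h2 b.toBT
  refine ⟨β, γ, fun x y => ?_⟩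
  have e3 : (p₀ * t a) * (p * vv x y * p⁻¹) * (p₀ * t a)⁻¹ =
      p₀ * (t a * p * (t a)⁻¹) * (t a * vv x y * (t a)⁻¹) * (p₀ * (t a * p * (t a)⁻¹))⁻¹ := by group
  rw [e3, τ.act a x y ha, h3]

/-- **(σ)** the projection from `τ = p₀ t_a` -/
theorem exists_pi (hF : ∃ a : F, a ≠ 0 ∧ a ≠ 1) {p₀ : G} {a : F} (hp₀ : p₀ ∈ P) (ha : a ≠ 0) (ha1 : a ≠ 1)
    (h1 : ∀ x ∈ WN V P, (p₀ * t a) * x * (p₀ * t a)⁻¹ * x⁻¹ ∈ ZZ V R i)
    (h2 : ∀ ψ ∈ Psi V R P, p₀ * ψ = ψ * p₀) (h3 : p₀ * t a ∈ normalizer (R j : Set G)) :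
    ∃ π : G → F, Prj V R i P vv π := by
  classical
  have ha1' : a - 1 ≠ 0 := sub_ne_zero.2 ha1
  set g := p₀ * t a with hg
  have hgN : g ∈ normalizer (WN V P : Set G) := mul_mem (P_norm_WN hp₀) (s.t_norm_WN b τ ha)
  -- `[g, x] = v ρ 0 ψ`
  let Q : G → F → Prop := fun x ρ => ∃ ψ ∈ Psi V R P, g * x * g⁻¹ * x⁻¹ = vv ρ 0 * ψ
  have hQex : ∀ x ∈ WN V P, ∃ ρ, Q x ρ := by
    intro x hx
    have h4 : g * x * g⁻¹ * x⁻¹ ∈ WN V P := mul_mem (conj_mem_of_normalizer hgN hx) (inv_mem hx)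
    obtain ⟨y, hy, h5⟩ := s.WN_Z b τ hF h4 (h1 x hx)
    obtain ⟨ρ, hρ⟩ := (τ.Ri _).1 (inv_mem hy)
    exact ⟨ρ, _, h5, by rw [hρ]; group⟩
  have hQu : ∀ x ρ ρ', Q x ρ → Q x ρ' → ρ = ρ' := by
    rintro x ρ ρ' ⟨ψ, hψ, e⟩ ⟨ψ', hψ', e'⟩
    exact (coord_unique b.toBT τ (Psi_le_CenX hψ) (Psi_le_CenX hψ') (e.symm.trans e')).1
  let π : G → F := fun x => if h : ∃ ρ, Q x ρ then (a - 1)⁻¹ * h.choose else 0
  have hπ : ∀ x ρ, Q x ρ → π x = (a - 1)⁻¹ * ρ := by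
    intro x ρ h
    have h4 : ∃ ρ, Q x ρ := ⟨ρ, h⟩
    have h5 : π x = (a - 1)⁻¹ * h4.choose := dif_pos h4
    rw [h5, hQu _ _ _ h4.choose_spec h]
  refine ⟨π, ?_, ?_, ?_, ?_⟩
  · intro x hx y hy
    obtain ⟨ρ, hρ⟩ := hQex x hx
    obtain ⟨ρ', hρ'⟩ := hQex y hy
    have h4 : Q (x * y) (ρ + ρ') := by
      obtain ⟨ψ, hψ, e⟩ := hρ
      obtain ⟨ψ', hψ', e'⟩ := hρ'
      refine ⟨ψ * ψ', mul_mem hψ hψ', ?_⟩
      have h5 : g * y * g⁻¹ * y⁻¹ ∈ WN V P := mul_mem (conj_mem_of_normalizer hgN hy) (inv_mem hy)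
      have c1 := s.WN_comm b hx h5
      have c2 : vv ρ' 0 * ψ = ψ * vv ρ' 0 :=
        mem_centralizer_iff.1 (BT.CenX_le_cen b.toBT (Psi_le_CenX hψ)) _ ((τ.v_mem _).2 ⟨_, _, rfl⟩)
      calc g * (x * y) * g⁻¹ * (x * y)⁻¹ = (g * x * g⁻¹ * x⁻¹) * (x * (g * y * g⁻¹ * y⁻¹) * x⁻¹) := by group
        _ = (g * x * g⁻¹ * x⁻¹) * (g * y * g⁻¹ * y⁻¹) := by rw [c1, mul_inv_cancel_right]
        _ = vv ρ 0 * (vv ρ' 0 * ψ) * ψ' := by rw [e, e', c2]; group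
        _ = _ := by
          rw [show vv (ρ + ρ') 0 = vv ρ 0 * vv ρ' 0 by rw [← τ.v_add, add_zero]]; group
    rw [hπ _ _ h4, hπ _ _ hρ, hπ _ _ hρ', mul_add]
  · intro x y
    obtain ⟨β, γ, h4⟩ := s.tau_line b τ c hp₀ ha h1 (one_mem P)
    have h5 : ∀ x y, g * vv x y * g⁻¹ = vv (a * x + β * (a⁻¹ * y)) (γ * (a⁻¹ * y)) := by
      intro x y
      have := h4 x y
      rwa [one_mul, inv_one, mul_one, one_mul, mul_one] at this
    -- `β = 0`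
    have h6 : β = 0 := by
      have h7 : g * vv 0 a * g⁻¹ ∈ R j := conj_mem_of_normalizer h3 ((τ.Rj _).2 ⟨a, rfl⟩)
      rw [h5, mul_zero, zero_add, inv_mul_cancel₀ ha, mul_one] at h7
      obtain ⟨y', hy'⟩ := (τ.Rj _).1 h7
      exact (c.v_inj hy').1.symm
    have h7 : g * vv x y * g⁻¹ * (vv x y)⁻¹ = vv ((a - 1) * x) (γ * (a⁻¹ * y) - y) := by
      rw [h5, h6, zero_mul, add_zero, mul_inv_eq_iff_eq_mul, ← c.v_add]
      congr 1 <;> ring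
    have h8 : vv ((a - 1) * x) (γ * (a⁻¹ * y) - y) ∈ R i := by
      refine BT.cen_VW b.toBT (c.v_mem _ _) ?_
      rw [← h7]
      exact (h1 _ (V_le_WN V P (c.v_mem x y))).2
    obtain ⟨x', hx'⟩ := (c.mem_R1 _).1 h8
    have h9 : Q (vv x y) ((a - 1) * x) := ⟨1, one_mem _, by
      rw [h7, ← (c.v_inj hx').2, mul_one]⟩
    rw [hπ _ _ h9, inv_mul_cancel_left₀ ha1']
  · intro ψ hψ
    have h4 : Q ψ 0 := by
      refine ⟨1, one_mem _, ?_⟩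
      have h5 := mem_centralizer_iff.1 (Psi_le_CenX hψ) (t a) (τ.memX a ha)
      have h6 : g * ψ = ψ * g := by
        rw [hg]
        calc p₀ * t a * ψ = p₀ * (t a * ψ) := by group
          _ = (p₀ * ψ) * t a := by rw [h5]; group
          _ = ψ * (p₀ * t a) := by rw [h2 ψ hψ]; group
      rw [h6, c.v_zero]; group
    rw [hπ _ _ h4, mul_zero]
  · intro p hp
    obtain ⟨β, γ, h4⟩ := s.tau_line b τ c hp₀ ha h1 hp
    refine ⟨(a - 1)⁻¹ * (β * a⁻¹), fun x y => ?_⟩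
    have h7 : g * (p * vv x y * p⁻¹) * g⁻¹ * (p * vv x y * p⁻¹)⁻¹ =
        p * vv ((a - 1) * x + β * (a⁻¹ * y)) (γ * (a⁻¹ * y) - y) * p⁻¹ := by
      rw [h4]
      have e1 : vv (a * x + β * (a⁻¹ * y)) (γ * (a⁻¹ * y)) =
          vv ((a - 1) * x + β * (a⁻¹ * y)) (γ * (a⁻¹ * y) - y) * vv x y := by
        rw [← c.v_add]
        congr 1 <;> ring
      rw [e1]; group
    have h8 : p * vv ((a - 1) * x + β * (a⁻¹ * y)) (γ * (a⁻¹ * y) - y) * p⁻¹ ∈ R i := by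
      refine s.line_inf_Z b.toBT hp (conj_mem_cj (c.v_mem _ _)) ?_
      rw [← h7]
      exact h1 _ (line_le_WN hp (conj_mem_cj (c.v_mem x y)))
    have h9 := s.mem_R_of τ hp h8
    rw [h9, s.conj_R hp ((c.mem_R1 _).2 ⟨_, rfl⟩)] at h7
    have h10 : Q (p * vv x y * p⁻¹) ((a - 1) * x + β * (a⁻¹ * y)) := ⟨1, one_mem _, by rw [h7, mul_one]⟩
    rw [hπ _ _ h10, mul_add, inv_mul_cancel_left₀ ha1']
    ring

include sw in
/-- **(σ)** `Lin` from `τ = p₀ t_a` -/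
theorem lin_of_tau (hF : ∃ a : F, a ≠ 0 ∧ a ≠ 1) {p₀ : G} {a : F} (hp₀ : p₀ ∈ P) (ha : a ≠ 0) (ha1 : a ≠ 1)
    (h1 : ∀ x ∈ WN V P, (p₀ * t a) * x * (p₀ * t a)⁻¹ * x⁻¹ ∈ ZZ V R i)
    (h2 : ∀ ψ ∈ Psi V R P, p₀ * ψ = ψ * p₀) : Lin V R i P vv m p' := by
  have ha1' : 1 - a ≠ 0 := sub_ne_zero.2 (Ne.symm ha1)
  obtain ⟨β, γ, h4⟩ := s.tau_line b τ c hp₀ ha h1 (one_mem P)
  have h5 : ∀ x y, (p₀ * t a) * vv x y * (p₀ * t a)⁻¹ = vv (a * x + β * (a⁻¹ * y)) (γ * (a⁻¹ * y)) := by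
    intro x y
    have := h4 x y
    rwa [one_mul, inv_one, mul_one, one_mul, mul_one] at this
  -- `γ = a`
  have hγ : γ * a⁻¹ = 1 := by
    have h6 : (p₀ * t a) * vv 0 1 * (p₀ * t a)⁻¹ * (vv 0 1)⁻¹ = vv (β * a⁻¹) (γ * a⁻¹ - 1) := by
      rw [h5, mul_inv_eq_iff_eq_mul, ← c.v_add]
      congr 1 <;> ring
    have h8 : vv (β * a⁻¹) (γ * a⁻¹ - 1) ∈ R i := by
      refine BT.cen_VW b.toBT (c.v_mem _ _) ?_
      rw [← h6]
      exact (h1 _ (V_le_WN V P (c.v_mem 0 1))).2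
    obtain ⟨x', hx'⟩ := (c.mem_R1 _).1 h8
    exact sub_eq_zero.1 (c.v_inj hx').2.symm
  set σ := β * a⁻¹ * (1 - a)⁻¹ with hσ
  set w := (w1 σ)⁻¹ with hw
  have hwW : w ∈ WW V (R i) := inv_mem (c.w1_mem σ)
  have hwP : w ∈ P := s.QP (b.W_le_Q i hwW)
  -- `w g w⁻¹ = p₁ t_a`
  set p₁ := w * p₀ * (t a * w⁻¹ * (t a)⁻¹) with hp₁
  have e1 : p₁ * t a = w * (p₀ * t a) * w⁻¹ := by rw [hp₁]; group
  have hp₁P : p₁ ∈ P := mul_mem (mul_mem hwP hp₀) (conj_mem_of_normalizer (s.tP a ha) (inv_mem hwP))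
  obtain ⟨π, hπ⟩ := s.exists_pi b τ c hF hp₁P ha ha1 (by
    intro x hx
    have hx' : w⁻¹ * x * w ∈ WN V P := conj_inv_mem_of_normalizer (P_norm_WN hwP) hx
    have h6 := h1 _ hx'
    rw [e1]
    have e2 : w * (p₀ * t a) * w⁻¹ * x * (w * (p₀ * t a) * w⁻¹)⁻¹ * x⁻¹ =
        w * ((p₀ * t a) * (w⁻¹ * x * w) * (p₀ * t a)⁻¹ * (w⁻¹ * x * w)⁻¹) * w⁻¹ := by group
    rw [e2]
    exact conj_mem_of_normalizer (N_le_NZ i (b.W_le_N i hwW)) h6) (by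
    intro ψ hψ
    have k1 : ∀ y ∈ WW V (R i), y * ψ = ψ * y := fun y hy =>
      mem_centralizer_iff.1 (Psi_le_CenX hψ) y (W_le_X V R i hy)
    have k2 := k1 w hwW
    have k3 := k1 _ (conj_mem_of_normalizer (normalizer_le_WW V (R i) (τ.normR ha)) (inv_mem hwW))
    rw [hp₁]
    calc w * p₀ * (t a * w⁻¹ * (t a)⁻¹) * ψ = w * p₀ * ((t a * w⁻¹ * (t a)⁻¹) * ψ) := by group
      _ = w * (p₀ * ψ) * (t a * w⁻¹ * (t a)⁻¹) := by rw [k3]; group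
      _ = (w * ψ) * p₀ * (t a * w⁻¹ * (t a)⁻¹) := by rw [h2 ψ hψ]; group
      _ = _ := by rw [k2]; group) (by
    rw [e1]
    have hst : ∀ y, w * (p₀ * t a) * w⁻¹ * vv 0 y * (w * (p₀ * t a) * w⁻¹)⁻¹ = vv 0 y := by
      intro y
      have e3 : w * (p₀ * t a) * w⁻¹ * vv 0 y * (w * (p₀ * t a) * w⁻¹)⁻¹ =
          (w1 σ)⁻¹ * ((p₀ * t a) * (w1 σ * vv 0 y * (w1 σ)⁻¹) * (p₀ * t a)⁻¹) * w1 σ := by
        rw [hw]; group
      have e4 : ∀ x y, (w1 σ)⁻¹ * vv x y * w1 σ = vv (x - σ * y) y := by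
        intro x y
        have := c.w1_act σ (x - σ * y) y
        rw [sub_add_cancel] at this
        rw [← this]; group
      rw [e3, c.w1_act, h5, e4]
      have e5 : γ * (a⁻¹ * y) = y := by rw [← mul_assoc, hγ, one_mul]
      rw [e5]
      congr 1
      have e6 : β * a⁻¹ = σ * (1 - a) := by rw [hσ, inv_mul_cancel_right₀ ha1']
      linear_combination y * e6
    refine centralizer_le_normalizer _ ?_
    rw [mem_centralizer_iff]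
    intro x hx
    obtain ⟨y, rfl⟩ := (c.mem_R2 x).1 hx
    have := hst y
    rw [mul_inv_eq_iff_eq_mul] at this
    exact this.symm)
  exact s.lin_of_pi b τ sw c hπ

end Sc

end Cfsg.Agent.Omega.HOneQ
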