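import Cfsg.Agent.Omega.HOneQ.NodeQ
import Cfsg.Agent.Omega.HOneQ.ResL

/-!
# II.0h1, split, `q ≥ 4`: the torus on the lines of a node (o1), (o2); the double perp (o5), linearity (o6) (#15939)
-/

set_option autoImplicit false
set_option linter.unusedSectionVars false

namespace Cfsg.Agent.Omega.HOneQ.NodeQ

open Subgroup Cfsg.Agent.Omega.BTwo Cfsg.Agent.Omega.Lie Cfsg.Agent.Omega.Lie.Quot Cfsg.Agent.Omega.HOne
  Cfsg.Agent.Omega.HOne.ModZ Cfsg.Agent.Omega.Lie.Nodes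

universe u v w

variable {G : Type u} [Group G] {ι : Type w} {V : Subgroup G} {R : ι → Subgroup G} {i j : ι}
  {F : Type v} [Field F] {v : F → F → G} {w1 w2 t : F → G}
  {M : Type u} [AddCommGroup M] [Module F M] [DistribMulAction (HQ (R i)) M] {p : G → M}
  {f : M →ₗ[F] M →ₗ[F] F} {e : F →ₗ[F] M} {ω : M →ₗ[F] F} {σ : HQ (R i) →* RingAut F} {κ : HQ (R i) → F}
  [Finite G] [Finite F] [CharP F 2] {P : Subgroup G}

variable (q : Fq V R i v M p f e ω σ κ) (c : Coord V R i j v w1 w2) (b : BTS V R) (τ : TorD V R i j v t)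
  (nd : Nd V R i j P) (tP : ∀ a, a ≠ 0 → t a ∈ normalizer (P : Set G))
include q c

theorem t_line_eq {x : G} (hx : x ∈ normalizer (R i : Set G)) (a : Fˣ) (m : M)
    (hN : t a * x * (t a)⁻¹ ∈ normalizer (R i : Set G)) :
    π R i hN • m = tQ τ a • (π R i hx • ((tQ τ a)⁻¹ • m)) := by
  have _ := q
  have _ := c
  rw [← mul_smul, ← mul_smul]
  congr 1

include b tP

theorem t_line {x : G} (hx : x ∈ P) {a : Fˣ} {χ : F}
    (h : tQ τ a • (π R i (nd.P_le_N hx) • e 1) = χ • (π R i (nd.P_le_N hx) • e 1)) :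
    cj (t a * x * (t a)⁻¹) V = cj x V := by
  have hx1 : t a * x * (t a)⁻¹ ∈ P := conj_mem_of_normalizer (tP a a.ne_zero) hx
  refine (line_iff q c b nd hx1 hx).2 ⟨a * χ, ?_⟩
  have h1 : (tQ τ a)⁻¹ • e 1 = (a : F) • e 1 := by
    have h2 : tQ τ a • ((a : F) • e 1) = (a : F) • (tQ τ a • e 1) := q.t_smul c τ a a _
    have h3 : tQ τ a • e 1 = (a : F)⁻¹ • e 1 := q.t_e c τ a 1
    rw [inv_smul_eq_iff, h2, h3, smul_inv_smul₀ a.ne_zero]
  rw [t_line_eq q c τ (nd.P_le_N hx) a, h1, cen_smul q c (nd.PR hx), mul_smul, ← h]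
  exact q.t_smul c τ a a _

theorem t_cj {x : G} (hx : x ∈ P) {a : Fˣ} {χ : F}
    (h : tQ τ a • (π R i (nd.P_le_N hx) • e 1) = χ • (π R i (nd.P_le_N hx) • e 1)) :
    cj (t a) (cj x V) = cj x V := by
  have h1 := t_line q c b τ nd tP hx h
  have h2 : cj (t a) V = V := cj_eq_self_iff.2 (b.X_le_NV (τ.memX a a.ne_zero))
  calc cj (t a) (cj x V) = cj (t a * x * (t a)⁻¹) (cj (t a) V) := by
        rw [← cj_mul, ← cj_mul]
        congr 1
        group
    _ = cj x V := by rw [h2, h1]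

omit b tP in
theorem pxe_ne (b : BTS V R) {x : G} (hx : x ∈ normalizer (R i : Set G)) : π R i hx • e 1 ≠ 0 := by
  intro h0
  apply e1_ne q c b.toBT
  rw [← inv_smul_smul (π R i hx) (e 1), h0, smul_zero]

omit b tP in
theorem mem_UU_of {x : G} (hx : x ∈ P) (h0 : ω (π R i (nd.P_le_N hx) • e 1) = 0) : cj x V ≤ UU V R i := by
  intro z hz
  rw [← q.mem_P c (nd.line_le hx hz)]
  obtain ⟨β, γ, h2⟩ := (c.mem_V _).1 (mem_cj.1 hz)
  have h3 : z = x * v β γ * x⁻¹ := by rw [h2]; group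
  rw [h3, p_line q c (nd.PR hx) (nd.P_le_N hx), map_smul, h0, smul_zero]

/-- **(o2), types (beta), (sigma)** : the torus acts on the line `V^x` by scalars -/
theorem sc_of (hF : ∃ a : F, a ≠ 0 ∧ a ≠ 1) {x : G} (hx : x ∈ P) (hne : cj x V ≠ V)
    (h : ∀ a : Fˣ, tQ τ a • (π R i (nd.P_le_N hx) • e 1) = (a : F) • (π R i (nd.P_le_N hx) • e 1)) :
    Sc V R i j v t P x := by
  have hne0 := pxe_ne q c b (nd.P_le_N hx)
  have h0 : ω (π R i (nd.P_le_N hx) • e 1) = 0 := by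
    obtain ⟨a, ha0, ha1⟩ := hF
    have h1 := q.t_ω c τ (Units.mk0 a ha0) (π R i (nd.P_le_N hx) • e 1)
    have h2 : pr (R i) ⟨t ((Units.mk0 a ha0 : Fˣ) : F), τ.normR (Units.mk0 a ha0).ne_zero⟩ •
        (π R i (nd.P_le_N hx) • e 1) = a • (π R i (nd.P_le_N hx) • e 1) := h (Units.mk0 a ha0)
    rw [h2, map_smul, smul_eq_mul] at h1
    change a * _ = a ^ 2 * _ at h1
    have h3 : (a * (a - 1)) * ω (π R i (nd.P_le_N hx) • e 1) = 0 := by linear_combination -h1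
    exact (mul_eq_zero.1 h3).resolve_left (mul_ne_zero ha0 (sub_ne_zero.2 ha1))
  refine { toNd := nd, tP := tP, mem := hx, ne := hne, leU := mem_UU_of q c nd hx h0, sc := ?_ }
  intro a y z ha
  set a' : Fˣ := Units.mk0 a ha with ha'
  have hl := t_line q c b τ nd tP hx (h a')
  change cj (t a * x * (t a)⁻¹) V = cj x V at hl
  set k := x⁻¹ * (t a * x * (t a)⁻¹) with hk
  have hkP : k ∈ P := mul_mem (inv_mem hx) (conj_mem_of_normalizer (tP a ha) hx)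
  have hkV : k ∈ normalizer (V : Set G) := by
    rw [← cj_eq_self_iff, hk, cj_mul, hl, cj_inv_cj]
  obtain ⟨β, γ, hγ, hact⟩ := act_lin b.toBT c hkV (nd.PR hkP)
  have key : ∀ y z, t a * (x * v y z * x⁻¹) * (t a)⁻¹ = x * v (a * y + β * (a⁻¹ * z)) (γ * (a⁻¹ * z)) * x⁻¹ := by
    intro y z
    rw [← hact, ← τ.act a y z ha, hk]
    group
  have hγ' : γ * a⁻¹ = a := by
    have h1 := congrArg p (key 0 1)
    have hW : x * v 0 1 * x⁻¹ ∈ WW V (R i) := nd.line_le hx (conj_mem_cj (c.v_mem 0 1))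
    rw [p_line q c (nd.PR hx) (nd.P_le_N hx), ← q.p_act (t a) (τ.normR ha) _ hW,
      p_line q c (nd.PR hx) (nd.P_le_N hx), one_smul, mul_one] at h1
    have h2 : pr (R i) ⟨t a, τ.normR ha⟩ • (π R i (nd.P_le_N hx) • e 1) = a • (π R i (nd.P_le_N hx) • e 1) := h a'
    rw [h2] at h1
    have h3 : (a - γ * a⁻¹) • (π R i (nd.P_le_N hx) • e 1) = 0 := by rw [sub_smul, ← h1, sub_self]
    exact (sub_eq_zero.1 ((smul_eq_zero.1 h3).resolve_right hne0)).symm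
  set θ := β * a⁻¹ with hθ
  have key2 : ∀ y z, t a * (x * v y z * x⁻¹) * (t a)⁻¹ = x * v (a * y + θ * z) (a * z) * x⁻¹ := by
    intro y z
    rw [key, ← mul_assoc, ← mul_assoc, hγ']
  have hpow : ∀ m : ℕ, (t a) ^ m * (x * v 0 1 * x⁻¹) * ((t a) ^ m)⁻¹ =
      x * v ((m : F) * (a ^ m * (a⁻¹ * θ))) (a ^ m) * x⁻¹ := by
    intro m
    induction m with
    | zero => simp
    | succ m ih =>
      have h1 : (t a) ^ (m + 1) * (x * v 0 1 * x⁻¹) * ((t a) ^ (m + 1))⁻¹ =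
          t a * ((t a) ^ m * (x * v 0 1 * x⁻¹) * ((t a) ^ m)⁻¹) * (t a)⁻¹ := by
        rw [pow_succ']
        group
      rw [h1, ih, key2]
      congr 3
      · push_cast
        rw [pow_succ]
        linear_combination (-(a ^ m * θ)) * mul_inv_cancel₀ ha
      · ring
  have hθ0 : θ = 0 := by
    have h1 := hpow (orderOf (t a))
    rw [pow_orderOf_eq_one, one_mul, inv_one, mul_one] at h1
    have h2 : v 0 1 = v (((orderOf (t a) : ℕ) : F) * (a ^ orderOf (t a) * (a⁻¹ * θ))) (a ^ orderOf (t a)) := by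
      have h3 := congrArg (fun z => x⁻¹ * z * x) h1
      simpa [mul_assoc] using h3
    obtain ⟨h3, h4⟩ := c.v_inj h2
    have h5 : ((orderOf (t a) : ℕ) : F) = 1 := by
      obtain ⟨l, hl⟩ := τ.odd a ha
      rw [hl]
      push_cast
      rw [CharTwo.two_eq_zero, zero_mul, zero_add]
    rw [h5, ← h4, one_mul, one_mul] at h3
    exact (mul_eq_zero.1 h3.symm).resolve_left (inv_ne_zero ha)
  rw [key2, hθ0, zero_mul, add_zero]

/-- **(o2), type (alpha)** -/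
theorem alpha_le_D {N : Type u} [AddCommGroup N] [Module F N] {P1 P2 : G → N}
    (y : YPair V R i j w1 w2 N P1 P2) (hF : ∃ a : F, a ≠ 0 ∧ a ≠ 1) {x : G} (hx : x ∈ P)
    (h : ∀ a : Fˣ, tQ τ a • (π R i (nd.P_le_N hx) • e 1) = π R i (nd.P_le_N hx) • e 1) : cj x V ≤ DD V R := by
  obtain ⟨a, ha0, ha1⟩ := hF
  set a' : Fˣ := Units.mk0 a ha0 with ha'
  have h1' : tQ τ a' • (π R i (nd.P_le_N hx) • e 1) = (1 : F) • (π R i (nd.P_le_N hx) • e 1) := by
    rw [h, one_smul]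
  have hcj := t_cj q c b τ nd tP hx h1'
  have h0 : ω (π R i (nd.P_le_N hx) • e 1) = 0 := by
    have h1 := q.t_ω c τ a' (π R i (nd.P_le_N hx) • e 1)
    have h2 : pr (R i) ⟨t (a' : F), τ.normR a'.ne_zero⟩ • (π R i (nd.P_le_N hx) • e 1) =
      π R i (nd.P_le_N hx) • e 1 := h a'
    rw [h2] at h1
    change _ = a ^ 2 * _ at h1
    have h3 : ((a - 1) * (a - 1)) * ω (π R i (nd.P_le_N hx) • e 1) = 0 := by
      linear_combination -h1 - (a - 1) * ω (π R i (nd.P_le_N hx) • e 1) * (CharTwo.two_eq_zero (R := F))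
    exact (mul_eq_zero.1 h3).resolve_left (mul_ne_zero (sub_ne_zero.2 ha1) (sub_ne_zero.2 ha1))
  intro z hz
  have hzU := mem_UU_of q c nd hx h0 hz
  have hzW := nd.line_le hx hz
  have hz' : t a * z * (t a)⁻¹ ∈ cj x V := by
    rw [← hcj]
    exact conj_mem_cj hz
  have hcR : t a * z * (t a)⁻¹ * z⁻¹ ∈ R i := by
    refine nd.line_inf_Z b.toBT hx (mul_mem hz' (inv_mem hz)) ?_
    rw [← q.toMZ.p_ker _ (mul_mem (nd.line_le hx hz') (inv_mem hzW)),
      ← q.toMZ.smul_sub (τ.normR ha0) hzW]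
    obtain ⟨β, γ, h2⟩ := (c.mem_V _).1 (mem_cj.1 hz)
    have h3 : z = x * v β γ * x⁻¹ := by rw [h2]; group
    have h4 : pr (R i) ⟨t a, τ.normR ha0⟩ • (π R i (nd.P_le_N hx) • e 1) = π R i (nd.P_le_N hx) • e 1 := h a'
    rw [h3, p_line q c (nd.PR hx) (nd.P_le_N hx)]
    have h5 := q.t_smul c τ a' γ (π R i (nd.P_le_N hx) • e 1)
    change pr (R i) ⟨t a, τ.normR ha0⟩ • _ = γ • (pr (R i) ⟨t a, τ.normR ha0⟩ • _) at h5
    rw [h5, h4, sub_self]
  have hzY := UU_le_YY i hzU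
  have htzY : t a * z * (t a)⁻¹ ∈ YY V R := by
    have h6 := mul_mem (b.toBT.D_le_Y (V_le_D V R (b.toBT.R_le i hcR))) hzY
    rwa [inv_mul_cancel_right] at h6
  have h7 := (y.mem_D _ (b.toBT.D_le_Y (V_le_D V R (b.toBT.R_le i hcR)))).1 (V_le_D V R (b.toBT.R_le i hcR))
  rw [y.mul1 _ htzY _ (inv_mem hzY), y.inv1 hzY, (t_Y b.toBT c τ y ha0 hzY).1] at h7
  have h8 : (a - 1) • P1 z = 0 := by rw [sub_smul, one_smul, sub_eq_add_neg]; exact h7.1
  exact (y.mem_D z hzY).2 ⟨(smul_eq_zero.1 h8).resolve_left (sub_ne_zero.2 ha1), (y.mem_U1 z hzY).1 hzU⟩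

end Cfsg.Agent.Omega.HOneQ.NodeQ
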