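import Cfsg.Agent.Omega.HOneQ.NodeQOut

/-!
# II.0h1, split, `q ≥ 4`: outputs of the node theorem for a node `P` (#15939)

* (o3) `NBQ.rigid` : type `β`: `V` and `V'` are the only lines in `V V' Z_i`;
* (o4) `NSQ.tau` : type `σ`: `τ = p₀ t_a` trivial on `W_N Z_i / Z_i`, `p₀` centralises `Ψ`;
* (o5) `NQ.dc`, `NQ.hK2` : `N^⊥⊥ = N`, `[W_i, m⁻¹ V' m] ≤ W_N Z_i`.
-/

set_option autoImplicit false
set_option linter.unusedSectionVars false

namespace Cfsg.Agent.Omega.HOneQ.NodeQ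

open Subgroup Cfsg.Agent.Omega.BTwo Cfsg.Agent.Omega.Lie Cfsg.Agent.Omega.Lie.Quot Cfsg.Agent.Omega.HOne
  Cfsg.Agent.Omega.HOne.ModZ Cfsg.Agent.Omega.Lie.Nodes

universe u v w

variable {G : Type u} [Group G] {ι : Type w} {V : Subgroup G} {R : ι → Subgroup G} {i j : ι}
  {F : Type v} [Field F] {v : F → F → G} {w1 w2 t : F → G}
  {M : Type u} [AddCommGroup M] [Module F M] [DistribMulAction (HQ (R i)) M] {p : G → M}
  {f : M →ₗ[F] M →ₗ[F] F} {e : F →ₗ[F] M} {ω : M →ₗ[F] F} {σ : HQ (R i) →* RingAut F} {κ : HQ (R i) → F}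
  [Finite G] {P : Subgroup G} {N : Type u} [AddCommGroup N] [Module F N] {P1 P2 : G → N}

section pre

variable (m : MZ V R i M p)
include m

/-- the preimage in `W_i` of a submodule -/
def preW (L : Submodule F M) : Subgroup G where
  carrier := {x | x ∈ WW V (R i) ∧ p x ∈ L}
  one_mem' := ⟨one_mem _, by rw [m.p_one]; exact zero_mem _⟩
  mul_mem' := by
    rintro x y ⟨hx, h⟩ ⟨hy, h'⟩
    exact ⟨mul_mem hx hy, by rw [m.p_mul x hx y hy]; exact add_mem h h'⟩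
  inv_mem' := by
    rintro x ⟨hx, h⟩
    exact ⟨inv_mem hx, by rw [m.p_inv hx]; exact neg_mem h⟩

theorem ZZ_le_preW (L : Submodule F M) : ZZ V R i ≤ preW m L := fun x hx =>
  ⟨hx.1, by rw [(m.p_ker x hx.1).2 hx]; exact zero_mem _⟩

/-- `x ∈ K Z_i` if `p x ∈ p(K)` -/
theorem mem_sup_of {K : Subgroup G} {x : G} (hx : x ∈ WW V (R i)) (h : p x ∈ m.sb K) : x ∈ K ⊔ ZZ V R i := by
  obtain ⟨k, hk, hkW, h1⟩ := h
  have h2 := (m.p_eq_iff hx hkW).1 h1.symm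
  have h3 : x = x * k⁻¹ * k := by group
  rw [h3]
  exact mul_mem ((le_sup_right : ZZ V R i ≤ _) h2) ((le_sup_left : K ≤ _) hk)

end pre

section one

variable (q : Fq V R i v M p f e ω σ κ) (c : Coord V R i j v w1 w2) (nd : Nd V R i j P)
include q c nd

/-- a line is in the preimage of `L` if its point is -/
theorem line_le_preW {x : G} (hx : x ∈ P) {L : Submodule F M} (h : π R i (nd.P_le_N hx) • e 1 ∈ L) :
    cj x V ≤ preW q.toMZ L := by
  intro z hz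
  refine ⟨nd.line_le hx hz, ?_⟩
  obtain ⟨β, γ, h2⟩ := (c.mem_V _).1 (mem_cj.1 hz)
  have h3 : z = x * v β γ * x⁻¹ := by rw [h2]; group
  rw [h3, p_line q c (nd.PR hx) (nd.P_le_N hx)]
  exact Submodule.smul_mem _ _ h

/-- the image of `W_N` is `N` -/
theorem pWN_iff {m : M} : m ∈ q.toMZ.sb (WN V P) ↔
    m ∈ Submodule.span F {m | ∃ (x : G) (_ : x ∈ P) (hN : x ∈ normalizer (R i : Set G)), m = π R i hN • e 1} := by
  have hWN : WN V P ≤ WW V (R i) := nd.WN_le_W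
  constructor
  · rintro ⟨x, hx, -, rfl⟩
    have h1 : WN V P ≤ preW q.toMZ (Submodule.span F
        {m | ∃ (x : G) (_ : x ∈ P) (hN : x ∈ normalizer (R i : Set G)), m = π R i hN • e 1}) :=
      WN_le fun x hx => line_le_preW q c nd hx (Submodule.subset_span ⟨x, hx, nd.P_le_N hx, rfl⟩)
    exact (h1 hx).2
  · intro hm
    let L : Submodule F M :=
      { carrier := {m | ∀ a : F, a • m ∈ q.toMZ.sb (WN V P)}
        zero_mem' := fun a => by rw [smul_zero]; exact zero_mem _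
        add_mem' := fun {m m'} h h' a => by rw [smul_add]; exact add_mem (h a) (h' a)
        smul_mem' := fun a' m h a => by rw [smul_smul]; exact h _ }
    have h0 : Submodule.span F {m | ∃ (x : G) (_ : x ∈ P) (hN : x ∈ normalizer (R i : Set G)),
        m = π R i hN • e 1} ≤ L := by
      rw [Submodule.span_le]
      rintro _ ⟨x, hx, hN, rfl⟩ a
      have h1 := p_line q c (nd.PR hx) hN 0 a
      change a • _ ∈ _
      rw [← h1]
      have h2 : x * v 0 a * x⁻¹ ∈ WN V P := line_le_WN hx (conj_mem_cj (c.v_mem 0 a))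
      exact q.toMZ.p_mem (hWN h2) h2
    have h1 := h0 hm 1
    rwa [one_smul] at h1

end one

section dc

variable (q : Fq V R i v M p f e ω σ κ) (c : Coord V R i j v w1 w2) (nd : Nd V R i j P)
include q c

/-- commuting elements of `W_i` -/
theorem f_zero_iff {x z : G} (hx : x ∈ WW V (R i)) (hz : z ∈ WW V (R i)) : f (p x) (p z) = 0 ↔ x * z = z * x := by
  have h1 := q.f_eq x hx z hz
  constructor
  · intro h
    rw [h, c.v_zero] at h1
    rw [← mul_inv_eq_one, ← h1]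
    group
  · intro h
    have h2 : x * z * x⁻¹ * z⁻¹ = 1 := by rw [h]; group
    rw [h2, ← c.v_zero] at h1
    exact (c.v_inj h1).1.symm

include nd

/-- `W⁰ = N^⊥` -/
theorem mem_W0_iff {x : G} (hx : x ∈ WW V (R i)) : x ∈ W0 V R i P ↔
    ∀ m ∈ Submodule.span F {m | ∃ (x : G) (_ : x ∈ P) (hN : x ∈ normalizer (R i : Set G)), m = π R i hN • e 1},
      f (p x) m = 0 := by
  constructor
  · intro h m hm
    obtain ⟨z, hz, hzW, rfl⟩ := (pWN_iff q c nd).2 hm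
    exact (f_zero_iff q c hx hzW).2 (W0_comm h hz)
  · intro h
    refine mem_inf.2 ⟨hx, ?_⟩
    rw [mem_centralizer_iff]
    intro z hz
    have hzW := nd.WN_le_W hz
    exact ((f_zero_iff q c hx hzW).1 (h _ ((pWN_iff q c nd).1 (q.toMZ.p_mem hzW hz)))).symm

variable [Finite F]

/-- **(o5)** : `N^⊥⊥ = N` -/
theorem dc {w : G} (hw : w ∈ WW V (R i)) (h : ∀ x ∈ W0 V R i P, w * x = x * w) : w ∈ WN V P ⊔ ZZ V R i := by
  refine mem_sup_of q.toMZ hw ?_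
  rw [pWN_iff q c nd]
  set L := Submodule.span F {m | ∃ (x : G) (_ : x ∈ P) (hN : x ∈ normalizer (R i : Set G)), m = π R i hN • e 1}
    with hL
  have : Finite M := q.toMZ.finite_M
  have : Module.Finite F M := Module.Finite.of_finite
  have hr : LinearMap.BilinForm.IsRefl f := fun x y h => by rw [q.symm, h]
  have hn : LinearMap.BilinForm.Nondegenerate f :=
    ⟨fun x hx => q.nd x hx, fun x hx => q.nd x fun y => by rw [q.symm, hx y]⟩
  rw [← LinearMap.BilinForm.orthogonal_orthogonal hn hr L, LinearMap.BilinForm.mem_orthogonal_iff]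
  intro m hm
  rw [LinearMap.BilinForm.mem_orthogonal_iff] at hm
  obtain ⟨x, hx, rfl⟩ := q.p_surj m
  have h1 : x ∈ W0 V R i P := (mem_W0_iff q c nd hx).2 fun m hm' => by
    rw [q.symm]
    exact hm m hm'
  exact (f_zero_iff q c hx hw).2 (h x h1).symm

/-- **(hK2)** : `[W_i, m⁻¹ V' m] ≤ W_N Z_i` -/
theorem hK2 (b : BTS V R) (τ : TorD V R i j v t) {m p' : G} (sc : Sc V R i j v t P p') (sw : Sw V R i j t m)
    (hF : ∃ a : F, a ≠ 0 ∧ a ≠ 1) (lin : Sc.Lin V R i P v m p') : ∀ w ∈ WW V (R i), ∀ x ∈ cj p' V,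
      ∃ n ∈ WN V P, ∃ z ∈ ZZ V R i, w * (m⁻¹ * x * m) * w⁻¹ * (m⁻¹ * x * m)⁻¹ = n * z := by
  intro w hw x hx
  set g := m⁻¹ * x * m with hg
  have hgU : g ∈ UU V R j := Sc.conj_U' b sw (sc.leU hx)
  have hgN : g ∈ normalizer (R i : Set G) := b.cen_le_N i (UU_le_cen j hgU)
  have hgH : pr (R i) ⟨g, hgN⟩ ∈ H0 R i := q.cenV_H0 c hgN (UU_le_cen j hgU)
  have hgw : g * w * g⁻¹ ∈ WW V (R i) := conj_mem_of_normalizer (normalizer_le_WW V (R i) hgN) hw
  have h0 : w * g * w⁻¹ * g⁻¹ ∈ WW V (R i) := by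
    rw [show w * g * w⁻¹ * g⁻¹ = w * (g * w * g⁻¹)⁻¹ by group]
    exact mul_mem hw (inv_mem hgw)
  have hp : ∀ {w : G}, w ∈ WW V (R i) → p (w * g * w⁻¹ * g⁻¹) = p w - pr (R i) ⟨g, hgN⟩ • p w := by
    intro w hw
    have hgw : g * w * g⁻¹ ∈ WW V (R i) := conj_mem_of_normalizer (normalizer_le_WW V (R i) hgN) hw
    rw [show w * g * w⁻¹ * g⁻¹ = w * (g * w * g⁻¹)⁻¹ by group, q.p_mul _ hw _ (inv_mem hgw),
      q.toMZ.p_inv hgw, q.p_act g hgN w hw, sub_eq_add_neg]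
  have h1 : w * g * w⁻¹ * g⁻¹ ∈ WN V P ⊔ ZZ V R i := by
    refine dc q c nd h0 fun w0 hw0 => ?_
    rw [← f_zero_iff q c h0 hw0.1, hp hw, map_sub, LinearMap.sub_apply]
    -- `f(g w, w0) = f(w, g⁻¹ w0)`, `g⁻¹ w0 = w0` in `M`
    obtain ⟨a, ha, ψ, hψ, h2⟩ := sc.key b τ sw hF lin hw0 hx
    have h3 : p w0 - pr (R i) ⟨g, hgN⟩ • p w0 = 0 := by
      rw [← hp hw0.1, h2, q.p_ker _ (by rw [← h2]; exact (by
        rw [show w0 * g * w0⁻¹ * g⁻¹ = w0 * (g * w0 * g⁻¹)⁻¹ by group]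
        exact mul_mem hw0.1 (inv_mem (conj_mem_of_normalizer (normalizer_le_WW V (R i) hgN) hw0.1))))]
      exact mul_mem (b.R_le_Z i ha) ⟨D_le_W V R i (Psi_le_D hψ), cen_X_le i (Psi_le_CenX hψ)⟩
    have h4 : f (pr (R i) ⟨g, hgN⟩ • p w) (p w0) = f (p w) (p w0) := by
      rw [← q.H0_isom c hgH (p w) (p w0), ← sub_eq_zero.1 h3]
    rw [h4, sub_self]
  let T : Subgroup G :=
    { carrier := {x | ∃ l ∈ WN V P, ∃ z ∈ ZZ V R i, x = l * z}
      one_mem' := ⟨1, one_mem _, 1, one_mem _, by rw [one_mul]⟩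
      mul_mem' := by
        rintro _ _ ⟨l, hl, z, hz, rfl⟩ ⟨l', hl', z', hz', rfl⟩
        refine ⟨l * l', mul_mem hl hl', z * z', mul_mem hz hz', ?_⟩
        have h1 := z_comm hz (nd.WN_le_W hl')
        calc l * z * (l' * z') = l * (z * l') * z' := by group
          _ = l * l' * (z * z') := by rw [h1]; group
      inv_mem' := by
        rintro _ ⟨l, hl, z, hz, rfl⟩
        refine ⟨l⁻¹, inv_mem hl, z⁻¹, inv_mem hz, ?_⟩
        have h1 := z_comm (inv_mem hz) (nd.WN_le_W (inv_mem hl))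
        rw [mul_inv_rev, h1] }
  have hT : WN V P ⊔ ZZ V R i ≤ T :=
    sup_le (fun l hl => ⟨l, hl, 1, one_mem _, by rw [mul_one]⟩) fun z hz => ⟨1, one_mem _, z, hz, by rw [one_mul]⟩
  exact hT h1

/-- **(o6)** : the `R_j`-part of `[m w m⁻¹, x]` is `F`-linear in `x ∈ V'` -/
theorem linJ (b : BTS V R) (τ : TorD V R i j v t) {m p' : G} (sc : Sc V R i j v t P p') (sw : Sw V R i j t m)
    {w : G} (hw : w ∈ W0 V R i P) : ∃ ρ : F, ∀ y z r s',
      Sc.KX V R P v m w (p' * v y z * p'⁻¹) r s' → s' = z * ρ := by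
  have hwU := Sc.conj_U b sw (W0_le_U hw)
  set u := m * w * m⁻¹ with hu
  have huN : u ∈ normalizer (R i : Set G) := b.cen_le_N i (UU_le_cen j hwU)
  have key : ∀ y z r s', Sc.KX V R P v m w (p' * v y z * p'⁻¹) r s' →
      s' • e 1 = z • (pr (R i) ⟨u, huN⟩ • (π R i (nd.P_le_N sc.mem) • e 1) - π R i (nd.P_le_N sc.mem) • e 1) := by
    intro y z r s' hk
    obtain ⟨ψ, hψ, h1⟩ := hk
    rw [← hu] at h1
    have hxW : p' * v y z * p'⁻¹ ∈ WW V (R i) := nd.line_le sc.mem (conj_mem_cj (c.v_mem y z))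
    have hψZ : ψ ∈ ZZ V R i := ⟨D_le_W V R i (Psi_le_D hψ), cen_X_le i (Psi_le_CenX hψ)⟩
    have h2 := q.toMZ.smul_sub huN hxW
    rw [h1, q.p_mul _ (q.hvW c r s') _ hψZ.1, (q.p_ker _ hψZ.1).2 hψZ, add_zero, q.e_eq, e_smul q c,
      p_line q c (nd.PR sc.mem) (nd.P_le_N sc.mem), q.H0_smul c (q.cenV_H0 c huN (UU_le_cen j hwU))] at h2
    rw [← h2, smul_sub]
  obtain ⟨r1, s1, h1⟩ := sc.kx b τ sw hw (conj_mem_cj (g := p') (c.v_mem 0 1))
  refine ⟨s1, fun y z r s' hk => ?_⟩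
  have h2 := key 0 1 r1 s1 h1
  have h3 := key y z r s' hk
  rw [one_smul] at h2
  rw [← h2, smul_smul, ← sub_eq_zero, ← sub_smul] at h3
  exact sub_eq_zero.1 ((smul_eq_zero.1 h3).resolve_right (e1_ne q c b.toBT))

end dc

section two

variable [Finite F] [CharP F 2]
variable (q : Fq V R i v M p f e ω σ κ) (b : BTS V R) (c : Coord V R i j v w1 w2) (τ : TorD V R i j v t)
  (y : YPair V R i j w1 w2 N P1 P2) (hF : ∃ a : F, a ≠ 0 ∧ a ≠ 1)
  {π' : LinearMap.ker ω →ₗ[F] N ⧸ N0 b.toBT c y} {M0 : Submodule F M} {n : N →ₗ[F] M}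
  {s : N →ₗ[F] N →ₗ[F] M} {sh : N → N →ₗ[F] F}
  (E : EigAbs.Eig f e ω (q.TL c τ) (q.DS b.toBT c τ y hF) (N0 b.toBT c y) π' (q.AL b.toBT c y) M0 n s sh)
  (nd : Nd V R i j P) (tP : ∀ a, a ≠ 0 → t a ∈ normalizer (P : Set G))
include E nd tP

/-- independence of `e`, `s k l`, `n k` -/
theorem indep3 {k l g : N} {a : F} (h : a • e 1 + s k l + n g = 0) : a = 0 ∧ s k l = 0 ∧ n g = 0 := by
  have H := nodeFr q b c τ y hF E nd tP
  obtain ⟨h1, h2, h3⟩ := H.indep a (s k l) ((N0 b.toBT c y).mkQ g) (E.s_mem k l) h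
  refine ⟨h1, h2, ?_⟩
  have h4 : nQ q b c τ y hF E ((N0 b.toBT c y).mkQ g) = 0 := by rw [h3, map_zero]
  exact h4

omit tP in
theorem nk_ne {k : N} (o : NQ V R i P (e 1) (n k) (s k) (fun l => sh l k)) : n k ≠ 0 := by
  intro h0
  obtain ⟨x, hx, hN, a, ha, h1⟩ := o.sc
  rw [h0, smul_zero] at h1
  exact pxe_ne q c b hN h1

/-- **(o3)**, type `β` : `V` and `V'` are the only lines in `V V' Z_i` -/
theorem NBQ.rigid {k : N} (o : NBQ V R i P (e 1) (n k) (s k) (fun l => sh l k)) {x : G} (hx : x ∈ P)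
    (hN : x ∈ normalizer (R i : Set G)) {a : F} (ha : a ≠ 0) (h : π R i hN • e 1 = a • n k) :
    ∀ z ∈ P, cj z V ≤ cj x V ⊔ (V ⊔ ZZ V R i) → cj z V = V ∨ cj z V = cj x V := by
  intro z hz hle
  by_cases hzV : cj z V = V
  · exact Or.inl hzV
  right
  have hzN := nd.P_le_N hz
  obtain ⟨a', ha', l, h1⟩ := o.orb z hz hzN hzV
  set L : Submodule F M := Submodule.span F {n k, e 1} with hL
  have h2 : cj x V ⊔ (V ⊔ ZZ V R i) ≤ preW q.toMZ L := by
    refine sup_le (line_le_preW q c nd hx ?_) (sup_le ?_ (ZZ_le_preW _ _))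
    · change π R i hN • e 1 ∈ L
      rw [h]
      exact L.smul_mem _ (Submodule.subset_span (by simp))
    · have h3 := line_le_preW q c nd (one_mem P) (L := L) (by
        have h4 : π R i (nd.P_le_N (one_mem P)) = 1 := map_one _
        rw [h4, one_smul]
        exact Submodule.subset_span (by simp))
      rwa [cj_one] at h3
  have h3 : π R i hzN • e 1 ∈ L := by
    have h4 := p_line q c (nd.PR hz) hzN 0 1
    rw [one_smul] at h4
    rw [← h4]
    exact (h2 (hle (conj_mem_cj (c.v_mem 0 1)))).2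
  obtain ⟨α, β, h4⟩ := Submodule.mem_span_pair.1 h3
  have h5 : (a' * sh l k - β) • e 1 + s k (a' • l) + n ((a' - α) • k) = 0 := by
    rw [h1] at h4
    rw [map_smul, map_smul, sub_smul, sub_smul]
    have h6 : a' • (n k + s k l + sh l k • e 1) - (α • n k + β • e 1) = 0 := by rw [h4, sub_self]
    rw [← h6, smul_add, smul_add, smul_smul]
    abel
  have h6 := (indep3 q b c τ y hF E nd tP h5).2.1
  rw [map_smul] at h6
  have h7 := (smul_eq_zero.1 h6).resolve_left ha'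
  have h8 : sh l k = 0 := (o.s_iff l).1 h7
  refine (line_iff q c b nd hz hx).2 ⟨a' * a⁻¹, ?_⟩
  change π R i hzN • e 1 = (a' * a⁻¹) • (π R i hN • e 1)
  rw [h1, h7, h8, h, smul_smul, inv_mul_cancel_right₀ ha, zero_smul, add_zero, add_zero]

/-- `u_c ∈ U_j` : `e ↦ e`, `n k ↦ n k + c e` -/
theorem NSQ.exists_u {k : N} (o : NSQ V R i P (e 1) (n k) (s k) (fun l => sh l k)) (c' : F) :
    ∃ u ∈ UU V R j, ∀ (hN : u ∈ normalizer (R i : Set G)), π R i hN • e 1 = e 1 ∧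
      π R i hN • n k = n k + c' • e 1 := by
  have H := nodeFr q b c τ y hF E nd tP
  obtain ⟨l0, hl0⟩ := o.q_ne
  obtain ⟨r, hr'⟩ := FiniteField.isSquare_of_char_two (CharP.eq F (ringChar.charP F) ‹CharP F 2›) (c' * (sh l0 k)⁻¹)
  have hr : r ^ 2 = c' * (sh l0 k)⁻¹ := by rw [sq, ← hr']
  obtain ⟨u, huN, hu, h1⟩ := mem_im.1 (al_mem b.toBT y (r • l0))
  refine ⟨u, hu, fun hN => ?_⟩
  have h2 : π R i hN = al b.toBT y (r • l0) := h1
  rw [h2]
  refine ⟨H.A_e _, ?_⟩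
  have h3 : al b.toBT y (r • l0) • n k = n k + s k (r • l0) + sh (r • l0) k • e 1 :=
    H.A_1 (r • l0) ((N0 b.toBT c y).mkQ k)
  have h4 : sh (r • l0) k = r ^ 2 * sh l0 k := H.q_smul r l0 ((N0 b.toBT c y).mkQ k)
  rw [h3, o.s_zero, add_zero, h4, hr, inv_mul_cancel_right₀ hl0]

/-- **(o4)**, type `σ` : `τ = p₀ t_a` -/
theorem NSQ.tau {k : N} (o : NSQ V R i P (e 1) (n k) (s k) (fun l => sh l k)) {p' : G}
    (sc : Sc V R i j v t P p') {a : F} (ha : a ≠ 0) : ∃ p₀ ∈ P,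
      (∀ x ∈ WN V P, (p₀ * t a) * x * (p₀ * t a)⁻¹ * x⁻¹ ∈ ZZ V R i) ∧ ∀ ψ ∈ Psi V R P, p₀ * ψ = ψ * p₀ := by
  have H := nodeFr q b c τ y hF E nd tP
  have hPN := nd.P_le_N
  -- elements of `P` acting on `⟨e, n k⟩` and centralising `Ψ`
  let A : F → F → F → F → G → Prop := fun x1 x2 y1 y2 g => g ∈ P ∧ (∀ ψ ∈ Psi V R P, g * ψ = ψ * g) ∧
    ∀ (hN : g ∈ normalizer (R i : Set G)), π R i hN • e 1 = x1 • e 1 + x2 • n k ∧
      π R i hN • n k = y1 • e 1 + y2 • n k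
  have hA : ∀ {x1 x2 y1 y2 g x1' x2' y1' y2' g'}, A x1 x2 y1 y2 g → A x1' x2' y1' y2' g' →
      A (x1' * x1 + x2' * y1) (x1' * x2 + x2' * y2) (y1' * x1 + y2' * y1) (y1' * x2 + y2' * y2) (g * g') := by
    rintro x1 x2 y1 y2 g x1' x2' y1' y2' g' ⟨hg, hc, h⟩ ⟨hg', hc', h'⟩
    refine ⟨mul_mem hg hg', fun ψ hψ => by rw [mul_assoc, hc' ψ hψ, ← mul_assoc, hc ψ hψ, mul_assoc], fun hN => ?_⟩
    have h1 : π R i hN = π R i (hPN hg) * π R i (hPN hg') := by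
      unfold π
      rw [← map_mul]
      rfl
    have hl := fun (a : F) (m : M) => cen_smul q c (nd.PR hg) (hPN hg) a m
    rw [h1, mul_smul, mul_smul, (h' (hPN hg')).1, (h' (hPN hg')).2, smul_add, smul_add, hl, hl, hl, hl,
      (h (hPN hg)).1, (h (hPN hg)).2]
    constructor <;> module
  obtain ⟨x, hx, hxN, β, γ, hβ, hγ, hx1, hx2⟩ := o.m
  have hUc : ∀ ψ ∈ Psi V R P, ∀ u ∈ UU V R j, u * ψ = ψ * u := fun ψ hψ u hu =>
    mem_centralizer_iff.1 (Psi_le_CenX hψ) u (YY_le_XX (UU_le_YY j hu))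
  have hU : ∀ c', ∃ u, A 1 0 c' 1 u := by
    intro c'
    obtain ⟨u, hu, h1⟩ := NSQ.exists_u q b c τ y hF E nd tP o c'
    refine ⟨u, nd.UP hu, fun ψ hψ => hUc ψ hψ u hu, fun hN => ?_⟩
    rw [(h1 hN).1, (h1 hN).2]
    constructor <;> module
  have hL : ∀ d', ∃ u, A 1 d' 0 1 u := by
    intro d'
    obtain ⟨u, hu, h1⟩ := NSQ.exists_u q b c τ y hF E nd tP o (d' * γ * β⁻¹)
    have hxu : x * u * x⁻¹ ∈ P := mul_mem (mul_mem hx (nd.UP hu)) (inv_mem hx)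
    refine ⟨x * u * x⁻¹, hxu, fun ψ hψ => ?_, fun hN => ?_⟩
    · have h2 : x⁻¹ * ψ * x ∈ WN V P := conj_inv_mem_of_normalizer (P_norm_WN hx) hψ.1
      have h3 : x⁻¹ * ψ * x ∈ ZZ V R i := by
        have h4 := (nd.cj_Z (inv_mem hx)).le (conj_mem_cj (g := x⁻¹)
          (show ψ ∈ ZZ V R i from ⟨D_le_W V R i (Psi_le_D hψ), cen_X_le i (Psi_le_CenX hψ)⟩))
        rwa [inv_inv] at h4
      obtain ⟨r, hr, h4⟩ := sc.WN_Z b τ hF h2 h3
      have h5 : u * (x⁻¹ * ψ * x) = (x⁻¹ * ψ * x) * u := BT.EE_comm b.toBT ⟨r, hr, h4.2⟩ hu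
      calc x * u * x⁻¹ * ψ = x * (u * (x⁻¹ * ψ * x)) * x⁻¹ := by group
        _ = x * ((x⁻¹ * ψ * x) * u) * x⁻¹ := by rw [h5]
        _ = ψ * (x * u * x⁻¹) := by group
    · have huN := hPN (nd.UP hu)
      have h2 : π R i hN = π R i hxN * π R i huN * (π R i hxN)⁻¹ := by
        unfold π
        rw [← map_inv, ← map_mul, ← map_mul]
        rfl
      have hl := fun (a : F) (m : M) => cen_smul q c (nd.PR hx) hxN a m
      have hlu := fun (a : F) (m : M) => cen_smul q c (nd.PR (nd.UP hu)) huN a m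
      have h3 : (π R i hxN)⁻¹ • e 1 = γ⁻¹ • n k := by
        rw [inv_smul_eq_iff, hl, hx2, inv_smul_smul₀ hγ]
      have h4 : (π R i hxN)⁻¹ • n k = β⁻¹ • e 1 := by
        rw [inv_smul_eq_iff, hl, hx1, inv_smul_smul₀ hβ]
      constructor
      · rw [h2, mul_smul, mul_smul, h3, hlu, (h1 huN).2, hl, smul_add, hl, hx1, hx2, smul_add, smul_smul,
          smul_smul, smul_smul, inv_mul_cancel₀ hγ]
        congr 2
        field_simp
      · rw [h2, mul_smul, mul_smul, h4, hlu, (h1 huN).1, hl, hx1, smul_smul, inv_mul_cancel₀ hβ]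
        module
  have hw : ∀ c', c' ≠ 0 → ∃ g, A 0 c'⁻¹ c' 0 g := by
    intro c' hc'
    obtain ⟨u, hu⟩ := hU c'
    obtain ⟨l, hl⟩ := hL c'⁻¹
    have h1 := hA (hA hu hl) hu
    have h2 : (1 : F) + 1 = 0 := CharTwo.add_self_eq_zero 1
    refine ⟨u * l * u, ?_⟩
    have hi := inv_mul_cancel₀ hc'
    have e1 : (0 : F) = 1 * (1 * 1 + c'⁻¹ * c') + 0 * (0 * 1 + 1 * c') := by linear_combination -h2 - hi
    have e2 : c'⁻¹ = 1 * (1 * 0 + c'⁻¹ * 1) + 0 * (0 * 0 + 1 * 1) := by ring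
    have e3 : c' = c' * (1 * 1 + c'⁻¹ * c') + 1 * (0 * 1 + 1 * c') := by
      linear_combination -c' * h2 - c' * hi
    have e4 : (0 : F) = c' * (1 * 0 + c'⁻¹ * 1) + 1 * (0 * 0 + 1 * 1) := by linear_combination -h2 - hi
    rw [← e1, ← e2, ← e3, ← e4] at h1
    exact h1
  obtain ⟨g1, h1⟩ := hw a ha
  obtain ⟨g2, h2⟩ := hw 1 one_ne_zero
  have h3 := hA h1 h2
  obtain ⟨p₀, hp₀⟩ : ∃ g, A a 0 0 a⁻¹ g := ⟨g1 * g2, by convert h3 using 1 <;> simp⟩
  refine ⟨p₀, hp₀.1, fun z hz => ?_, hp₀.2.1⟩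
  have htR : t a ∈ normalizer (R i : Set G) := τ.normR ha
  have hgN : p₀ * t a ∈ normalizer (R i : Set G) := mul_mem (hPN hp₀.1) htR
  have hzW := nd.WN_le_W hz
  rw [← q.toMZ.p_ker _ (MZ.comm_mem_W hgN hzW), ← q.toMZ.smul_sub hgN hzW, sub_eq_zero]
  have hpz := (pWN_iff q c nd).1 (q.toMZ.p_mem hzW hz)
  have h4 : pr (R i) ⟨p₀ * t a, hgN⟩ = π R i (hPN hp₀.1) * tQ τ (Units.mk0 a ha) := by
    unfold tQ π
    rw [← map_mul]
    rfl
  rw [h4]
  have hlin : ∀ (a' : F) (m : M), (π R i (hPN hp₀.1) * tQ τ (Units.mk0 a ha)) • (a' • m) =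
      a' • ((π R i (hPN hp₀.1) * tQ τ (Units.mk0 a ha)) • m) := by
    intro a' m
    rw [mul_smul, mul_smul, H.T_lin, cen_smul q c (nd.PR hp₀.1) (hPN hp₀.1)]
  have he : (π R i (hPN hp₀.1) * tQ τ (Units.mk0 a ha)) • e 1 = e 1 := by
    rw [mul_smul, H.T_e, cen_smul q c (nd.PR hp₀.1) (hPN hp₀.1), (hp₀.2.2 _).1, zero_smul, add_zero]
    exact inv_smul_smul₀ ha _
  have hn : (π R i (hPN hp₀.1) * tQ τ (Units.mk0 a ha)) • n k = n k := by
    have h5 : tQ τ (Units.mk0 a ha) • n k = a • n k := H.T_1 (Units.mk0 a ha) ((N0 b.toBT c y).mkQ k)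
    rw [mul_smul, h5, cen_smul q c (nd.PR hp₀.1) (hPN hp₀.1), (hp₀.2.2 _).2, zero_smul, zero_add,
      smul_inv_smul₀ ha]
  let L : Submodule F M :=
    { carrier := {m | (π R i (hPN hp₀.1) * tQ τ (Units.mk0 a ha)) • m = m}
      zero_mem' := smul_zero _
      add_mem' := fun {m m'} h h' => by
        change _ • (m + m') = m + m'
        rw [smul_add, h, h']
      smul_mem' := fun a' m h => by
        change _ • (a' • m) = a' • m
        rw [hlin, h] }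
  rw [← o.hspan] at hpz
  have hrange : LinearMap.range (s k) = ⊥ := by
    rw [LinearMap.range_eq_bot]
    exact LinearMap.ext o.s_zero
  rw [hrange, sup_bot_eq] at hpz
  have hle : Submodule.span F {e 1} ⊔ Submodule.span F {n k} ≤ L := by
    rw [sup_le_iff, Submodule.span_singleton_le_iff_mem, Submodule.span_singleton_le_iff_mem]
    exact ⟨he, hn⟩
  exact hle hpz

end two

end Cfsg.Agent.Omega.HOneQ.NodeQ
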