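import Cfsg.Agent.Omega.HOne.SimpleOf

/-!
# LEMMA NA-h1: `N_H(A)` fixes the line `e'` (II.0h1 split, `q ≥ 4`; OMEGA #17641 (2)); helper866

`M' = W i / Z(W i)` with its `F`-structure (`Fq`), `A` the image of `U j`, `e'` the line `V`.

* `Pre.not_quad` : `[M', A, A] ≠ 0` if `A` is faithful and `N₀ ≠ 0`;
* `Pre.exists_line` : `e'` is `[M', A, A]` or `[M', A, A, A]`;
* `normA` : `g ∈ H` with `A^g ≤ A` fixes `e'`.
-/

set_option autoImplicit false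
set_option linter.unusedSectionVars false

namespace Cfsg.Agent.Omega.HOneQ.NormA

open Cfsg.Agent.Omega.HOne.EigAbs

section Abs

variable {F : Type*} [Field F] {M : Type*} [AddCommGroup M] [Module F M] {N : Type*} [AddCommGroup N] [Module F N]
  {f : M →ₗ[F] M →ₗ[F] F} {e : F →ₗ[F] M} {ω : M →ₗ[F] F} {T : Fˣ → M →ₗ[F] M} {D : Submodule F M}
  {N0 : Submodule F N} {π : LinearMap.ker ω →ₗ[F] N ⧸ N0} {Λ : D →ₗ[F] N →ₗ[F] F} {A : N → M →ₗ[F] M}

/-- `A k D ⊆ e` -/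
theorem A_D (h : Pre f e ω T D N0 π Λ A) (k : N) {x : M} (hx : x ∈ D) : A k x = e (Λ ⟨x, hx⟩ k) := h.AΛ k ⟨x, hx⟩

/-- `A k P ⊆ D` -/
theorem A_P (h : Pre f e ω T D N0 π Λ A) (k : N) {x : M} (hx : ω x = 0) : A k x ∈ D := by
  have h1 := h.Aπ k x
  rw [hx, zero_smul] at h1
  exact (h.πk _).1 h1

/-- `D ∩ C(A) = e` -/
theorem mem_e_of (h : Pre f e ω T D N0 π Λ A) {x : M} (hx : x ∈ D) (hA : ∀ k, A k x = 0) : ∃ γ, x = e γ := by
  refine h.Λe ⟨x, hx⟩ ?_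
  ext k
  have h1 := hA k
  rw [A_D h k hx] at h1
  exact h.e_inj _ h1

/-- **`[M', A, A] ≠ 0`** -/
theorem not_quad (h : Pre f e ω T D N0 π Λ A) (hf : ∀ k, (∀ x, A k x = 0) → k = 0) (hN : ∃ k ∈ N0, k ≠ 0) :
    ∃ k k' x, A k (A k' x) ≠ 0 := by
  by_contra hq
  push Not at hq
  obtain ⟨M0, n, s, sh, E⟩ := h.exists_eig
  obtain ⟨x0, hx0⟩ := h.ω1
  obtain ⟨a, ha⟩ := h.four
  -- `A k` kills `P` for `k ∈ N₀`
  have hP : ∀ k ∈ N0, ∀ y, ω y = 0 → A k y = 0 := by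
    intro k hk y hy
    have hnk : n k = 0 := (E.n_ker k).2 hk
    have hd : ∀ d ∈ M0, A k d = 0 := fun d hd => by rw [E.A_0 k d hd, hnk, map_zero, map_zero]
    have hn : ∀ g, A k (n g) = 0 := by
      intro g
      have h1 := E.A_top g x0
      rw [hx0, one_smul] at h1
      obtain ⟨c, d, hd', h2⟩ := (E.mem_D _).1 h1
      have h3 : n g = A g x0 - (e c + d) := by rw [← h2]; abel
      rw [h3, map_sub, map_add, hq, E.A_e, hd d hd', add_zero, sub_zero]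
    obtain ⟨c, d, hd', g, rfl⟩ := (E.mem_P y).1 hy
    rw [map_add, map_add, E.A_e, hd d hd', hn, add_zero, add_zero]
  -- `A k x₀ ∈ e`
  have hx : ∀ k ∈ N0, ∃ β, A k x0 = e β := by
    intro k hk
    have hnk : n k = 0 := (E.n_ker k).2 hk
    have h1 := E.A_top k x0
    rw [hnk, smul_zero, sub_zero] at h1
    obtain ⟨c, d, hd, h2⟩ := (E.mem_D _).1 h1
    refine ⟨c, ?_⟩
    have h3 : d = 0 := by
      refine E.inj d hd fun g => ?_
      have h4 := h.Af k x0 (n g)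
      rw [hP k hk _ (E.ω_1 g), add_zero, map_add, LinearMap.add_apply, add_eq_left, h2, map_add,
        LinearMap.add_apply, h.symm (e c), h.fe, E.ω_1, zero_mul, zero_add] at h4
      exact h4
    rw [h2, h3, add_zero]
  choose! β hβ using hx
  have hadd : ∀ k ∈ N0, ∀ k' ∈ N0, β (k + k') = β k + β k' := by
    intro k hk k' hk'
    have h1 := h.Aadd k k' x0
    rw [hq, add_zero, hβ _ (N0.add_mem hk hk'), hβ k hk, hβ k' hk'] at h1
    have h2 := h.e_inj (β (k + k') - (β k + β k')) (by rw [map_sub, map_add, h1, sub_self])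
    exact sub_eq_zero.1 h2
  have hT : ∀ (a : Fˣ), ∀ k ∈ N0, β ((a : F) • k) = (a : F) ^ 3 * β k := by
    intro a k hk
    have h1 := h.AT a⁻¹ k x0
    have h2 : ω (T a⁻¹ x0 - ((a⁻¹ : Fˣ) : F) ^ 2 • x0) = 0 := by
      rw [map_sub, map_smul, h.Tω, hx0, smul_eq_mul, sub_self]
    have h3 : T a⁻¹ x0 = ((a⁻¹ : Fˣ) : F) ^ 2 • x0 + (T a⁻¹ x0 - ((a⁻¹ : Fˣ) : F) ^ 2 • x0) := by abel
    have hak : (a : F) • k ∈ N0 := N0.smul_mem _ hk
    rw [hβ k hk, h.Te] at h1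
    simp only [Units.val_inv_eq_inv_val, inv_inv] at h1 h3 h2
    rw [h3, map_add, map_smul, hP _ hak _ h2, add_zero, hβ _ hak, ← LinearMap.map_smul e,
      ← LinearMap.map_smul e] at h1
    have h4 := h.e_inj (((a : F) • β k) - ((a : F)⁻¹ ^ 2 • β ((a : F) • k))) (by rw [map_sub, h1, sub_self])
    rw [smul_eq_mul, smul_eq_mul, sub_eq_zero] at h4
    have h5 := a.ne_zero
    field_simp at h4
    linear_combination -h4
  obtain ⟨k, hk, hk0⟩ := hN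
  apply hk0
  apply hf
  have hβ0 : β k = 0 := by
    have ha2 : (1 : F) + a ≠ 0 := by
      intro h'
      apply ha
      linear_combination h' - h.two
    have h1 := hadd k hk ((a : F) • k) (N0.smul_mem _ hk)
    have h2 := hT a k hk
    have h3 := hT (Units.mk0 (1 + (a : F)) ha2) k hk
    rw [Units.val_mk0] at h3
    rw [add_smul, one_smul, h1, h2] at h3
    have h4 : (a : F) * (1 + a) * β k = 0 := by
      linear_combination (-1 : F) * h3 - ((a : F) + (a : F) ^ 2) * β k * h.two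
    rcases mul_eq_zero.1 h4 with h5 | h5
    · exact absurd h5 (mul_ne_zero a.ne_zero ha2)
    · exact h5
  intro x
  have e1 : x = ω x • x0 + (x - ω x • x0) := by abel
  have h2 : ω (x - ω x • x0) = 0 := by rw [map_sub, map_smul, hx0, smul_eq_mul, mul_one, sub_self]
  rw [e1, map_add, map_smul, hP k hk _ h2, hβ k hk, hβ0, map_zero, smul_zero, add_zero]

/-- **`e' = [M', A, A]` or `e' = [M', A, A, A]`** -/
theorem exists_line (h : Pre f e ω T D N0 π Λ A) (hf : ∀ k, (∀ x, A k x = 0) → k = 0) (hN : ∃ k ∈ N0, k ≠ 0) :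
    ((∃ k k' k'' x, A k (A k' (A k'' x)) = e 1) ∧ ∀ k k' k'' x, ∃ γ, A k (A k' (A k'' x)) = e γ) ∨
      ((∃ k k' x, A k (A k' x) = e 1) ∧ ∀ k k' x, ∃ γ, A k (A k' x) = e γ) := by
  have hsc : ∀ {γ : F} (_ : γ ≠ 0), e 1 = γ⁻¹ • e γ := fun {γ} hγ => by
    rw [← LinearMap.map_smul e, smul_eq_mul, inv_mul_cancel₀ hγ]
  by_cases h3 : ∃ k k' k'' x, A k (A k' (A k'' x)) ≠ 0
  · left
    have key : ∀ k k' k'' x, ∃ γ, A k (A k' (A k'' x)) = e γ := fun k k' k'' x =>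
      ⟨_, A_D h k (A_P h k' (h.Aω k'' x))⟩
    refine ⟨?_, key⟩
    obtain ⟨k, k', k'', x, hx⟩ := h3
    obtain ⟨γ, hγ⟩ := key k k' k'' x
    have hγ0 : γ ≠ 0 := by
      rintro rfl
      exact hx (by rw [hγ, map_zero])
    exact ⟨k, k', k'', γ⁻¹ • x, by rw [map_smul, map_smul, map_smul, hγ, ← hsc hγ0]⟩
  · right
    push Not at h3
    have key : ∀ k k' x, ∃ γ, A k (A k' x) = e γ := fun k k' x =>
      mem_e_of h (A_P h k (h.Aω k' x)) fun k'' => h3 k'' k k' x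
    refine ⟨?_, key⟩
    obtain ⟨k, k', x, hx⟩ := not_quad h hf hN
    obtain ⟨γ, hγ⟩ := key k k' x
    have hγ0 : γ ≠ 0 := by
      rintro rfl
      exact hx (by rw [hγ, map_zero])
    exact ⟨k, k', γ⁻¹ • x, by rw [map_smul, map_smul, hγ, ← hsc hγ0]⟩

/-- an additive bijection `g` with `g a g⁻¹ ∈ A` for all `a ∈ A` fixes `e'` -/
theorem line_fix (h : Pre f e ω T D N0 π Λ A) (hf : ∀ k, (∀ x, A k x = 0) → k = 0) (hN : ∃ k ∈ N0, k ≠ 0)
    {g : M → M} (hg : ∀ k, ∃ k', ∀ x, g (A k x) = A k' (g x)) : ∃ γ, g (e 1) = e γ := by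
  rcases exists_line h hf hN with ⟨⟨k, k', k'', x, hx⟩, h1⟩ | ⟨⟨k, k', x, hx⟩, h1⟩
  · obtain ⟨l, hl⟩ := hg k
    obtain ⟨l', hl'⟩ := hg k'
    obtain ⟨l'', hl''⟩ := hg k''
    obtain ⟨γ, hγ⟩ := h1 l l' l'' (g x)
    exact ⟨γ, by rw [← hx, hl, hl', hl'', hγ]⟩
  · obtain ⟨l, hl⟩ := hg k
    obtain ⟨l', hl'⟩ := hg k'
    obtain ⟨γ, hγ⟩ := h1 l l' (g x)
    exact ⟨γ, by rw [← hx, hl, hl', hγ]⟩

end Abs

section Real

open Subgroup Cfsg.Agent.Omega.BTwo Cfsg.Agent.Omega.Lie Cfsg.Agent.Omega.Lie.Quot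
open Cfsg.Agent.Omega.HOne.ModZ

universe u v w

variable {G : Type u} [Group G] [Finite G] {ι : Type w} {V : Subgroup G} {R : ι → Subgroup G} {i j : ι}
  {F : Type v} [Field F] [Finite F] [CharP F 2] {v : F → F → G} {w1 w2 t : F → G}
  {M : Type u} [AddCommGroup M] [Module F M] [DistribMulAction (HQ (R i)) M] {p : G → M}
  {f : M →ₗ[F] M →ₗ[F] F} {e : F →ₗ[F] M} {ω : M →ₗ[F] F} {σ : HQ (R i) →* RingAut F} {κ : HQ (R i) → F}
  {N : Type u} [AddCommGroup N] [Module F N] {P1 P2 : G → N}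

/-- **LEMMA NA-h1.** -/
theorem normA (q : Fq V R i v M p f e ω σ κ) (b : BTS V R) (c : Coord V R i j v w1 w2) (τ : TorD V R i j v t)
    (y : YPair V R i j w1 w2 N P1 P2) (hF : ∃ a : F, a ≠ 0 ∧ a ≠ 1)
    (hodd : Odd ((normalizer (V : Set G)).relIndex (normalizer (R i : Set G))))
    (hz : ∃ z ∈ ZZ V R j, z ∉ DD V R) {g : HQ (R i)} (hg : ∀ a ∈ AA V R i j, g * a * g⁻¹ ∈ AA V R i j) :
    ∃ γ, g • e 1 = e γ := by
  obtain ⟨π, Λ, h, -, -⟩ := q.exists_pre b c τ y hF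
  obtain ⟨z, hz, hzD⟩ := hz
  refine line_fix h (fun k hk => q.al_faithful b c τ y hF hodd fun x => sub_eq_zero.1 (hk x))
    (Fq.exists_AZ b.toBT c y hz hzD) (g := fun x => g • x) fun k => ?_
  obtain ⟨k', hk'⟩ := (mem_AA b.toBT y).1 (hg _ (al_mem b.toBT y k))
  refine ⟨k', fun x => ?_⟩
  show g • (al b.toBT y k • x - x) = al b.toBT y k' • (g • x) - g • x
  rw [hk', smul_sub, smul_smul, smul_smul, inv_mul_cancel_right]

end Real

end Cfsg.Agent.Omega.HOneQ.NormA
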