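import Mathlib

/-!
# LEMMA NE: `N_H(e') = N_H(e)` (II.0h1 split, `q ≥ 4`; replaces (5.2), (5.3)), abstract form

`H` acts on `M`, `e`, `rad` subgroups of `M`, `e ∩ rad = 0`.  `Γ` normalises `e + rad`, `Γ₀ ⊴ Γ` is trivial on `(e + rad)/rad`,
`S₀ ≤ Γ₀` of odd index fixes `e` pointwise; `A ≤ Γ₀`, `T ≤ Γ`, `T Γ₀ ⊴ Γ`, `e = [e, T]` and `C_rad(A) ≤ C_rad(T)`.
Then `Γ₀` fixes `e` pointwise and `Γ` normalises `e`.
-/

set_option autoImplicit false
set_option linter.unusedSectionVars false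

namespace Cfsg.Agent.Omega.HOneQ.NormE

open Subgroup

variable {H : Type*} [Group H] {M : Type*} [AddCommGroup M] [DistribMulAction H M]

/-- averaging over the cosets of a subgroup of odd index -/
theorem exists_avg [Finite H] {K S : Subgroup H} (hodd : Odd (S.relIndex K)) (h2 : ∀ m : M, m + m = 0)
    {x : M} (hx : ∀ s ∈ S, s • x = x) {L : AddSubgroup M} (hK : ∀ g ∈ K, g • x - x ∈ L) :
    ∃ y, (∀ g ∈ K, g • y = y) ∧ y - x ∈ L := by
  classical
  let Q := K ⧸ (S.subgroupOf K)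
  have hfin : Fintype Q := Fintype.ofFinite Q
  let F : Q → M := fun q => Quotient.liftOn' q (fun g : K => (g : H) • x) (by
    intro a b hab
    rw [QuotientGroup.leftRel_apply] at hab
    have h1 := hx _ (mem_subgroupOf.1 hab)
    change ((a : H)⁻¹ * (b : H)) • x = x at h1
    rw [mul_smul, inv_smul_eq_iff] at h1
    exact h1.symm)
  have hF : ∀ g : K, F (QuotientGroup.mk g) = (g : H) • x := fun g => rfl
  refine ⟨∑ q : Q, F q, fun g hg => ?_, ?_⟩
  · rw [Finset.smul_sum]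
    have h1 : ∀ q : Q, g • F q = F ((⟨g, hg⟩ : K) • q) := by
      intro q
      induction q using QuotientGroup.induction_on with
      | H k =>
        rw [hF]
        change g • (k : H) • x = F (QuotientGroup.mk (⟨g, hg⟩ * k))
        rw [hF, smul_smul]
        rfl
    rw [Finset.sum_congr rfl fun q _ => h1 q]
    exact Fintype.sum_bijective _ (MulAction.bijective (⟨g, hg⟩ : K)) _ _ fun q => rfl
  · have hcard : Fintype.card Q • x = x := by
      have h1 : Odd (Fintype.card Q) := by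
        rw [← Nat.card_eq_fintype_card]
        exact hodd
      obtain ⟨k, hk⟩ := h1
      rw [hk, add_smul, one_smul, mul_comm, mul_smul, two_smul, h2, smul_zero, zero_add]
    have h3 : ∑ q : Q, F q - x = ∑ q : Q, (F q - x) := by
      rw [Finset.sum_sub_distrib, Finset.sum_const, Finset.card_univ, hcard]
    rw [h3]
    refine L.sum_mem fun q _ => ?_
    induction q using QuotientGroup.induction_on with
    | H k => exact hK k k.2

/-- the data of LEMMA NE -/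
structure Dat (A T Γ Γ₀ S₀ : Subgroup H) (e rad : AddSubgroup M) : Prop where
  two : ∀ m : M, m + m = 0
  disj : ∀ x ∈ e, x ∈ rad → x = 0
  inv : ∀ g ∈ Γ, ∀ x ∈ e, ∃ x' ∈ e, g • x - x' ∈ rad
  rad_inv : ∀ g ∈ Γ, ∀ x ∈ rad, g • x ∈ rad
  le : Γ₀ ≤ Γ
  norm : ∀ g ∈ Γ, ∀ k ∈ Γ₀, g⁻¹ * k * g ∈ Γ₀
  triv : ∀ k ∈ Γ₀, ∀ x ∈ e, k • x - x ∈ rad
  S_le : S₀ ≤ Γ₀
  odd : Odd (S₀.relIndex Γ₀)
  Se : ∀ s ∈ S₀, ∀ x ∈ e, s • x = x
  A_le : A ≤ Γ₀
  Ae : ∀ a ∈ A, ∀ x ∈ e, a • x = x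
  T_le : T ≤ Γ
  Te : ∀ t ∈ T, ∀ x ∈ e, t • x ∈ e
  TΓ : ∀ g ∈ Γ, ∀ t ∈ T, ∃ t' ∈ T, ∃ k ∈ Γ₀, g * t * g⁻¹ = t' * k
  fpf : e ≤ AddSubgroup.closure {y | ∃ t ∈ T, ∃ x ∈ e, y = t • x - x}
  cA : ∀ x ∈ rad, (∀ a ∈ A, a • x = x) → ∀ t ∈ T, t • x = x

namespace Dat

variable {A T Γ Γ₀ S₀ : Subgroup H} {e rad : AddSubgroup M} (d : Dat A T Γ Γ₀ S₀ e rad)
include d

/-- the fixed points of `Γ₀` in `e + rad` -/
theorem comm_mem {x z : M} (hx : x ∈ e) (hz : z ∈ rad) (h : ∀ k ∈ Γ₀, k • (x + z) = x + z) {t : H} (ht : t ∈ T) :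
    t • (x + z) - (x + z) = t • x - x := by
  have h1 : t • z = z := d.cA z hz (fun a ha => by
    have h2 := h a (d.A_le ha)
    rw [smul_add, d.Ae a ha x hx] at h2
    exact add_left_cancel h2) t ht
  rw [smul_add, h1]
  abel

/-- **`Γ₀` fixes `e` pointwise** -/
theorem fix [Finite H] {x : M} (hx : x ∈ e) : ∀ k ∈ Γ₀, k • x = x := by
  let C : AddSubgroup M :=
    { carrier := {x | ∀ k ∈ Γ₀, k • x = x}
      zero_mem' := fun k _ => smul_zero k
      add_mem' := fun {x y} hx hy k hk => by rw [smul_add, hx k hk, hy k hk]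
      neg_mem' := fun {x} hx k hk => by rw [smul_neg, hx k hk] }
  have h1 : AddSubgroup.closure {y | ∃ t ∈ T, ∃ x ∈ e, y = t • x - x} ≤ C := by
    rw [AddSubgroup.closure_le]
    rintro _ ⟨t, ht, x, hx, rfl⟩
    obtain ⟨y, hy, hyx⟩ := exists_avg d.odd d.two (fun s hs => d.Se s hs x hx) (fun k hk => d.triv k hk x hx)
    have e1 : x + (y - x) = y := by abel
    have h2 := d.comm_mem hx hyx (fun k hk => by rw [e1]; exact hy k hk) ht
    rw [← h2, e1]
    intro k hk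
    have h3 : k • t • y = t • y := by
      have h4 := hy _ (d.norm t (d.T_le ht) k hk)
      rw [mul_smul, mul_smul, inv_smul_eq_iff] at h4
      exact h4
    rw [smul_sub, h3, hy k hk]
  exact h1 (d.fpf hx)

/-- **`Γ` normalises `e`** -/
theorem normalizes [Finite H] {g : H} (hg : g ∈ Γ) {x : M} (hx : x ∈ e) : g • x ∈ e := by
  have key : ∀ t ∈ T, ∀ x ∈ e, g • (t • x - x) ∈ e := by
    intro t ht x hx
    obtain ⟨t', ht', k, hk, e1⟩ := d.TΓ g hg t ht
    obtain ⟨x', hx', hz⟩ := d.inv g hg x hx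
    have hgx : ∀ k ∈ Γ₀, k • g • x = g • x := by
      intro k hk
      have h4 := d.fix hx _ (d.norm g hg k hk)
      rw [mul_smul, mul_smul, inv_smul_eq_iff] at h4
      exact h4
    have e2 : x' + (g • x - x') = g • x := by abel
    have h2 := d.comm_mem hx' hz (fun k hk => by rw [e2]; exact hgx k hk) ht'
    rw [e2] at h2
    have e3 : g • t • x = t' • g • x := by
      have : g * t = t' * k * g := by rw [← e1]; group
      rw [smul_smul, this, mul_smul, mul_smul, hgx k hk]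
    rw [smul_sub, e3, h2]
    exact e.sub_mem (d.Te t' ht' x' hx') hx'
  have h1 : AddSubgroup.closure {y | ∃ t ∈ T, ∃ x ∈ e, y = t • x - x} ≤
      e.comap (DistribSMul.toAddMonoidHom M g) := by
    rw [AddSubgroup.closure_le]
    rintro _ ⟨t, ht, x, hx, rfl⟩
    exact key t ht x hx
  exact h1 (d.fpf hx)

end Dat

end Cfsg.Agent.Omega.HOneQ.NormE
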