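import Cfsg.Agent.Omega.HOneQ.AptInst
import Cfsg.Agent.Omega.HOneQ.NodeQUse

/-!
# II.0h1, split, `q ≥ 4`, residues `(0, x)`, types `(sigma)` and `(beta)`: towards the field `frat`

* `exists_comm_mod` : an element without fixed points on an abelian quotient;
* `Sc.WN_fix` : `C_{W_N}(U_j mod Z_i) ≤ V Z_i`;
* `NodeQ.U_le_dual` : `U_i ≤ [U_j, W_i] W0` (duality), `W0 = C_{W_i}(W_N)`;
* `Sc.tor_fix` : `[t a, w]` centralises `V_2' = m⁻¹ V' m` only if `w ∈ W0` does;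
* `Sc.W0_cen_Sh` : an element of `W0` which centralises `V_2'` centralises `Sh`.
-/

set_option autoImplicit false
set_option linter.unusedSectionVars false

namespace Cfsg.Agent.Omega.HOneQ

open Subgroup Cfsg.Agent.Omega.BTwo
open Cfsg.Agent.Omega.Lie (TorD)

universe u v w

section abs

variable {G : Type u} [Group G]

/-- an element without fixed points on the abelian quotient `Q / N`: every element is a commutator modulo `N` -/
theorem exists_comm_mod [Finite G] {Q N : Subgroup G} {x : G} (hx : x ∈ normalizer (Q : Set G))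
    (hxN : x ∈ normalizer (N : Set G)) (hab : ∀ u ∈ Q, ∀ v ∈ Q, u * v * u⁻¹ * v⁻¹ ∈ N)
    (hNQ : N ≤ Q) (h : ∀ u ∈ Q, x * u * x⁻¹ * u⁻¹ ∈ N → u ∈ N) {u : G} (hu : u ∈ Q) :
    ∃ u' ∈ Q, (x * u' * x⁻¹ * u'⁻¹)⁻¹ * u ∈ N := by
  have hn : (N.subgroupOf Q).Normal := by
    refine ⟨fun n hn g => ?_⟩
    rw [mem_subgroupOf] at hn ⊢
    have h1 := mul_mem (hab g g.2 n n.2) hn
    rwa [inv_mul_cancel_right] at h1
  have hcm : ∀ u ∈ Q, x * u * x⁻¹ * u⁻¹ ∈ Q := fun u hu =>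
    mul_mem (BTwo.conj_mem_of_normalizer hx hu) (inv_mem hu)
  let f : Q → Q ⧸ N.subgroupOf Q := fun u => QuotientGroup.mk ⟨x * u * x⁻¹ * (u : G)⁻¹, hcm u u.2⟩
  have hf : ∀ u v : Q, f (u * v) = f u * f v := by
    intro u v
    change QuotientGroup.mk _ = QuotientGroup.mk _ * QuotientGroup.mk _
    rw [← QuotientGroup.mk_mul, eq_comm, QuotientGroup.eq, mem_subgroupOf]
    change (x * u * x⁻¹ * (u : G)⁻¹ * (x * v * x⁻¹ * (v : G)⁻¹))⁻¹ * (x * ((u : G) * v) * x⁻¹ * ((u : G) * v)⁻¹) ∈ N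
    have h1 := hab _ (inv_mem (hcm v v.2)) u u.2
    have e : (x * u * x⁻¹ * (u : G)⁻¹ * (x * v * x⁻¹ * (v : G)⁻¹))⁻¹ * (x * ((u : G) * v) * x⁻¹ * ((u : G) * v)⁻¹) =
        (x * v * x⁻¹ * (v : G)⁻¹)⁻¹ * u * (x * v * x⁻¹ * (v : G)⁻¹)⁻¹⁻¹ * (u : G)⁻¹ := by group
    rw [e]
    exact h1
  let φ : Q →* Q ⧸ N.subgroupOf Q := MonoidHom.mk' f hf
  have h0 : N.subgroupOf Q ≤ φ.ker := by
    intro n hn
    rw [MonoidHom.mem_ker]
    change QuotientGroup.mk _ = 1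
    rw [QuotientGroup.eq_one_iff, mem_subgroupOf]
    rw [mem_subgroupOf] at hn
    exact mul_mem (BTwo.conj_mem_of_normalizer hxN hn) (inv_mem hn)
  let g : Q ⧸ N.subgroupOf Q →* Q ⧸ N.subgroupOf Q := QuotientGroup.lift _ φ h0
  have hg : Function.Injective g := by
    rw [injective_iff_map_eq_one]
    intro q hq
    obtain ⟨n, rfl⟩ := QuotientGroup.mk_surjective q
    change φ n = 1 at hq
    have h1 : (QuotientGroup.mk (⟨x * n * x⁻¹ * (n : G)⁻¹, hcm n n.2⟩ : Q) : Q ⧸ N.subgroupOf Q) = 1 := hq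
    rw [QuotientGroup.eq_one_iff, mem_subgroupOf] at h1
    rw [QuotientGroup.eq_one_iff, mem_subgroupOf]
    exact h n n.2 h1
  obtain ⟨q, hq⟩ := (Finite.injective_iff_surjective.1 hg) (QuotientGroup.mk ⟨u, hu⟩)
  obtain ⟨n, rfl⟩ := QuotientGroup.mk_surjective q
  have h1 : (QuotientGroup.mk (⟨x * n * x⁻¹ * (n : G)⁻¹, hcm n n.2⟩ : Q) : Q ⧸ N.subgroupOf Q) =
    QuotientGroup.mk ⟨u, hu⟩ := hq
  rw [QuotientGroup.eq, mem_subgroupOf] at h1
  exact ⟨n, n.2, h1⟩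

end abs

variable {G : Type u} [Group G] {ι : Type w} {V : Subgroup G} {R : ι → Subgroup G} {i j : ι} {P : Subgroup G}
  {F : Type v} [Field F] {vv : F → F → G} {t : F → G} {w1 w2 : F → G}

/-- `t a` normalises `U_j` -/
theorem t_norm_Uj (b : BT V R) (τ : TorD V R i j vv t) {a : F} (ha : a ≠ 0) : t a ∈ normalizer (UU V R j : Set G) := by
  have h1 := cj_eq_self_iff.2 (normalizer_le_WW V (R j) (τ.normR' ha))
  have h2 := cj_eq_self_iff.2 (normalizer_le_normalizer_centralizer V (b.X_le_NV (τ.memX a ha)))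
  rw [← cj_eq_self_iff]
  change cj (t a) (WW V (R j) ⊓ centralizer (V : Set G)) = WW V (R j) ⊓ centralizer (V : Set G)
  rw [cj_inf, h1, h2]

namespace Sc

variable {p' : G} (s : Sc V R i j vv t P p') (b : BTS V R) (τ : TorD V R i j vv t)
include s b τ

/-- **`C_{W_N}(U_j mod Z_i) ≤ V Z_i`** -/
theorem WN_fix (hF : ∃ a : F, a ≠ 0 ∧ a ≠ 1) {x : G} (hx : x ∈ WN V P)
    (h : ∀ u ∈ UU V R j, u * x * u⁻¹ * x⁻¹ ∈ ZZ V R i) : x ∈ V ⊔ ZZ V R i := by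
  obtain ⟨a, ha, ha1⟩ := id hF
  have ha1' : a - 1 ≠ 0 := sub_ne_zero.2 ha1
  -- the subgroup
  let Y : Subgroup G :=
    { carrier := {x | x ∈ WN V P ∧ ∀ u ∈ UU V R j, u * x * u⁻¹ * x⁻¹ ∈ ZZ V R i}
      one_mem' := ⟨one_mem _, fun u _ => by
        rw [mul_one, mul_inv_cancel, one_mul, inv_one]; exact one_mem _⟩
      mul_mem' := by
        rintro x y ⟨hx, h1⟩ ⟨hy, h2⟩
        refine ⟨mul_mem hx hy, fun u hu => ?_⟩
        have h3 := z_comm (h2 u hu) (s.WN_le_W hx)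
        have e : u * (x * y) * u⁻¹ * (x * y)⁻¹ = (u * x * u⁻¹ * x⁻¹) * (u * y * u⁻¹ * y⁻¹) := by
          calc u * (x * y) * u⁻¹ * (x * y)⁻¹ = (u * x * u⁻¹ * x⁻¹) * (x * (u * y * u⁻¹ * y⁻¹)) * x⁻¹ := by group
            _ = _ := by rw [← h3]; group
        rw [e]
        exact mul_mem (h1 u hu) (h2 u hu)
      inv_mem' := by
        rintro x ⟨hx, h1⟩
        refine ⟨inv_mem hx, fun u hu => ?_⟩
        have h3 := z_comm (inv_mem (h1 u hu)) (s.WN_le_W hx)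
        have e : u * x⁻¹ * u⁻¹ * x⁻¹⁻¹ = (u * x * u⁻¹ * x⁻¹)⁻¹ := by
          calc u * x⁻¹ * u⁻¹ * x⁻¹⁻¹ = x⁻¹ * ((u * x * u⁻¹ * x⁻¹)⁻¹ * x) := by group
            _ = x⁻¹ * (x * (u * x * u⁻¹ * x⁻¹)⁻¹) := by rw [← h3]
            _ = _ := by group
        rw [e]
        exact inv_mem (h1 u hu) }
  have hYV : V ≤ Y := fun z hz => ⟨V_le_WN V P hz, fun u hu => by
    rw [← mem_centralizer_iff.1 (UU_le_cen j hu) z hz, mul_inv_cancel_right, mul_inv_cancel]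
    exact one_mem _⟩
  have hYt : ∀ {a : F}, a ≠ 0 → ∀ {x : G}, x ∈ Y → t a * x * (t a)⁻¹ ∈ Y := by
    intro a ha x hx
    refine ⟨BTwo.conj_mem_of_normalizer (s.t_norm_WN b τ ha) hx.1, fun u hu => ?_⟩
    have h1 := hx.2 _ (BTwo.conj_inv_mem_of_normalizer (t_norm_Uj b.toBT τ ha) hu)
    have h2 := BTwo.conj_mem_of_normalizer (N_le_NZ i (τ.normR ha)) h1
    have e : t a * ((t a)⁻¹ * u * t a * x * ((t a)⁻¹ * u * t a)⁻¹ * x⁻¹) * (t a)⁻¹ =
        u * (t a * x * (t a)⁻¹) * u⁻¹ * (t a * x * (t a)⁻¹)⁻¹ := by group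
    rwa [e] at h2
  obtain ⟨l, hl, d, hd, hdW, rfl⟩ := s.WN_fact b hx
  have hY : l * d ∈ Y := ⟨hx, h⟩
  -- `l ∈ R i`
  have hlR : l ∈ R i := by
    obtain ⟨y, z, rfl⟩ := (s.mem_line τ).1 hl
    rw [s.line_mem_R τ]
    by_contra hz
    set l := p' * vv y z * p'⁻¹ with hl0
    have h1 : t a * l * (t a)⁻¹ * l⁻¹ ∈ Y := by
      have h2 : t a * (l * d) * (t a)⁻¹ * (l * d)⁻¹ ∈ Y := mul_mem (hYt ha hY) (inv_mem hY)
      have h3 : t a * d * (t a)⁻¹ * d⁻¹ ∈ V := b.XD (τ.memX a ha) hd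
      have h4 := s.WN_comm b (V_le_WN V P h3) (inv_mem (line_le_WN s.mem hl))
      have e : t a * l * (t a)⁻¹ * l⁻¹ = t a * (l * d) * (t a)⁻¹ * (l * d)⁻¹ * (t a * d * (t a)⁻¹ * d⁻¹)⁻¹ := by
        calc t a * l * (t a)⁻¹ * l⁻¹ = t a * l * (t a)⁻¹ * ((l⁻¹ * (t a * d * (t a)⁻¹ * d⁻¹)) *
              (t a * d * (t a)⁻¹ * d⁻¹)⁻¹) := by group
          _ = t a * l * (t a)⁻¹ * (((t a * d * (t a)⁻¹ * d⁻¹) * l⁻¹) * (t a * d * (t a)⁻¹ * d⁻¹)⁻¹) := by rw [← h4]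
          _ = _ := by group
      rw [e]
      exact mul_mem h2 (inv_mem (hYV h3))
    rw [hl0, s.sc a _ _ ha] at h1
    have e2 : p' * vv (a * y) (a * z) * p'⁻¹ * (p' * vv y z * p'⁻¹)⁻¹ =
        p' * (vv (a * y) (a * z) * (vv y z)⁻¹) * p'⁻¹ := by group
    rw [e2, v_sub τ] at h1
    have hne : a * z - z ≠ 0 := by
      intro h0
      have h2 : (a - 1) * z = 0 := by linear_combination h0
      exact hz ((mul_eq_zero.1 h2).resolve_left ha1')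
    -- the whole line is in `Y`
    have h2 : cj p' V ≤ Y := by
      intro g hg
      obtain ⟨y', z', rfl⟩ := (s.mem_line τ).1 hg
      by_cases hz' : z' = 0
      · subst hz'
        rw [s.line_R τ]
        exact hYV ((τ.v_mem _).2 ⟨_, _, rfl⟩)
      · have hc : z' * (a * z - z)⁻¹ ≠ 0 := mul_ne_zero hz' (inv_ne_zero hne)
        have h3 := hYt hc h1
        rw [s.sc _ _ _ hc, inv_mul_cancel_right₀ hne] at h3
        have h4 := s.line_add τ (y' - z' * (a * z - z)⁻¹ * (a * y - y)) 0 (z' * (a * z - z)⁻¹ * (a * y - y)) z'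
        rw [sub_add_cancel, zero_add, s.line_R τ] at h4
        rw [h4]
        exact mul_mem (hYV ((τ.v_mem _).2 ⟨_, _, rfl⟩)) h3
    -- `U_j` normalises the line
    have h3 : ∀ u ∈ UU V R j, cj u (cj p' V) = cj p' V := by
      intro u hu
      rw [← cj_mul]
      refine s.inj b (mul_mem (s.UP hu) s.mem) s.mem ?_
      rw [cj_mul, cj_le_iff]
      intro g hg
      have e : u * g * u⁻¹ = (u * g * u⁻¹ * g⁻¹) * g := by group
      rw [e]
      exact mul_mem ((le_sup_right : ZZ V R i ≤ _) ((h2 hg).2 u hu)) ((le_sup_left : cj p' V ≤ _) hg)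
    obtain ⟨a1, ha1m, a2, ha2m, -, -, k1, k2, -, k3, -, -⟩ := s.four
    obtain ⟨u1, hu1, e1⟩ := s.trans p' s.mem s.ne a1 ha1m k1
    obtain ⟨u2, hu2, e2⟩ := s.trans p' s.mem s.ne a2 ha2m k2
    rw [h3 u1 hu1] at e1
    rw [h3 u2 hu2] at e2
    exact k3 (e1.symm.trans e2)
  -- `l d ∈ D` commutes with `U_j`
  have hxD : l * d ∈ DD V R := mul_mem (V_le_D V R (b.R_le i hlR)) hd
  have hc : ∀ u ∈ UU V R j, (l * d) * u = u * (l * d) := by
    intro u hu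
    have h1 := h u hu
    have h2 : u * (l * d) * u⁻¹ * (l * d)⁻¹ ∈ R j := b.WW_comm j (UU_le_WW j hu) (D_le_W V R j hxD)
    have h3 : u * (l * d) * u⁻¹ * (l * d)⁻¹ ∈ R i := BT.cen_VW b.toBT (b.R_le j h2) h1.2
    have h4 := b.eq_one s.hij h3 h2
    exact (mul_inv_eq_iff_eq_mul.1 (mul_inv_eq_one.1 h4)).symm
  obtain ⟨z, hz, h1⟩ := b.cen_DU (i := j) hxD hc
  have e : l * d = z⁻¹ * (z * (l * d)) := by group
  rw [e]
  exact mul_mem ((le_sup_left : V ≤ _) (inv_mem hz))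
    ((le_sup_right : ZZ V R i ≤ _) ⟨D_le_W V R i h1.1, cen_X_le i h1.2⟩)

end Sc

/-! ### Duality -/

namespace NodeQ

open Cfsg.Agent.Omega.Lie Cfsg.Agent.Omega.Lie.Quot Cfsg.Agent.Omega.HOne Cfsg.Agent.Omega.HOne.ModZ

variable {M : Type u} [AddCommGroup M] [Module F M] [DistribMulAction (HQ (R i)) M] {p : G → M}
  {f : M →ₗ[F] M →ₗ[F] F} {e : F →ₗ[F] M} {ω : M →ₗ[F] F} {σ : HQ (R i) →* RingAut F} {κ : HQ (R i) → F}
  [Finite G] [Finite F]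

/-- **Duality**: `U_i ≤ [U_j, W_i] C_{W_i}(W_N)` if the elements of `W_N` fixed by `U_j` modulo `Z_i` are in `V Z_i`. -/
theorem U_le_dual (q : Fq V R i vv M p f e ω σ κ) (c : Coord V R i j vv w1 w2) (nd : Nd V R i j P) (b : BT V R)
    {Ψ : Subgroup G} (h1 : ∀ u ∈ UU V R j, ∀ w ∈ WW V (R i), u * w * u⁻¹ * w⁻¹ ∈ Ψ) (h0 : W0 V R i P ≤ Ψ)
    (hcl : ∀ x ∈ WN V P, (∀ u ∈ UU V R j, u * x * u⁻¹ * x⁻¹ ∈ ZZ V R i) → x ∈ V ⊔ ZZ V R i) : UU V R i ≤ Ψ := by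
  have : Finite M := q.toMZ.finite_M
  have : Module.Finite F M := Module.Finite.of_finite
  have hr : LinearMap.BilinForm.IsRefl f := fun x y h => by rw [q.symm, h]
  have hn : LinearMap.BilinForm.Nondegenerate f :=
    ⟨fun x hx => q.nd x hx, fun x hx => q.nd x fun y => by rw [q.symm, hx y]⟩
  have hZW0 : ZZ V R i ≤ W0 V R i P := fun z hz =>
    mem_inf.2 ⟨hz.1, centralizer_le nd.WN_le_W hz.2⟩
  let T : Submodule F M :=
    { carrier := {m | ∀ (a : F), ∀ w ∈ WW V (R i), p w = a • m → w ∈ Ψ}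
      zero_mem' := fun a w hw h => by
        rw [smul_zero] at h
        exact h0 (hZW0 ((q.p_ker _ hw).1 h))
      add_mem' := fun {m m'} hm hm' a w hw h => by
        obtain ⟨w1, hw1, e1⟩ := q.p_surj (a • m)
        have k1 := hm a w1 hw1 e1
        have k2 := hm' a (w1⁻¹ * w) (mul_mem (inv_mem hw1) hw) (by
          rw [q.p_mul _ (inv_mem hw1) _ hw, q.toMZ.p_inv hw1, e1, h, smul_add, neg_add_cancel_left])
        have := mul_mem k1 k2
        rwa [mul_inv_cancel_left] at this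
      smul_mem' := fun c m hm a w hw h => hm (a * c) w hw (by rw [h, smul_smul]) }
  have kW0 : ∀ x ∈ W0 V R i P, p x ∈ T := fun x hx a w hw h =>
    h0 ((mem_W0_iff q c nd hw).2 fun m hm => by
      rw [h, map_smul, LinearMap.smul_apply, (mem_W0_iff q c nd hx.1).1 hx m hm, smul_zero])
  have kU : ∀ u ∈ UU V R j, ∀ w ∈ WW V (R i), p (u * w * u⁻¹ * w⁻¹) ∈ T := by
    intro u hu w hw a w3 hw3 h
    have huC : u ∈ centralizer (R i : Set G) := nd.PR (nd.UP hu)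
    have huN : u ∈ normalizer (R i : Set G) := b.cen_le_N i (UU_le_cen j hu)
    obtain ⟨w2, hw2, e2⟩ := q.p_surj (a • p w)
    have k1 : p w3 = p (u * w2 * u⁻¹ * w2⁻¹) := by
      rw [h, ← q.toMZ.smul_sub huN hw, ← q.toMZ.smul_sub huN hw2, e2, smul_sub]
      congr 1
      exact (cen_smul q c huC huN a (p w)).symm
    have k2 := (q.toMZ.p_eq_iff hw3 (MZ.comm_mem_W huN hw2)).1 k1
    have k3 := mul_mem (h0 (hZW0 k2)) (h1 u hu w2 hw2)
    rwa [inv_mul_cancel_right] at k3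
  intro x hx
  have hxW := UU_le_WW i hx
  have key : p x ∈ T := by
    rw [← LinearMap.BilinForm.orthogonal_orthogonal hn hr T, LinearMap.BilinForm.mem_orthogonal_iff]
    intro m hm
    rw [LinearMap.BilinForm.mem_orthogonal_iff] at hm
    obtain ⟨w', hw', rfl⟩ := q.p_surj m
    refine (f_zero_iff q c hw' hxW).2 ?_
    -- `w' ∈ W_N Z_i`
    have k1 : w' ∈ WN V P ⊔ ZZ V R i := dc q c nd hw' fun x0 hx0 =>
      ((f_zero_iff q c hx0.1 hw').1 (hm _ (kW0 x0 hx0))).symm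
    -- `[U_j, w'] ≤ Z_i`
    have k2 : ∀ u ∈ UU V R j, u * w' * u⁻¹ * w'⁻¹ ∈ ZZ V R i := by
      intro u hu
      have huN : u ∈ normalizer (R i : Set G) := b.cen_le_N i (UU_le_cen j hu)
      have huH := q.cenV_H0 c huN (UU_le_cen j hu)
      rw [← q.p_ker _ (MZ.comm_mem_W huN hw'), ← q.toMZ.smul_sub huN hw']
      apply q.nd
      intro m2
      obtain ⟨w, hw, e1⟩ := q.p_surj ((pr (R i) ⟨u, huN⟩)⁻¹ • m2)
      have e2 : m2 = pr (R i) ⟨u, huN⟩ • p w := by rw [e1, smul_inv_smul]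
      have k3 : f (p (u * w * u⁻¹ * w⁻¹)) (p w') = 0 := hm _ (kU u hu w hw)
      rw [← q.toMZ.smul_sub huN hw, map_sub, LinearMap.sub_apply, sub_eq_zero] at k3
      rw [q.symm, e2, map_sub, q.H0_isom c huH, k3, sub_self]
    -- `w' = n z`
    have hZW : ZZ V R i ≤ normalizer (WN V P : Set G) := fun z hz => P_norm_WN (nd.QP (b.W_le_Q i hz.1))
    obtain ⟨n, hn', z, hz, rfl⟩ := mem_sup_of_norm hZW k1
    have k3 : n ∈ V ⊔ ZZ V R i := by
      refine hcl n hn' fun u hu => ?_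
      have huN : u ∈ normalizer (R i : Set G) := b.cen_le_N i (UU_le_cen j hu)
      have h3 : u * z * u⁻¹ * z⁻¹ ∈ ZZ V R i :=
        mul_mem (BTwo.conj_mem_of_normalizer (N_le_NZ i huN) hz) (inv_mem hz)
      have h4 := z_comm h3 (nd.WN_le_W hn')
      have e1 : u * n * u⁻¹ * n⁻¹ = (u * (n * z) * u⁻¹ * (n * z)⁻¹) * (u * z * u⁻¹ * z⁻¹)⁻¹ := by
        calc u * n * u⁻¹ * n⁻¹ = (u * (n * z) * u⁻¹ * (n * z)⁻¹) * (n * (u * z * u⁻¹ * z⁻¹) * n⁻¹)⁻¹ := by group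
          _ = _ := by rw [← h4, mul_inv_cancel_right]
      rw [e1]
      exact mul_mem (k2 u hu) (inv_mem h3)
    have k4 : V ⊔ ZZ V R i ≤ centralizer {x} := by
      refine sup_le (fun y hy => ?_) fun y hy => ?_
      · rw [mem_centralizer_singleton_iff]
        exact mem_centralizer_iff.1 (UU_le_cen i hx) y hy
      · rw [mem_centralizer_singleton_iff]
        exact z_comm hy hxW
    have k5 := mem_centralizer_singleton_iff.1 (k4 (mul_mem k3 ((le_sup_right : ZZ V R i ≤ _) hz)))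
    exact k5
  exact key 1 x hxW (by rw [one_smul])

end NodeQ

/-! ### The torus on `W0` -/

namespace Sc

variable {p' : G} (s : Sc V R i j vv t P p') (b : BTS V R) (τ : TorD V R i j vv t) {m : G} (sw : Sw V R i j t m)
include s b τ sw

/-- `[m w m⁻¹, x]`, for `w ∈ W0`, `x ∈ V'`: `= v(0, z ρ) ψ` -/
theorem kx_full (hF : ∃ a : F, a ≠ 0 ∧ a ≠ 1) (lin : Lin V R i P vv m p')
    (linJ : ∀ w ∈ W0 V R i P, ∃ ρ : F, ∀ y z r s', KX V R P vv m w (p' * vv y z * p'⁻¹) r s' → s' = z * ρ)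
    {w : G} (hw : w ∈ W0 V R i P) : ∃ ρ : F, ∀ y z, ∃ ψ ∈ Psi V R P,
      (m * w * m⁻¹) * (p' * vv y z * p'⁻¹) * (m * w * m⁻¹)⁻¹ * (p' * vv y z * p'⁻¹)⁻¹ = vv 0 (z * ρ) * ψ := by
  obtain ⟨ρ, hρ⟩ := linJ w hw
  refine ⟨ρ, fun y z => ?_⟩
  have hx : p' * vv y z * p'⁻¹ ∈ cj p' V := (s.mem_line τ).2 ⟨_, _, rfl⟩
  obtain ⟨r, s', h⟩ := s.kx b τ sw hw hx
  have h1 := s.key_zero b τ sw hF lin hw hx h
  have h2 := hρ _ _ _ _ h
  subst h1
  subst h2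
  exact h

/-- **the torus has no fixed points on `W0 / C(V_2')`** -/
theorem tor_fix (lin : Lin V R i P vv m p')
    (linJ : ∀ w ∈ W0 V R i P, ∃ ρ : F, ∀ y z r s', KX V R P vv m w (p' * vv y z * p'⁻¹) r s' → s' = z * ρ)
    {a : F} (ha : a ≠ 0) (ha1 : a ≠ 1) {w : G} (hw : w ∈ W0 V R i P)
    (hg : ∀ x ∈ cj p' V, (m * (t a * w * (t a)⁻¹ * w⁻¹) * m⁻¹) * x = x * (m * (t a * w * (t a)⁻¹ * w⁻¹) * m⁻¹)) :
    ∀ x ∈ cj p' V, (m * w * m⁻¹) * x = x * (m * w * m⁻¹) := by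
  have hF : ∃ a : F, a ≠ 0 ∧ a ≠ 1 := ⟨a, ha, ha1⟩
  have ha1' : a - 1 ≠ 0 := sub_ne_zero.2 ha1
  obtain ⟨ρ, hρ⟩ := s.kx_full b τ sw hF lin linJ hw
  set W := m * w * m⁻¹ with hW
  have hgW0 : t a * w * (t a)⁻¹ * w⁻¹ ∈ W0 V R i P := mul_mem (s.W0_tor b τ hw ha) (inv_mem hw)
  have hWU : W ∈ UU V R j := conj_U b sw (W0_le_U hw)
  have hGU : m * (t a * w * (t a)⁻¹ * w⁻¹) * m⁻¹ ∈ UU V R j := conj_U b sw (W0_le_U hgW0)
  set Γ := m * (t a * w * (t a)⁻¹ * w⁻¹) * m⁻¹ with hΓ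
  have hmt := sw.mt a ha
  -- `m (t w t⁻¹) m⁻¹ = t⁻¹ W t`
  have e1 : Γ * W = (t a)⁻¹ * W * t a := by
    have e2 : m * (t a)⁻¹ * m⁻¹ = t a := by
      have e3 : m * (t a)⁻¹ * m⁻¹ = (m * t a * m⁻¹)⁻¹ := by group
      rw [e3, hmt, inv_inv]
    calc Γ * W = (m * t a * m⁻¹) * (m * w * m⁻¹) * (m * (t a)⁻¹ * m⁻¹) := by rw [hΓ, hW]; group
      _ = _ := by rw [hmt, e2]
  -- `[W, t x t⁻¹] = t [W, x] t⁻¹`
  have key : ∀ y z, W * (p' * vv (a * y) (a * z) * p'⁻¹) * W⁻¹ * (p' * vv (a * y) (a * z) * p'⁻¹)⁻¹ =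
      t a * (W * (p' * vv y z * p'⁻¹) * W⁻¹ * (p' * vv y z * p'⁻¹)⁻¹) * (t a)⁻¹ := by
    intro y z
    have hx : p' * vv y z * p'⁻¹ ∈ cj p' V := (s.mem_line τ).2 ⟨_, _, rfl⟩
    obtain ⟨ψ, hψ, e2⟩ := hρ y z
    rw [← s.sc a y z ha]
    set x := p' * vv y z * p'⁻¹ with hx0
    have h1 := hg x hx
    -- `[Γ W, x] = [W, x]`
    have h2 : Γ * (vv 0 (z * ρ) * ψ) = (vv 0 (z * ρ) * ψ) * Γ := by
      have h3 := mem_centralizer_iff.1 (UU_le_cen j hGU) _ ((τ.v_mem _).2 ⟨0, z * ρ, rfl⟩)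
      have h4 := mem_centralizer_iff.1 (Psi_le_CenX hψ) Γ (YY_le_XX (UU_le_YY j hGU))
      calc Γ * (vv 0 (z * ρ) * ψ) = (Γ * vv 0 (z * ρ)) * ψ := by group
        _ = vv 0 (z * ρ) * (Γ * ψ) := by rw [← h3]; group
        _ = _ := by rw [h4]; group
    have h3 : (Γ * W) * x * (Γ * W)⁻¹ * x⁻¹ = W * x * W⁻¹ * x⁻¹ := by
      calc (Γ * W) * x * (Γ * W)⁻¹ * x⁻¹ = Γ * (W * x * W⁻¹ * x⁻¹) * Γ⁻¹ * (Γ * x) * Γ⁻¹ * x⁻¹ := by group
        _ = Γ * (vv 0 (z * ρ) * ψ) * Γ⁻¹ * (x * Γ) * Γ⁻¹ * x⁻¹ := by rw [e2, h1]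
        _ = (vv 0 (z * ρ) * ψ) * Γ * Γ⁻¹ * (x * Γ) * Γ⁻¹ * x⁻¹ := by rw [h2]
        _ = vv 0 (z * ρ) * ψ := by group
        _ = _ := by rw [e2]
    rw [e1] at h3
    rw [← h3]
    group
  -- `z ρ = 0`
  have hρ0 : ρ = 0 := by
    obtain ⟨ψ, hψ, e2⟩ := hρ 0 1
    obtain ⟨ψ', hψ', e3⟩ := hρ (a * 0) (a * 1)
    have h1 := key 0 1
    rw [e2, e3] at h1
    have h2 : t a * (vv 0 (1 * ρ) * ψ) * (t a)⁻¹ = vv 0 (a⁻¹ * (1 * ρ)) * ψ := by
      have h3 := mem_centralizer_iff.1 (Psi_le_CenX hψ) (t a) (τ.memX a ha)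
      have h4 := τ.act a 0 (1 * ρ) ha
      rw [mul_zero] at h4
      calc t a * (vv 0 (1 * ρ) * ψ) * (t a)⁻¹ = (t a * vv 0 (1 * ρ) * (t a)⁻¹) * (t a * ψ) * (t a)⁻¹ := by group
        _ = _ := by rw [h4, h3]; group
    rw [h2] at h1
    obtain ⟨-, h5, -⟩ := coord_unique b.toBT τ (Psi_le_CenX hψ') (Psi_le_CenX hψ) h1
    have h6 : (a * a - 1) * ρ = 0 := by
      have h7 : a * (a * 1 * ρ) = a * (a⁻¹ * (1 * ρ)) := by rw [h5]
      rw [mul_inv_cancel_left₀ ha] at h7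
      linear_combination h7
    exact (mul_eq_zero.1 h6).resolve_left (sub_ne_zero.2 (mul_self_ne_one b.toBT τ ha1))
  -- `[W, x]` is additive in `x`
  have hz : ∀ y z, W * (p' * vv (a * y) (a * z) * p'⁻¹) * W⁻¹ * (p' * vv (a * y) (a * z) * p'⁻¹)⁻¹ =
      W * (p' * vv y z * p'⁻¹) * W⁻¹ * (p' * vv y z * p'⁻¹)⁻¹ := by
    intro y z
    obtain ⟨ψ, hψ, e2⟩ := hρ y z
    rw [key, e2, hρ0, mul_zero, v_zero τ, one_mul]
    have h3 := mem_centralizer_iff.1 (Psi_le_CenX hψ) (t a) (τ.memX a ha)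
    rw [h3, mul_inv_cancel_right]
  intro x hx
  obtain ⟨y, z, rfl⟩ := (s.mem_line τ).1 hx
  set y0 := (a - 1)⁻¹ * y with hy0
  set z0 := (a - 1)⁻¹ * z with hz0
  have e3 : p' * vv (a * y0) (a * z0) * p'⁻¹ = (p' * vv y z * p'⁻¹) * (p' * vv y0 z0 * p'⁻¹) := by
    rw [← s.line_add τ]
    have e4 : y + y0 = a * y0 := by
      rw [hy0]
      have : (a - 1) * ((a - 1)⁻¹ * y) = y := mul_inv_cancel_left₀ ha1' y
      linear_combination -this
    have e5 : z + z0 = a * z0 := by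
      rw [hz0]
      have : (a - 1) * ((a - 1)⁻¹ * z) = z := mul_inv_cancel_left₀ ha1' z
      linear_combination -this
    rw [e4, e5]
  have h1 := hz y0 z0
  rw [e3] at h1
  obtain ⟨ψ, hψ, e2⟩ := hρ y0 z0
  rw [hρ0, mul_zero, v_zero τ, one_mul] at e2
  set x := p' * vv y z * p'⁻¹ with hx0
  set x0 := p' * vv y0 z0 * p'⁻¹ with hx1
  have h2 : W * (x * x0) * W⁻¹ * (x * x0)⁻¹ = (W * x * W⁻¹ * x⁻¹) * (W * x0 * W⁻¹ * x0⁻¹) := by
    have h3 := s.WN_comm b (line_le_WN s.mem hx) hψ.1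
    calc W * (x * x0) * W⁻¹ * (x * x0)⁻¹ = (W * x * W⁻¹ * x⁻¹) * (x * (W * x0 * W⁻¹ * x0⁻¹)) * x⁻¹ := by group
      _ = (W * x * W⁻¹ * x⁻¹) * (x * ψ) * x⁻¹ := by rw [e2]
      _ = (W * x * W⁻¹ * x⁻¹) * (ψ * x) * x⁻¹ := by rw [h3]
      _ = _ := by rw [e2]; group
  rw [h2] at h1
  have h3 : W * x * W⁻¹ * x⁻¹ = 1 := mul_eq_right.1 h1
  exact mul_inv_eq_iff_eq_mul.1 (mul_inv_eq_one.1 h3)

/-- an element of `W0` which centralises `V_2'` centralises `Sh` -/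
theorem W0_cen_Sh [Finite G] (c : Coord V R i j vv w1 w2) (hXV : XX V R ⊓ centralizer (V : Set G) ≤ YY V R)
    (L : SigL V R i j P) {w : G} (hw : w ∈ W0 V R i P)
    (h : ∀ x ∈ cj p' V, (m * w * m⁻¹) * x = x * (m * w * m⁻¹)) : w ∈ centralizer (Sh V R P : Set G) := by
  have hwW : w ∈ WW V (R i) := hw.1
  have hy : ∀ x ∈ cj p' V, w * (m⁻¹ * x * m) = (m⁻¹ * x * m) * w := by
    intro x hx
    calc w * (m⁻¹ * x * m) = m⁻¹ * ((m * w * m⁻¹) * x) * m := by group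
      _ = m⁻¹ * (x * (m * w * m⁻¹)) * m := by rw [h x hx]
      _ = _ := by group
  have h0 : S0 V R P ≤ centralizer {w} := by
    refine s.S0_le b τ sw c hXV ?_ ?_
    · intro x hx
      rw [mem_centralizer_singleton_iff]
      exact (W0_comm hw hx).symm
    · intro g hg x hx
      rw [mem_centralizer_singleton_iff]
      set y := m⁻¹ * x * m with hyd
      have hyU : y ∈ UU V R j := conj_U' b sw (s.leU hx)
      set r := g⁻¹ * w * g⁻¹⁻¹ * w⁻¹ with hr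
      have hrR : r ∈ R i := b.WW_comm i (inv_mem hg) hwW
      have h2 : r * y = y * r := mem_centralizer_iff.1 (UU_le_cen j hyU) r (b.R_le i hrR)
      have h3 := hy x hx
      rw [← hyd] at h3
      have e : w * g = g * (r * w) := by rw [hr]; group
      calc g * y * g⁻¹ * w = g * y * (g⁻¹ * (w * g)) * g⁻¹ := by group
        _ = g * (y * r) * w * g⁻¹ := by rw [e]; group
        _ = g * r * (y * w) * g⁻¹ := by rw [← h2]; group
        _ = (g * (r * w)) * y * g⁻¹ := by rw [← h3]; group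
        _ = w * (g * y * g⁻¹) := by rw [← e]; group
  rw [mem_centralizer_iff]
  intro x hx
  obtain ⟨σ, hσ, k, hk, rfl⟩ := L.Sh_fact hx
  have h1 := mem_centralizer_singleton_iff.1 (h0 hσ)
  have h2 := mem_centralizer_iff.1 hk.2 w (W_le_X V R i hwW)
  calc σ * k * w = σ * (k * w) := by group
    _ = (σ * w) * k := by rw [← h2]; group
    _ = _ := by rw [h1]; group

/-- **every element of `W0` is `[t a, w']` modulo the centraliser of `Sh`** -/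
theorem exists_W0 [Finite G] (c : Coord V R i j vv w1 w2) (hXV : XX V R ⊓ centralizer (V : Set G) ≤ YY V R)
    (L : SigL V R i j P) (lin : Lin V R i P vv m p')
    (linJ : ∀ w ∈ W0 V R i P, ∃ ρ : F, ∀ y z r s', KX V R P vv m w (p' * vv y z * p'⁻¹) r s' → s' = z * ρ)
    {a : F} (ha : a ≠ 0) (ha1 : a ≠ 1) {w : G} (hw : w ∈ W0 V R i P) :
    ∃ w' ∈ W0 V R i P, (t a * w' * (t a)⁻¹ * w'⁻¹)⁻¹ * w ∈ WW V (R i) ∧
      (t a * w' * (t a)⁻¹ * w'⁻¹)⁻¹ * w ∈ centralizer (Sh V R P : Set G) := by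
  set K : Subgroup G := W0 V R i P ⊓ centralizer ((cj m⁻¹ (cj p' V) : Subgroup G) : Set G) with hK
  have hKm : ∀ {g : G}, g ∈ W0 V R i P → (g ∈ K ↔ ∀ x ∈ cj p' V, (m * g * m⁻¹) * x = x * (m * g * m⁻¹)) := by
    intro g hg
    rw [hK, mem_inf, mem_centralizer_iff]
    constructor
    · rintro ⟨-, h⟩ x hx
      have h1 := h (m⁻¹ * x * m) (by
        have h2 := conj_mem_cj (g := m⁻¹) hx
        rwa [inv_inv] at h2)
      calc (m * g * m⁻¹) * x = m * (g * (m⁻¹ * x * m)) * m⁻¹ := by group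
        _ = m * ((m⁻¹ * x * m) * g) * m⁻¹ := by rw [h1]
        _ = _ := by group
    · intro h
      refine ⟨hg, fun y hy => ?_⟩
      have h1 : m * y * m⁻¹ ∈ cj p' V := by
        have h2 := mem_cj.1 hy
        rwa [inv_inv] at h2
      have h2 := h _ h1
      calc y * g = m⁻¹ * ((m * y * m⁻¹) * (m * g * m⁻¹)) * m := by group
        _ = m⁻¹ * ((m * g * m⁻¹) * (m * y * m⁻¹)) * m := by rw [h2]
        _ = _ := by group
  have htW0 : t a ∈ normalizer (W0 V R i P : Set G) := by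
    have h1 := cj_eq_self_iff.2 (normalizer_le_WW V (R i) (τ.normR ha))
    have h2 := cj_eq_self_iff.2 (normalizer_le_normalizer_centralizer _ (s.t_norm_WN b τ ha))
    rw [← cj_eq_self_iff]
    change cj (t a) (WW V (R i) ⊓ centralizer (WN V P : Set G)) = WW V (R i) ⊓ centralizer (WN V P : Set G)
    rw [cj_inf, h1, h2]
  have htL : cj (t a) (cj m⁻¹ (cj p' V)) = cj m⁻¹ (cj p' V) := by
    have e2 : t a * m⁻¹ = m⁻¹ * (t a)⁻¹ := by
      have h1 := sw.mt a ha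
      calc t a * m⁻¹ = m⁻¹ * (m * t a * m⁻¹) := by group
        _ = _ := by rw [h1]
    rw [← cj_mul, e2, cj_mul]
    congr 1
    have h1 := s.t_line b τ (inv_ne_zero ha)
    rwa [τ.inv ha] at h1
  have htK : t a ∈ normalizer (K : Set G) := by
    rw [← cj_eq_self_iff, hK, cj_inf, cj_eq_self_iff.2 htW0, ← centralizer_cj, htL]
  have hRK : R i ≤ K := by
    refine le_inf (le_inf (b.R_le_W i i) ?_) ?_
    · intro r hr
      rw [mem_centralizer_iff]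
      intro x hx
      exact (mem_centralizer_iff.1 (UU_le_cen i (s.WN_le_U b hx)) r (b.R_le i hr)).symm
    · intro r hr
      rw [mem_centralizer_iff]
      intro y hy
      have h2 := mem_cj.1 hy
      rw [inv_inv] at h2
      have h3 := conj_U' b sw (s.leU h2)
      have e : m⁻¹ * (m * y * m⁻¹) * m = y := by group
      rw [e] at h3
      exact (mem_centralizer_iff.1 (UU_le_cen j h3) r (b.R_le i hr)).symm
  obtain ⟨w', hw', h1⟩ := exists_comm_mod (Q := W0 V R i P) (N := K) (x := t a) htW0 htK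
    (fun u hu v hv => hRK (b.WW_comm i hu.1 hv.1)) inf_le_left
    (fun u hu h => (hKm hu).2 (s.tor_fix b τ sw lin linJ ha ha1 hu
      ((hKm (mul_mem (BTwo.conj_mem_of_normalizer htW0 hu) (inv_mem hu))).1 h))) hw
  exact ⟨w', hw', h1.1.1, s.W0_cen_Sh b τ sw c hXV L h1.1 ((hKm h1.1).1 h1)⟩

end Sc

end Cfsg.Agent.Omega.HOneQ
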