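import Cfsg.Agent.Omega.HOneQ.ResL
import Cfsg.Agent.Omega.BTwo.XMod

/-!
# II.0h1, split, `q ≥ 4`: (L1) of #15939, `Σ = ⟨W_N^X⟩`

Hypotheses: `Lin` (output of ResL), `C_X(V) ≤ Y`, for `S0_fact` ..: `[W_i, V_2'] ≤ W_N Z_i`.
* `Sc.comm2` : `W_N` commutes with `m⁻¹ W_N m`;
* `S0 = Σ` : `S0_comm`, `S0_sq`, `X_norm_S0`, `S0_norm`, `S0_le`;
* `S0_DZ`, `S0_Z`, `S0_fact`, `S0_Q`, `S0_C`.
-/

set_option autoImplicit false
set_option linter.unusedSectionVars false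

namespace Cfsg.Agent.Omega.HOneQ

open Subgroup Cfsg.Agent.Omega.BTwo Cfsg.Agent.Lib.SL2Mat
open Cfsg.Agent.Omega.Lie (TorD)

universe u v w

variable {G : Type u} [Group G] {ι : Type w} {V : Subgroup G} {R : ι → Subgroup G} {i j : ι} {P : Subgroup G}
  {F : Type v} [Field F] {vv : F → F → G} {t : F → G} {w1 w2 : F → G}

/-- `Σ = ⟨W_N^X⟩` -/
def S0 (V : Subgroup G) (R : ι → Subgroup G) (P : Subgroup G) : Subgroup G := ⨆ x : XX V R, cj (x : G) (WN V P)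

theorem WN_le_S0 : WN V P ≤ S0 V R P := by
  have := le_iSup (fun x : XX V R => cj (x : G) (WN V P)) 1
  rwa [show ((1 : XX V R) : G) = 1 from rfl, cj_one] at this

theorem cj_WN_le_S0 {x : G} (hx : x ∈ XX V R) : cj x (WN V P) ≤ S0 V R P :=
  le_iSup (fun x : XX V R => cj (x : G) (WN V P)) ⟨x, hx⟩

/-- an element normalising `X` and `W_N` normalises `Σ` -/
theorem S0_norm {g : G} (hX : g ∈ normalizer (XX V R : Set G)) (hW : g ∈ normalizer (WN V P : Set G)) :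
    g ∈ normalizer (S0 V R P : Set G) := by
  have key : ∀ g : G, g ∈ normalizer (XX V R : Set G) → g ∈ normalizer (WN V P : Set G) →
      cj g (S0 V R P) ≤ S0 V R P := by
    intro g hX hW
    rw [S0, cj_iSup]
    refine iSup_le fun x => ?_
    have e : cj g (cj (x : G) (WN V P)) = cj (g * x * g⁻¹) (WN V P) := by
      have e1 : g * (x : G) = g * x * g⁻¹ * g := by group
      calc cj g (cj (x : G) (WN V P)) = cj (g * x) (WN V P) := (cj_mul _ _ _).symm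
        _ = cj (g * x * g⁻¹) (cj g (WN V P)) := by rw [← cj_mul, ← e1]
        _ = _ := by rw [cj_eq_self_iff.2 hW]
    rw [e]
    exact cj_WN_le_S0 (conj_mem_of_normalizer hX x.2)
  rw [← cj_eq_self_iff]
  apply le_antisymm (key g hX hW)
  have := cj_mono (g := g) (key g⁻¹ (inv_mem hX) (inv_mem hW))
  rwa [cj_cj_inv] at this

theorem X_norm_S0 : XX V R ≤ normalizer (S0 V R P : Set G) := by
  intro g hg
  have key : ∀ g ∈ XX V R, cj g (S0 V R P) ≤ S0 V R P := by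
    intro g hg
    rw [S0, cj_iSup]
    refine iSup_le fun x => ?_
    rw [← cj_mul]
    exact cj_WN_le_S0 (mul_mem hg x.2)
  rw [← cj_eq_self_iff]
  apply le_antisymm (key g hg)
  have := cj_mono (g := g) (key g⁻¹ (inv_mem hg))
  rwa [cj_cj_inv] at this

/-- `Ψ' = Σ ∩ D ∩ C(X)` -/
def Psi' (V : Subgroup G) (R : ι → Subgroup G) (P : Subgroup G) : Subgroup G := S0 V R P ⊓ (DD V R ⊓ CenX V R)

namespace Sc

variable {p' : G} (s : Sc V R i j vv t P p') (b : BTS V R) (τ : TorD V R i j vv t) {m : G} (sw : Sw V R i j t m)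
  (c : Coord V R i j vv w1 w2)
include s b τ c

omit τ c in
theorem Y_le_P : YY V R ≤ P := by
  rw [b.Y_eq s.hij]
  exact sup_le (((UU_le_WW i).trans (b.W_le_Q i)).trans s.QP) s.UP

/-- `N_X(R i)` normalises `W_N` -/
theorem nx (hXV : XX V R ⊓ centralizer (V : Set G) ≤ YY V R) {x : G} (hx : x ∈ XX V R) (hR : cj x (R i) = R i) :
    x ∈ normalizer (WN V P : Set G) := by
  obtain ⟨A, hA⟩ := c.exists_actV b.toBT hx
  have h10 : ent A 1 0 = 0 := by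
    have h1 : x * vv 1 0 * x⁻¹ ∈ R i := by rw [← hR]; exact conj_mem_cj ((c.mem_R1 _).2 ⟨1, rfl⟩)
    rw [hA] at h1
    obtain ⟨y, hy⟩ := (c.mem_R1 _).1 h1
    have h2 := (c.v_inj hy).2
    rw [mul_one, mul_zero, add_zero] at h2
    exact h2.symm
  have hd := det_eq A
  rw [h10, mul_zero, sub_zero] at hd
  have ha : ent A 0 0 ≠ 0 := left_ne_zero_of_mul_eq_one hd
  set a := ent A 0 0 with haa
  have hA11 : ent A 1 1 = a⁻¹ := eq_inv_of_mul_eq_one_right hd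
  set σ := ent A 0 1 * a with hσ
  have htinv : ∀ y z, (t a)⁻¹ * vv y z * t a = vv (a⁻¹ * y) (a * z) := by
    intro y z
    have h1 := τ.act a (a⁻¹ * y) (a * z) ha
    rw [mul_inv_cancel_left₀ ha, inv_mul_cancel_left₀ ha] at h1
    rw [← h1]; group
  have h1 : (w1 σ)⁻¹ * (x * (t a)⁻¹) ∈ centralizer (V : Set G) := by
    rw [mem_centralizer_iff]
    intro y hy
    obtain ⟨y1, y2, rfl⟩ := (c.mem_V y).1 hy
    have h2 : (w1 σ)⁻¹ * (x * (t a)⁻¹) * vv y1 y2 * ((w1 σ)⁻¹ * (x * (t a)⁻¹))⁻¹ = vv y1 y2 := by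
      have e1 : (w1 σ)⁻¹ * (x * (t a)⁻¹) * vv y1 y2 * ((w1 σ)⁻¹ * (x * (t a)⁻¹))⁻¹ =
          (w1 σ)⁻¹ * (x * ((t a)⁻¹ * vv y1 y2 * t a) * x⁻¹) * w1 σ := by group
      have e2 := c.w1_act σ y1 y2
      rw [e1, htinv, hA, h10, hA11, zero_mul, zero_add, ← haa, mul_inv_cancel_left₀ ha,
        inv_mul_cancel_left₀ ha, ← mul_assoc, ← hσ, ← e2]
      group
    rw [mul_inv_eq_iff_eq_mul] at h2
    exact h2.symm
  have h2 : (w1 σ)⁻¹ * (x * (t a)⁻¹) ∈ YY V R :=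
    hXV (mem_inf.2 ⟨mul_mem (inv_mem (W_le_X V R i (c.w1_mem σ))) (mul_mem hx (inv_mem (τ.memX a ha))), h1⟩)
  have e : x = w1 σ * ((w1 σ)⁻¹ * (x * (t a)⁻¹)) * t a := by group
  rw [e]
  exact mul_mem (mul_mem (P_norm_WN (s.QP (b.W_le_Q i (c.w1_mem σ)))) (P_norm_WN (s.Y_le_P b h2)))
    (s.t_norm_WN b τ ha)

omit s b τ c in
theorem m_tor (sw : Sw V R i j t m) {a : F} (ha : a ≠ 0) : m⁻¹ * (t a)⁻¹ = t a * m⁻¹ := by
  have h1 := sw.mt a ha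
  calc m⁻¹ * (t a)⁻¹ = m⁻¹ * (m * t a * m⁻¹) := by rw [h1]
    _ = t a * m⁻¹ := by group

include sw in
/-- `[V', m⁻¹ V' m] = 1` -/
theorem vx (hF : ∃ a : F, a ≠ 0 ∧ a ≠ 1) (lin : Lin V R i P vv m p') {l l' : G} (hl : l ∈ cj p' V)
    (hl' : l' ∈ cj p' V) : l * (m⁻¹ * l' * m) = (m⁻¹ * l' * m) * l := by
  have h2F : ∀ x : F, x + x = 0 := Cfsg.Agent.Omega.Lie.TorD.two b.toBT τ
  -- the action of `m⁻¹ l' m` on `V'`
  have key1 : ∀ l' ∈ cj p' V, ∃ β : F, ∀ y z, (m⁻¹ * l' * m) * (p' * vv y z * p'⁻¹) * (m⁻¹ * l' * m)⁻¹ =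
      p' * vv (y + β * z) z * p'⁻¹ := by
    intro l' hl'
    have hx2 : m⁻¹ * l' * m ∈ UU V R j := conj_U' b sw (s.leU hl')
    set x2 := m⁻¹ * l' * m with hx2e
    have hz : ∀ l ∈ cj p' V, x2 * l * x2⁻¹ * l⁻¹ ∈ ZZ V R i := by
      intro l hl
      have hw : l ∈ W0 V R i P := by
        refine mem_inf.2 ⟨s.line_le s.mem hl, ?_⟩
        rw [mem_centralizer_iff]
        exact fun y hy => s.WN_comm b hy (line_le_WN s.mem hl)
      obtain ⟨a, ha, ψ, hψ, e⟩ := s.key b τ sw hF lin hw hl'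
      have e1 : x2 * l * x2⁻¹ * l⁻¹ = (a * ψ)⁻¹ := by rw [← e, ← hx2e]; group
      rw [e1]
      exact inv_mem (mul_mem (BT.R_le_Z b.toBT i ha) (mem_inf.2 ⟨D_le_W V R i (Psi_le_D hψ), cen_X_le i (Psi_le_CenX hψ)⟩))
    have hxP : x2 * p' ∈ P := mul_mem (s.UP hx2) s.mem
    have h1 : cj (x2 * p') V = cj p' V := by
      refine s.inj b hxP s.mem ?_
      rw [cj_mul]
      exact cj_le_of_comm le_sup_left fun x hx => (le_sup_right : ZZ V R i ≤ _) (hz x hx)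
    obtain ⟨β, γ, -, h2⟩ := s.conj_line c hxP 0 0 s.mem h1 b.toBT
    have h3 : ∀ y z, x2 * (p' * vv y z * p'⁻¹) * x2⁻¹ = p' * vv (y + β * z) (γ * z) * p'⁻¹ := by
      intro y z
      rw [← h2]; group
    have h4 : γ = 1 := by
      have h5 : x2 * (p' * vv 0 1 * p'⁻¹) * x2⁻¹ * (p' * vv 0 1 * p'⁻¹)⁻¹ = p' * vv (β * 1) (γ * 1 - 1) * p'⁻¹ := by
        rw [h3, show vv (0 + β * 1) (γ * 1) = vv (β * 1) (γ * 1 - 1) * vv 0 1 by
          rw [← c.v_add]; congr 1 <;> ring]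
        group
      have h6 : p' * vv (β * 1) (γ * 1 - 1) * p'⁻¹ ∈ R i := by
        refine s.line_inf_Z b.toBT s.mem (conj_mem_cj (c.v_mem _ _)) ?_
        rw [← h5]
        exact hz _ (conj_mem_cj (c.v_mem _ _))
      have h7 := s.mem_R_of τ s.mem h6
      rw [mul_one] at h7
      exact sub_eq_zero.1 h7
    refine ⟨β, fun y z => ?_⟩
    rw [h3, h4, one_mul]
  choose! β hβ using key1
  have huniq : ∀ l' ∈ cj p' V, ∀ β', (∀ y z, (m⁻¹ * l' * m) * (p' * vv y z * p'⁻¹) * (m⁻¹ * l' * m)⁻¹ =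
      p' * vv (y + β' * z) z * p'⁻¹) → β' = β l' := by
    intro l' hl' β' h
    have h1 := (h 0 1).symm.trans (hβ l' hl' 0 1)
    have h2 : vv (0 + β' * 1) 1 = vv (0 + β l' * 1) 1 := by
      have := congrArg (fun x => p'⁻¹ * x * p') h1
      simpa [mul_assoc] using this
    have h3 := (c.v_inj h2).1
    rwa [zero_add, zero_add, mul_one, mul_one] at h3
  have hmul : ∀ l₁ ∈ cj p' V, ∀ l₂ ∈ cj p' V, β (l₁ * l₂) = β l₁ + β l₂ := by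
    intro l₁ h₁ l₂ h₂
    refine (huniq _ (mul_mem h₁ h₂) _ fun y z => ?_).symm
    have e1 : (m⁻¹ * (l₁ * l₂) * m) * (p' * vv y z * p'⁻¹) * (m⁻¹ * (l₁ * l₂) * m)⁻¹ =
        (m⁻¹ * l₁ * m) * ((m⁻¹ * l₂ * m) * (p' * vv y z * p'⁻¹) * (m⁻¹ * l₂ * m)⁻¹) * (m⁻¹ * l₁ * m)⁻¹ := by group
    rw [e1, hβ l₂ h₂, hβ l₁ h₁]
    congr 3
    ring
  have htor : ∀ l₁ ∈ cj p' V, ∀ a, a ≠ 0 → β ((t a)⁻¹ * l₁ * t a) = β l₁ := by
    intro l₁ h₁ a ha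
    have hta : (t a)⁻¹ * l₁ * t a ∈ cj p' V := by
      obtain ⟨y, z, rfl⟩ := (s.mem_line τ).1 h₁
      have := s.sc a⁻¹ y z (inv_ne_zero ha)
      rw [τ.inv ha, inv_inv] at this
      rw [this]
      exact conj_mem_cj (c.v_mem _ _)
    refine (huniq _ hta _ fun y z => ?_).symm
    have e1 : m⁻¹ * ((t a)⁻¹ * l₁ * t a) * m = t a * (m⁻¹ * l₁ * m) * (t a)⁻¹ := by
      have h1 := m_tor sw ha
      calc m⁻¹ * ((t a)⁻¹ * l₁ * t a) * m = (m⁻¹ * (t a)⁻¹) * l₁ * (m⁻¹ * (t a)⁻¹)⁻¹ := by group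
        _ = _ := by rw [h1]; group
    have h2 : (t a)⁻¹ * (p' * vv y z * p'⁻¹) * t a = p' * vv (a⁻¹ * y) (a⁻¹ * z) * p'⁻¹ := by
      have := s.sc a⁻¹ y z (inv_ne_zero ha)
      rwa [τ.inv ha, inv_inv] at this
    rw [e1]
    calc t a * (m⁻¹ * l₁ * m) * (t a)⁻¹ * (p' * vv y z * p'⁻¹) * (t a * (m⁻¹ * l₁ * m) * (t a)⁻¹)⁻¹
        = t a * ((m⁻¹ * l₁ * m) * ((t a)⁻¹ * (p' * vv y z * p'⁻¹) * t a) * (m⁻¹ * l₁ * m)⁻¹) * (t a)⁻¹ := by group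
      _ = p' * vv (y + β l₁ * z) z * p'⁻¹ := by
        rw [h2, hβ l₁ h₁, s.sc _ _ _ ha]
        congr 3
        · rw [mul_add, mul_inv_cancel_left₀ ha]
          have : a * (β l₁ * (a⁻¹ * z)) = β l₁ * (a * (a⁻¹ * z)) := by ring
          rw [this, mul_inv_cancel_left₀ ha]
        · rw [mul_inv_cancel_left₀ ha]
  have hzero : ∀ l₁ ∈ cj p' V, β l₁ = 0 := by
    intro l₁ h₁
    obtain ⟨a, ha, ha1⟩ := hF
    have ha1' : a + 1 ≠ 0 := by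
      intro h1
      apply ha1
      calc a = a + (1 + 1) := by rw [h2F, add_zero]
        _ = (a + 1) + 1 := by ring
        _ = 1 := by rw [h1, zero_add]
    obtain ⟨y, z, rfl⟩ := (s.mem_line τ).1 h₁
    have htt : ∀ a, a ≠ 0 → β (p' * vv (a * y) (a * z) * p'⁻¹) = β (p' * vv y z * p'⁻¹) := by
      intro a ha
      have h1 := htor _ (conj_mem_cj (c.v_mem (a * y) (a * z))) a ha
      have h2 : (t a)⁻¹ * (p' * vv (a * y) (a * z) * p'⁻¹) * t a = p' * vv y z * p'⁻¹ := by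
        have := s.sc a⁻¹ (a * y) (a * z) (inv_ne_zero ha)
        rwa [τ.inv ha, inv_inv, inv_mul_cancel_left₀ ha, inv_mul_cancel_left₀ ha] at this
      rw [h2] at h1
      exact h1.symm
    have h3 := hmul _ (conj_mem_cj (c.v_mem (a * y) (a * z))) _ (conj_mem_cj (c.v_mem y z))
    rw [← s.line_add τ, htt a ha, h2F, show a * y + y = (a + 1) * y by ring,
      show a * z + z = (a + 1) * z by ring, htt _ ha1'] at h3
    exact h3
  obtain ⟨y, z, rfl⟩ := (s.mem_line τ).1 hl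
  have h1 := hβ l' hl' y z
  rw [hzero l' hl', zero_mul, add_zero, mul_inv_eq_iff_eq_mul] at h1
  exact h1.symm

include sw in
/-- `W_N` commutes with `m⁻¹ W_N m` -/
theorem comm2 (hF : ∃ a : F, a ≠ 0 ∧ a ≠ 1) (lin : Lin V R i P vv m p') {x y : G} (hx : x ∈ WN V P)
    (hy : y ∈ WN V P) : x * (m⁻¹ * y * m) = (m⁻¹ * y * m) * x := by
  have hconj : ∀ g ∈ XX V R, ∀ d ∈ DD V R, d ∈ WN V P → g * d * g⁻¹ ∈ WN V P := by
    intro g hg d hd hd'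
    have e : g * d * g⁻¹ = (g * d * g⁻¹ * d⁻¹) * d := by group
    rw [e]
    exact mul_mem (V_le_WN V P (b.XD hg hd)) hd'
  obtain ⟨l, hl, d, hd, hd', rfl⟩ := s.WN_fact b hx
  obtain ⟨l', hl', d', hd2, hd2', rfl⟩ := s.WN_fact b hy
  have hmd' : m⁻¹ * d' * m ∈ WN V P := by
    have := hconj m⁻¹ (inv_mem sw.mX) d' hd2 hd2'
    rwa [inv_inv] at this
  have c1 : ∀ x ∈ WN V P, x * (m⁻¹ * d' * m) = (m⁻¹ * d' * m) * x := fun x hx => s.WN_comm b hx hmd'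
  have c2 : d * (m⁻¹ * l' * m) = (m⁻¹ * l' * m) * d := by
    have h1 := s.WN_comm b (hconj m sw.mX d hd hd') (line_le_WN s.mem hl')
    calc d * (m⁻¹ * l' * m) = m⁻¹ * ((m * d * m⁻¹) * l') * m := by group
      _ = m⁻¹ * (l' * (m * d * m⁻¹)) * m := by rw [h1]
      _ = _ := by group
  have c3 := s.vx b τ sw c hF lin hl hl'
  have e1 : m⁻¹ * (l' * d') * m = (m⁻¹ * l' * m) * (m⁻¹ * d' * m) := by group
  rw [e1]
  have C1 : Commute (l * d) (m⁻¹ * l' * m) := Commute.mul_left c3 c2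
  have C2 : Commute (l * d) (m⁻¹ * d' * m) := c1 _ hx
  exact (C1.mul_right C2).eq

include sw in
/-- `Σ` is generated by `W_N` and the `W_i`-conjugates of `V_2' = m⁻¹ V' m` -/
theorem S0_le (hXV : XX V R ⊓ centralizer (V : Set G) ≤ YY V R) {K : Subgroup G} (hW : WN V P ≤ K)
    (h : ∀ w ∈ WW V (R i), ∀ x ∈ cj p' V, w * (m⁻¹ * x * m) * w⁻¹ ∈ K) : S0 V R P ≤ K := by
  refine iSup_le fun ⟨x, hx⟩ => ?_
  change cj x (WN V P) ≤ K
  obtain ⟨k, hk⟩ := b.perm x (b.X_le_NV hx) i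
  by_cases hki : k = i
  · subst hki
    rw [cj_eq_self_iff.2 (s.nx b τ c hXV hx hk)]
    exact hW
  obtain ⟨w, hw, e⟩ := b.trans i (Ne.symm s.hij) hki
  have h1 : x⁻¹ * (w * m⁻¹) ∈ normalizer (WN V P : Set G) := by
    refine s.nx b τ c hXV (mul_mem (inv_mem hx) (mul_mem (W_le_X V R i hw) (inv_mem sw.mX))) ?_
    rw [cj_mul, cj_mul, ← sw.m2, cj_inv_cj, e, ← hk, cj_inv_cj, sw.m2]
  have h2 : cj x (WN V P) = cj (w * m⁻¹) (WN V P) := by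
    have h3 : cj x (cj (x⁻¹ * (w * m⁻¹)) (WN V P)) = cj (w * m⁻¹) (WN V P) := by
      rw [← cj_mul, mul_inv_cancel_left]
    rw [← h3, cj_eq_self_iff.2 h1]
  rw [h2, cj_le_iff]
  intro y hy
  obtain ⟨l, hl, d, hd, hd', rfl⟩ := s.WN_fact b hy
  have e1 : w * m⁻¹ * (l * d) * (w * m⁻¹)⁻¹ = (w * (m⁻¹ * l * m) * w⁻¹) * (w * (m⁻¹ * d * m) * w⁻¹) := by group
  rw [e1]
  refine mul_mem (h w hw l hl) (hW ?_)
  refine conj_mem_of_normalizer (P_norm_WN (s.QP (b.W_le_Q i hw))) ?_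
  have e2 : m⁻¹ * d * m = (m⁻¹ * d * m⁻¹⁻¹ * d⁻¹) * d := by group
  rw [e2]
  exact mul_mem (V_le_WN V P (b.XD (inv_mem sw.mX) hd)) hd'

include sw in
/-- `Σ` is abelian -/
theorem S0_comm (hF : ∃ a : F, a ≠ 0 ∧ a ≠ 1) (lin : Lin V R i P vv m p')
    (hXV : XX V R ⊓ centralizer (V : Set G) ≤ YY V R) {x y : G} (hx : x ∈ S0 V R P) (hy : y ∈ S0 V R P) :
    x * y = y * x := by
  have h1 : S0 V R P ≤ centralizer (WN V P : Set G) := by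
    refine s.S0_le b τ sw c hXV (fun x hx => ?_) (fun w hw l hl => ?_)
    · rw [mem_centralizer_iff]
      exact fun y hy => s.WN_comm b hy hx
    · rw [mem_centralizer_iff]
      intro y hy
      have hy' : w⁻¹ * y * w ∈ WN V P := conj_inv_mem_of_normalizer (P_norm_WN (s.QP (b.W_le_Q i hw))) hy
      have h2 := s.comm2 b τ sw c hF lin hy' (line_le_WN s.mem hl)
      calc y * (w * (m⁻¹ * l * m) * w⁻¹) = w * ((w⁻¹ * y * w) * (m⁻¹ * l * m)) * w⁻¹ := by group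
        _ = w * ((m⁻¹ * l * m) * (w⁻¹ * y * w)) * w⁻¹ := by rw [h2]
        _ = _ := by group
  have h2 : S0 V R P ≤ centralizer (S0 V R P : Set G) := by
    rw [le_centralizer_iff]
    refine iSup_le fun ⟨g, hg⟩ => ?_
    change cj g (WN V P) ≤ _
    intro y hy
    rw [mem_centralizer_iff]
    intro z hz
    have hz' : g⁻¹ * z * g ∈ S0 V R P := conj_inv_mem_of_normalizer (X_norm_S0 hg) hz
    have h3 := mem_centralizer_iff.1 (h1 hz') _ (mem_cj.1 hy)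
    calc z * y = g * ((g⁻¹ * z * g) * (g⁻¹ * y * g)) * g⁻¹ := by group
      _ = g * ((g⁻¹ * y * g) * (g⁻¹ * z * g)) * g⁻¹ := by rw [h3]
      _ = y * z := by group
  exact (mem_centralizer_iff.1 (h2 hx) y hy).symm

include sw in
/-- `Σ` is elementary abelian -/
theorem S0_sq (hF : ∃ a : F, a ≠ 0 ∧ a ≠ 1) (lin : Lin V R i P vv m p')
    (hXV : XX V R ⊓ centralizer (V : Set G) ≤ YY V R) {x : G} (hx : x ∈ S0 V R P) : x * x = 1 := by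
  let T : Subgroup G :=
    { carrier := {x | x ∈ S0 V R P ∧ x * x = 1}
      one_mem' := ⟨one_mem _, by rw [one_mul]⟩
      mul_mem' := by
        rintro x y ⟨hx, hx'⟩ ⟨hy, hy'⟩
        refine ⟨mul_mem hx hy, ?_⟩
        have h1 := s.S0_comm b τ sw c hF lin hXV hy hx
        calc x * y * (x * y) = x * (y * x) * y := by group
          _ = (x * x) * (y * y) := by rw [h1]; group
          _ = 1 := by rw [hx', hy', one_mul]
      inv_mem' := by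
        rintro x ⟨hx, hx'⟩
        exact ⟨inv_mem hx, by rw [← mul_inv_rev, hx', inv_one]⟩ }
  have hT : S0 V R P ≤ T := iSup_le fun ⟨g, hg⟩ y hy => by
    refine ⟨cj_WN_le_S0 hg hy, ?_⟩
    have h1 := s.WN_sq b (mem_cj.1 hy)
    calc y * y = g * ((g⁻¹ * y * g) * (g⁻¹ * y * g)) * g⁻¹ := by group
      _ = 1 := by rw [h1]; group
  exact (hT hx).2

omit τ c in
theorem S0_le_Y : S0 V R P ≤ YY V R := iSup_le fun ⟨g, hg⟩ => by
  change cj g (WN V P) ≤ _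
  rw [cj_le_iff]
  intro x hx
  exact conj_mem_of_normalizer (b.NV_le_NY (b.X_le_NV hg)) (UU_le_YY i (s.WN_le_U b hx))

section ypair

variable {E : Type u} [AddCommGroup E] [Module F E] {P1 P2 : G → E} (y : YPair V R i j w1 w2 E P1 P2)
include y

theorem P1_line (r z : F) : P1 (p' * vv r z * p'⁻¹) = z • P1 (p' * vv 0 1 * p'⁻¹) ∧ P2 (p' * vv r z * p'⁻¹) = 0 := by
  have hU : ∀ r z, p' * vv r z * p'⁻¹ ∈ UU V R i := fun r z => s.leU (conj_mem_cj (c.v_mem r z))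
  have hY : ∀ r z, p' * vv r z * p'⁻¹ ∈ YY V R := fun r z => UU_le_YY i (hU r z)
  refine ⟨?_, (y.mem_U1 _ (hY r z)).1 (hU r z)⟩
  have hR : ∀ r, P1 (p' * vv r 0 * p'⁻¹) = 0 := by
    intro r
    rw [s.line_R τ]
    exact ((y.mem_D _ (UU_le_YY i (b.R_le_U i ((c.mem_R1 _).2 ⟨r, rfl⟩)))).1
      (V_le_D V R (c.v_mem r 0))).1
  have h1 : P1 (p' * vv r z * p'⁻¹) = P1 (p' * vv 0 z * p'⁻¹) := by
    have h2 := s.line_add τ r 0 0 z
    rw [add_zero, zero_add] at h2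
    rw [h2, y.mul1 _ (hY r 0) _ (hY 0 z), hR, zero_add]
  rw [h1]
  by_cases hz : z = 0
  · rw [hz, hR, zero_smul]
  obtain ⟨A, hA, hA'⟩ := y.exists_act c b.toBT (τ.memX z hz)
  have e1 : p' * vv 0 z * p'⁻¹ = t z * (p' * vv 0 1 * p'⁻¹) * (t z)⁻¹ := by
    rw [s.sc z 0 1 hz, mul_zero, mul_one]
  rw [e1, (hA' _ (hY 0 1)).1, (y.mem_U1 _ (hY 0 1)).1 (hU 0 1), smul_zero, add_zero]
  have h3 := (hA 1 0).symm.trans (τ.act z 1 0 hz)
  simp only [mul_one, mul_zero, add_zero] at h3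
  rw [(c.v_inj h3).1]

/-- `Σ D / D = V ⊗ g` -/
theorem S0_P {x : G} (hx : x ∈ S0 V R P) : ∃ r r' : F, P1 x = r • P1 (p' * vv 0 1 * p'⁻¹) ∧
    P2 x = r' • P1 (p' * vv 0 1 * p'⁻¹) := by
  set g := P1 (p' * vv 0 1 * p'⁻¹) with hg
  let T : Subgroup G :=
    { carrier := {x | x ∈ YY V R ∧ ∃ r r' : F, P1 x = r • g ∧ P2 x = r' • g}
      one_mem' := ⟨one_mem _, 0, 0, by rw [y.one1, zero_smul], by rw [y.one2, zero_smul]⟩
      mul_mem' := by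
        rintro x z ⟨hx, r, r', h1, h2⟩ ⟨hz, q, q', h3, h4⟩
        exact ⟨mul_mem hx hz, r + q, r' + q', by rw [y.mul1 x hx z hz, h1, h3, add_smul],
          by rw [y.mul2 x hx z hz, h2, h4, add_smul]⟩
      inv_mem' := by
        rintro x ⟨hx, r, r', h1, h2⟩
        exact ⟨inv_mem hx, -r, -r', by rw [y.inv1 hx, h1, neg_smul], by rw [y.inv2 hx, h2, neg_smul]⟩ }
  have hT : S0 V R P ≤ T := iSup_le fun ⟨z, hz⟩ => by
    change cj z (WN V P) ≤ _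
    rw [cj_le_iff]
    intro x hx
    obtain ⟨l, hl, d, hd, -, rfl⟩ := s.WN_fact b hx
    obtain ⟨r, r', rfl⟩ := (s.mem_line τ).1 hl
    have hlY : p' * vv r r' * p'⁻¹ ∈ YY V R := UU_le_YY i (s.leU hl)
    have hdY := b.D_le_Y hd
    obtain ⟨h1, h2⟩ := s.P1_line b τ c y r r'
    obtain ⟨h3, h4⟩ := (y.mem_D _ hdY).1 hd
    obtain ⟨A, -, hA'⟩ := y.exists_act c b.toBT hz
    obtain ⟨h5, h6⟩ := hA' _ (mul_mem hlY hdY)
    refine ⟨conj_mem_of_normalizer (b.NV_le_NY (b.X_le_NV hz)) (mul_mem hlY hdY), ent A 0 0 * r', ent A 1 0 * r', ?_, ?_⟩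
    · rw [h5, y.mul1 _ hlY _ hdY, y.mul2 _ hlY _ hdY, h1, h2, h3, h4, add_zero, add_zero, smul_zero, add_zero, smul_smul]
    · rw [h6, y.mul1 _ hlY _ hdY, y.mul2 _ hlY _ hdY, h1, h2, h3, h4, add_zero, add_zero, smul_zero, add_zero, smul_smul]
  exact (hT hx).2

/-- `Σ ∩ D Z_i ≤ D` -/
theorem S0_DZ (hF : ∃ a : F, a ≠ 0 ∧ a ≠ 1) {x : G} (hx : x ∈ S0 V R P) (hz : x ∈ DZ V R i) : x ∈ DD V R := by
  obtain ⟨r, r', h1, h2⟩ := s.S0_P b τ c y hx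
  have hxY := s.S0_le_Y b hx
  have hxU : x ∈ UU V R i := by
    obtain ⟨d, hd, z, hz, rfl⟩ := hz
    exact mul_mem (b.D_le_U i hd) (b.Z_le_U i hz)
  obtain ⟨h3, h4⟩ := s.P1_line b τ c y 0 r
  have hlY : p' * vv 0 r * p'⁻¹ ∈ YY V R := UU_le_YY i (s.leU (conj_mem_cj (c.v_mem _ _)))
  have h5 : (p' * vv 0 r * p'⁻¹)⁻¹ * x ∈ DD V R := by
    rw [y.eq_iff hxY hlY, h3, h4, h1]
    exact ⟨rfl, (y.mem_U1 _ hxY).1 hxU⟩
  have h6 : p' * vv 0 r * p'⁻¹ ∈ R i := by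
    refine s.cap b τ hF (conj_mem_cj (c.v_mem _ _)) ?_
    have e : p' * vv 0 r * p'⁻¹ = x * ((p' * vv 0 r * p'⁻¹)⁻¹ * x)⁻¹ := by group
    rw [e]
    exact mul_mem hz ⟨_, inv_mem h5, 1, one_mem _, by rw [mul_one]⟩
  have e : x = (p' * vv 0 r * p'⁻¹) * ((p' * vv 0 r * p'⁻¹)⁻¹ * x) := by group
  rw [e]
  exact mul_mem (V_le_D V R (b.R_le i h6)) h5

/-- `Σ ∩ Z_i = R i Ψ'` -/
theorem S0_Z (hF : ∃ a : F, a ≠ 0 ∧ a ≠ 1) {x : G} (hx : x ∈ S0 V R P) (hz : x ∈ ZZ V R i) :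
    ∃ a ∈ R i, a * x ∈ Psi' V R P := by
  have h1 := s.S0_DZ b τ c y hF hx ⟨1, one_mem _, x, hz, by rw [one_mul]⟩
  obtain ⟨a, ha, h2⟩ := b.Z_inf_D hz h1
  exact ⟨a, ha, mem_inf.2 ⟨mul_mem (WN_le_S0 (V_le_WN V P (b.R_le i ha))) hx, h2⟩⟩

include sw in
/-- `Σ = V_2' W_N Ψ'` -/
theorem S0_fact (hF : ∃ a : F, a ≠ 0 ∧ a ≠ 1) (hXV : XX V R ⊓ centralizer (V : Set G) ≤ YY V R)
    (hK2 : ∀ w ∈ WW V (R i), ∀ x ∈ cj p' V, ∃ n ∈ WN V P, ∃ z ∈ ZZ V R i,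
      w * (m⁻¹ * x * m) * w⁻¹ * (m⁻¹ * x * m)⁻¹ = n * z)
    {x : G} (hx : x ∈ S0 V R P) : ∃ l ∈ cj p' V, ∃ n ∈ WN V P, ∃ ψ ∈ Psi' V R P, x = (m⁻¹ * l * m) * n * ψ := by
  let T : Subgroup G :=
    { carrier := {x | ∃ l ∈ cj p' V, ∃ n ∈ WN V P, ∃ z ∈ ZZ V R i, x = (m⁻¹ * l * m) * n * z}
      one_mem' := ⟨1, one_mem _, 1, one_mem _, 1, one_mem _, by group⟩
      mul_mem' := by
        rintro _ _ ⟨l, hl, n, hn, z, hz, rfl⟩ ⟨l', hl', n', hn', z', hz', rfl⟩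
        have hu := conj_U' b sw (s.leU hl')
        set u := m⁻¹ * l' * m with hue
        have huP := s.UP hu
        have h1 : u⁻¹ * n * u ∈ WN V P := conj_inv_mem_of_normalizer (P_norm_WN huP) hn
        have h2 : u⁻¹ * z * u ∈ ZZ V R i := conj_inv_mem_of_normalizer (N_le_NZ i (s.P_le_N huP)) hz
        refine ⟨l * l', mul_mem hl hl', (u⁻¹ * n * u) * n', mul_mem h1 hn', (u⁻¹ * z * u) * z', mul_mem h2 hz', ?_⟩
        have h3 := z_comm h2 (s.WN_le_W hn')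
        calc m⁻¹ * l * m * n * z * (u * n' * z') = (m⁻¹ * l * m) * u * (u⁻¹ * n * u) * ((u⁻¹ * z * u) * n') * z' := by
              group
          _ = (m⁻¹ * l * m) * u * (u⁻¹ * n * u) * (n' * (u⁻¹ * z * u)) * z' := by rw [h3]
          _ = _ := by rw [hue]; group
      inv_mem' := by
        rintro _ ⟨l, hl, n, hn, z, hz, rfl⟩
        have hu := conj_U' b sw (s.leU hl)
        set u := m⁻¹ * l * m with hue
        have huP := s.UP hu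
        refine ⟨l⁻¹, inv_mem hl, u * n⁻¹ * u⁻¹, conj_mem_of_normalizer (P_norm_WN huP) (inv_mem hn), u * z⁻¹ * u⁻¹,
          conj_mem_of_normalizer (N_le_NZ i (s.P_le_N huP)) (inv_mem hz), ?_⟩
        have h3 := z_comm (inv_mem hz) (s.WN_le_W (inv_mem hn))
        calc (u * n * z)⁻¹ = (z⁻¹ * n⁻¹) * u⁻¹ := by group
          _ = (n⁻¹ * z⁻¹) * u⁻¹ := by rw [h3]
          _ = u⁻¹ * (u * n⁻¹ * u⁻¹) * (u * z⁻¹ * u⁻¹) := by group
          _ = _ := by rw [hue]; group }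
  have hT : S0 V R P ≤ T := by
    refine s.S0_le b τ sw c hXV (fun n hn => ⟨1, one_mem _, n, hn, 1, one_mem _, by group⟩) (fun w hw l hl => ?_)
    obtain ⟨n, hn, z, hz, e⟩ := hK2 w hw l hl
    have hu := s.UP (conj_U' b sw (s.leU hl))
    set u := m⁻¹ * l * m with hue
    refine ⟨l, hl, u⁻¹ * n * u, conj_inv_mem_of_normalizer (P_norm_WN hu) hn, u⁻¹ * z * u,
      conj_inv_mem_of_normalizer (N_le_NZ i (s.P_le_N hu)) hz, ?_⟩
    calc w * u * w⁻¹ = (w * u * w⁻¹ * u⁻¹) * u := by group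
      _ = n * z * u := by rw [e]
      _ = u * (u⁻¹ * n * u) * (u⁻¹ * z * u) := by group
  obtain ⟨l, hl, n, hn, z, hz, rfl⟩ := hT hx
  have hl' : m⁻¹ * l * m ∈ S0 V R P := by
    have := cj_WN_le_S0 (P := P) (inv_mem sw.mX) (conj_mem_cj (line_le_WN s.mem hl))
    rwa [inv_inv] at this
  have hzS : z ∈ S0 V R P := by
    have e : z = ((m⁻¹ * l * m) * n)⁻¹ * ((m⁻¹ * l * m) * n * z) := by group
    rw [e]
    exact mul_mem (inv_mem (mul_mem hl' (WN_le_S0 hn))) hx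
  obtain ⟨a, ha, h1⟩ := s.S0_Z b τ c y hF hzS hz
  refine ⟨l, hl, n * a⁻¹, mul_mem hn (inv_mem (V_le_WN V P (b.R_le i ha))), a * z, h1, by group⟩

include sw in
/-- `Σ ∩ Q_i = W_N Ψ'` -/
theorem S0_Q (hF : ∃ a : F, a ≠ 0 ∧ a ≠ 1) (hXV : XX V R ⊓ centralizer (V : Set G) ≤ YY V R)
    (hK2 : ∀ w ∈ WW V (R i), ∀ x ∈ cj p' V, ∃ n ∈ WN V P, ∃ z ∈ ZZ V R i,
      w * (m⁻¹ * x * m) * w⁻¹ * (m⁻¹ * x * m)⁻¹ = n * z)
    {x : G} (hx : x ∈ S0 V R P) (hQ : x ∈ QQ (R i)) : ∃ n ∈ WN V P, ∃ ψ ∈ Psi' V R P, x = n * ψ := by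
  obtain ⟨l, hl, n, hn, ψ, hψ, rfl⟩ := s.S0_fact b τ sw c y hF hXV hK2 hx
  have hu := conj_U' b sw (s.leU hl)
  have hnQ : n ∈ QQ (R i) := b.W_le_Q i (s.WN_le_W hn)
  have hψQ : ψ ∈ QQ (R i) := b.W_le_Q i (D_le_W V R i hψ.2.1)
  have huQ : m⁻¹ * l * m ∈ QQ (R i) := by
    have e : m⁻¹ * l * m = ((m⁻¹ * l * m) * n * ψ) * ψ⁻¹ * n⁻¹ := by group
    rw [e]
    exact mul_mem (mul_mem hQ (inv_mem hψQ)) (inv_mem hnQ)
  have huD : m⁻¹ * l * m ∈ DD V R := by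
    rw [b.D_eq (Ne.symm s.hij)]
    exact mem_inf.2 ⟨UU_le_WW j hu, huQ⟩
  have hlD : l ∈ DD V R := by
    have := conj_mem_of_normalizer (b.NV_le_ND (b.X_le_NV sw.mX)) huD
    have e : m * (m⁻¹ * l * m) * m⁻¹ = l := by group
    rwa [e] at this
  have hlR : l ∈ R i := s.cap b τ hF hl ⟨l, hlD, 1, one_mem _, by rw [mul_one]⟩
  have hV : m⁻¹ * l * m ∈ V := conj_inv_mem_of_normalizer (b.X_le_NV sw.mX) (b.R_le i hlR)
  exact ⟨(m⁻¹ * l * m) * n, mul_mem (V_le_WN V P hV) hn, ψ, hψ, rfl⟩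

include sw in
/-- `Σ ∩ C(W_i) = R i Ψ'` -/
theorem S0_C [Finite G] (hF : ∃ a : F, a ≠ 0 ∧ a ≠ 1) (hXV : XX V R ⊓ centralizer (V : Set G) ≤ YY V R)
    (hK2 : ∀ w ∈ WW V (R i), ∀ x ∈ cj p' V, ∃ n ∈ WN V P, ∃ z ∈ ZZ V R i,
      w * (m⁻¹ * x * m) * w⁻¹ * (m⁻¹ * x * m)⁻¹ = n * z)
    {x : G} (hx : x ∈ S0 V R P) (hC : x ∈ centralizer (WW V (R i) : Set G)) : ∃ a ∈ R i, a * x ∈ Psi' V R P := by
  obtain ⟨n, hn, ψ, hψ, e⟩ := s.S0_Q b τ sw c y hF hXV hK2 hx (b.cen_W_le_Q i hC)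
  refine s.S0_Z b τ c y hF hx (mem_inf.2 ⟨?_, hC⟩)
  rw [e]
  exact mul_mem (s.WN_le_W hn) (D_le_W V R i hψ.2.1)

end ypair

end Sc

end Cfsg.Agent.Omega.HOneQ
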