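import Cfsg.Agent.Omega.HOneQ.SitRS4
import Cfsg.Agent.Omega.HOneQ.NoExc
import Cfsg.Agent.Omega.HOne.LayHOf
import Cfsg.Agent.Omega.HOne.SameCut

/-!
# II.0h1, SPLIT, same type, `q ≥ 4`: the socket `RsH K` of `HOne/SameCut.lean`

`rsH` : the moved components of `N(R i)/O₂(N(R i))` with their parabolic systems, from the K-facts `KRows` and the
K-side `KSideX`.
-/

set_option autoImplicit false
set_option linter.unusedSectionVars false

namespace Cfsg.Agent.Omega.HOneQ.RsHOf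

open Subgroup Cfsg Cfsg.Agent.ZN Cfsg.Agent.Omega.MinPar Cfsg.Agent.Omega.Frame
open Cfsg.Agent.Omega.FrameFF Cfsg.Agent.Omega.HOne.Main Cfsg.Agent.Omega.HOne.SameOf
open Cfsg.Agent.Omega.NatPair (NatMod)
open Cfsg.Agent.Omega.BTwo Cfsg.Agent.Omega.Lie Cfsg.Agent.Omega.Lie.Quot Cfsg.Agent.Omega.Lie.End
open Cfsg.Agent.Omega.HOneQ.ECen Cfsg.Agent.Omega.HOne.SameCut
open Cfsg.Agent.Omega.Lie.LayerMain (KRows)

universe u

variable {G : Type u} [Group G] [Finite G] {S : Sylow 2 G} {P : Subgroup G} {g : G} {F : Type} [Field F]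
  [Finite F] [CharP F 2] {N : Subgroup G} {M : NatMod F N}

/-- `U j ≰ D` -/
theorem UU_not_le (h : Sit4 S P g M) {i j : Pt M} (hij : i ≠ j) : ¬ UU N (pt M) j ≤ DD N (pt M) := by
  obtain ⟨z, hz, hzD⟩ := h.exists_ZZ' hij
  exact fun hle => hzD (hle (mem_inf.2 ⟨(mem_inf.1 hz).1, cen_W_le N (pt M j) (mem_inf.1 hz).2⟩))

/-- **The moved components with their systems**, the socket of `SameCut.lean`. -/
theorem rsH {K : Cls.{u}} (KR : KRows.{u}) (hks : KSideX.{u}) : RsH K := by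
  intro G _ _ hK S P g F _ _ _ N M h hl hfr i j v w1 w2 t c τ hSi
  have hij := c.ne
  have I := sylI_of_sylow h.bt τ (CrdOf.crd c) hij S h.le_N hSi
  have hk : ∀ L : Subgroup (HQ (pt M i)), IsComponent L → L ≤ H0 (pt M) i → IsKnownSimple' (L ⧸ center L) :=
    fun L hL _ => HOne.LayHOf.known h i L hL
  have hinn := LayerSI.innC KR h.bts c τ (h.odd i) h.four I hk
  have hodd := OddAllS.oddC h.bts c τ (h.odd i) h.four
  have hl' := hl i j hij v w1 w2 t c τ S h.le_N hSi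
  obtain ⟨n, C, J, Q, m, hfin, hne, D, ho⟩ :=
    SitRS4.exists_rsx hks h.bt τ hij h.four (h.exists_ZZ' hij) (hfr i j hij) hl' fun L hL => by
      have hh := hl'.hyp L hL
      exact NoExc.no_exc h.bts h.exists_ne c τ (h.odd i) (UU_not_le h hij) I hinn hodd
        ⟨⟨hL.1, hL.2.1⟩, hh.inf_ne_bot hL.2.2⟩ (OfLay.T_le hh.toPre)
  exact ⟨n, C, J, Q, m, hfin, hne, D, fun a => (ho a).2⟩

end Cfsg.Agent.Omega.HOneQ.RsHOf
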