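import Cfsg.Agent.Omega.Lie.Nodes.Sep

/-!
# Residues `(0, x)`, types `(sigma)` and `(beta)`, over a bare `BT V R`: the field `sep`

`z' = z z^m`, `z = t a` a torus element, `m ∈ Px ∩ C(R i)`, trivial on `S / R i`, where `S` contains the lines
`V^x`, `x ∈ Px`: `z'` is in the kernel of the panel and it is `(a², 1)` on `V`.
-/

set_option autoImplicit false

namespace Cfsg.Agent.Omega.HOneQ

open Subgroup Cfsg.Agent.Omega.BTwo Cfsg.Agent.ParSys
open Cfsg.Agent.Omega.Lie.Nodes (NodeX sep_of_ker)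

universe u v w

variable {G : Type u} [Group G] {ι : Type w} {V : Subgroup G} {R : ι → Subgroup G} {i j : ι} {F : Type v} [Field F]
  {v : F → F → G} {w1 w2 : F → G} {t : F → G} {B U Px S : Subgroup G}

/-- an element of `N(R i)`, trivial on `S / R i`, is in the kernel of the panel -/
theorem mem_Qk_of_triv [Finite G] (X : NodeX V R i B U Px) (b : BT V R) (hS : ∀ g ∈ Px, cj g V ≤ S) {z : G}
    (hz : z ∈ Px) (dg : ∀ s ∈ S, z * s * z⁻¹ * s⁻¹ ∈ R i) : z ∈ Qk B Px := by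
  intro g hg
  refine X.PV (mem_inf.2 ⟨mul_mem (mul_mem (inv_mem hg) hz) hg, ?_⟩)
  rw [Lie.Zero.mem_norm_iff]
  apply mem_normalizer_of_conj
  intro x hx
  have h1 := dg x (hS g hg hx)
  have h2 : R i ≤ cj g V := by
    rw [← cj_eq_self_iff.2 (X.PR hg)]
    exact cj_mono (b.R_le i)
  have h3 := mul_mem (h2 h1) hx
  rwa [inv_mul_cancel_right] at h3

/-- **`sep`, types `(sigma)` and `(beta)`** -/
theorem sep_four [Finite G] [CharP F 2] (b : BT V R) (c : Coord V R i j v w1 w2) (τ : Lie.TorD V R i j v t)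
    (D : Lie.Zero.Dat V R i B U) (X : NodeX V R i B U Px) (hS : ∀ g ∈ Px, cj g V ≤ S) {a : F} (ha : a ≠ 0)
    (ha1 : a ≠ 1) {m : G} (hm : m ∈ Px) (hmR : m ∈ centralizer (R i : Set G))
    (dg : ∀ s ∈ S, t a * (m * t a * m⁻¹) * s * (t a * (m * t a * m⁻¹))⁻¹ * s⁻¹ ∈ R i) :
    SepG 2 B U Px (Lie.Zero.P0 V R B) := by
  have htB : t a ∈ B := Lie.Zero.t_mem_B b D τ ha
  set z := t a * (m * t a * m⁻¹) with hz
  have hzP : z ∈ Px := mul_mem (X.le htB) (mul_mem (mul_mem hm (X.le htB)) (inv_mem hm))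
  have hzQ : z ∈ Qk B Px := mem_Qk_of_triv X b hS hzP dg
  have hVS : V ≤ S := by
    have := hS 1 (one_mem _)
    rwa [cj_one] at this
  have hmc : ∀ β, m * v β 0 * m⁻¹ = v β 0 := fun β => by
    rw [← mem_centralizer_iff.1 hmR _ ((c.mem_R1 _).2 ⟨β, rfl⟩), mul_inv_cancel_right]
  have hmc' : ∀ β, m⁻¹ * v β 0 * m = v β 0 := fun β => by
    conv_lhs => rw [← hmc β]
    group
  have hzR : ∀ β, z * v β 0 * z⁻¹ = v (a * a * β) 0 := by
    intro β
    have e : z * v β 0 * z⁻¹ = t a * (m * (t a * (m⁻¹ * v β 0 * m) * (t a)⁻¹) * m⁻¹) * (t a)⁻¹ := by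
      rw [hz]; group
    rw [e, hmc', τ.act a β 0 ha, mul_zero, hmc, τ.act a _ 0 ha, mul_zero, mul_assoc]
  have h1 : ∀ γ, ∃ ε, z * v 0 γ * z⁻¹ = v ε γ := by
    intro γ
    obtain ⟨ε, hε⟩ := (c.mem_R1 _).1 (dg _ (hVS (c.v_mem 0 γ)))
    refine ⟨ε, ?_⟩
    have h2 : z * v 0 γ * z⁻¹ = v ε 0 * v 0 γ := by rw [hε]; group
    rw [h2, ← c.v_add, add_zero, zero_add]
  choose ε hε using h1
  refine sep_of_ker b D c X hzQ (a := a * a) (d := 1) (ε := ε) (mul_ne_zero ha ha) one_ne_zero ?_ fun p r => ?_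
  · intro h1
    apply ha1
    have h2 : (a - 1) * (a - 1) = 0 := by
      have h3 : (2 : F) = 0 := CharTwo.two_eq_zero
      linear_combination h1 - (a - 1) * h3
    exact sub_eq_zero.1 (mul_self_eq_zero.1 h2)
  · have h2 : v p r = v p 0 * v 0 r := by rw [← c.v_add, add_zero, zero_add]
    have h3 : z * v p r * z⁻¹ = (z * v p 0 * z⁻¹) * (z * v 0 r * z⁻¹) := by rw [h2]; group
    rw [h3, hzR, hε, ← c.v_add, zero_add, one_mul]

end Cfsg.Agent.Omega.HOneQ
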